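import Mathlib
import Cfsg.Prelude.Def_LieExceptional

set_option autoImplicit false

namespace Cfsg.Agent.Lib.helper24

open Cfsg

universe u v

section zass

variable {G : Type u} {Ω : Type v} [Group G] [MulAction G Ω]

/-- In a Zassenhaus group, the set has more than two points. -/
theorem zass_card_ne_two [Fintype Ω] (hZ : IsZassenhausGroup G Ω) : Fintype.card Ω ≠ 2 := by
  classical
  intro h2
  obtain ⟨hfaith, -, -, ⟨g, hg1, a', b', hab', ha', hb'⟩, -⟩ := hZ
  apply hg1
  haveI := hfaith
  apply FaithfulSMul.eq_of_smul_eq_smul (α := Ω)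
  intro c
  rw [one_smul]
  have hc : c = a' ∨ c = b' := by
    by_contra hcon
    push Not at hcon
    have h3 : 2 < Fintype.card Ω := Fintype.two_lt_card_iff.mpr ⟨a', b', c, hab', hcon.1.symm, hcon.2.symm⟩
    omega
  rcases hc with rfl | rfl
  · exact ha'
  · exact hb'

/-- Counting lemma: the identity together with the elements of a point stabiliser fixing no
other point number at most `|Ω| - 1`. -/
theorem zass_kernel_card_le [Finite G] [Fintype Ω] (hZ : IsZassenhausGroup G Ω) (a b : Ω)
    (hab : a ≠ b) :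
    Nat.card {x : MulAction.stabilizer G a // x = 1 ∨ ∀ c : Ω, (x : G) • c = c → c = a} + 1
      ≤ Fintype.card Ω := by
  classical
  haveI : Fintype G := Fintype.ofFinite G
  have h3pt := hZ.2.2.1
  let S := MulAction.stabilizer G a
  let κ : S → ℕ := fun x => if (x = 1 ∨ ∀ c : Ω, (x : G) • c = c → c = a) then 1 else 0
  let f : S → ℕ := fun x => Fintype.card (MulAction.fixedBy Ω x)
  have hburn : ∑ x : S, f x = Fintype.card (Quotient (MulAction.orbitRel S Ω)) * Fintype.card S :=
    MulAction.sum_card_fixedBy_eq_card_orbits_mul_card_group S Ω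
  have horb : 2 ≤ Fintype.card (Quotient (MulAction.orbitRel S Ω)) := by
    have hne : (Quotient.mk (MulAction.orbitRel S Ω) a) ≠ Quotient.mk (MulAction.orbitRel S Ω) b := by
      intro h
      have h1 : a ∈ MulAction.orbit S b := Quotient.exact h
      obtain ⟨x, hx⟩ := h1
      have h2 : (x : G) • b = a := hx
      have h3 : (x : G) • a = a := x.2
      have h4 : (x : G) • b = (x : G) • a := by rw [h2, h3]
      exact hab (smul_left_cancel _ h4).symm
    exact Fintype.one_lt_card_iff.mpr ⟨_, _, hne⟩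
  have hf1 : f 1 = Fintype.card Ω :=
    Fintype.card_congr (Equiv.subtypeUnivEquiv (fun c => one_smul S c))
  have hκ1 : κ 1 = 1 := if_pos (Or.inl rfl)
  have hle : ∀ x ∈ (Finset.univ : Finset S).erase 1, f x + κ x ≤ 2 := by
    intro x hx
    have hx1 : x ≠ 1 := Finset.ne_of_mem_erase hx
    have hxG : (x : G) ≠ 1 := fun h => hx1 (Subtype.ext h)
    by_cases hk : (x = 1 ∨ ∀ c : Ω, (x : G) • c = c → c = a)
    · have hk' : ∀ c : Ω, (x : G) • c = c → c = a := hk.resolve_left hx1
      have h1 : f x ≤ 1 := by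
        apply Fintype.card_le_one_iff.mpr
        rintro ⟨c, hc⟩ ⟨c', hc'⟩
        apply Subtype.ext
        show c = c'
        rw [hk' c hc, hk' c' hc']
      have h2 : κ x = 1 := if_pos hk
      omega
    · have h2 : κ x = 0 := if_neg hk
      have h1 : f x ≤ 2 := by
        by_contra hcon
        push Not at hcon
        obtain ⟨⟨c₁, h₁⟩, ⟨c₂, h₂⟩, ⟨c₃, h₃⟩, h12, h13, h23⟩ := Fintype.two_lt_card_iff.mp hcon
        have e12 : c₁ ≠ c₂ := fun h => h12 (Subtype.ext h)
        have e13 : c₁ ≠ c₃ := fun h => h13 (Subtype.ext h)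
        have e23 : c₂ ≠ c₃ := fun h => h23 (Subtype.ext h)
        exact hxG (h3pt (x : G) c₁ c₂ c₃ e12 e23 e13 h₁ h₂ h₃)
      omega
  have hsum : ∑ x : S, (f x + κ x) ≤ (Fintype.card Ω + 1) + 2 * (Fintype.card S - 1) := by
    rw [← Finset.add_sum_erase Finset.univ _ (Finset.mem_univ (1 : S)), hf1, hκ1]
    have h1 : ∑ x ∈ (Finset.univ : Finset S).erase 1, (f x + κ x)
        ≤ ∑ _x ∈ (Finset.univ : Finset S).erase 1, 2 := Finset.sum_le_sum hle
    rw [Finset.sum_const, Finset.card_erase_of_mem (Finset.mem_univ _), Finset.card_univ,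
      smul_eq_mul, mul_comm] at h1
    omega
  have hκsum : ∑ x : S, κ x
      = Nat.card {x : S // x = 1 ∨ ∀ c : Ω, (x : G) • c = c → c = a} := by
    rw [Nat.card_eq_fintype_card, Fintype.card_subtype]
    simp only [κ, Finset.sum_boole, Nat.cast_id]
  rw [Finset.sum_add_distrib, hburn, hκsum] at hsum
  have hSpos : 0 < Fintype.card S := Fintype.card_pos
  have h5 : 2 * Fintype.card S ≤ Fintype.card (Quotient (MulAction.orbitRel S Ω)) * Fintype.card S :=
    Nat.mul_le_mul_right _ horb
  have hgoal : Nat.card {x : S // x = 1 ∨ ∀ c : Ω, (x : G) • c = c → c = a} + 1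
      ≤ Fintype.card Ω := by omega
  exact hgoal

/-- S0878. -/
theorem zass_point_kernel [Finite G] [Fintype Ω] (hZ : IsZassenhausGroup G Ω) (a : Ω)
    (H : Subgroup G) (hHa : H ≤ MulAction.stabilizer G a)
    (hHcard : Nat.card H + 1 = Fintype.card Ω)
    (hHfix : ∀ u ∈ H, u ≠ 1 → ∀ c : Ω, u • c = c → c = a) :
    (∀ g : G, g ∉ MulAction.stabilizer G a → ∀ u ∈ H, g * u * g⁻¹ ∈ H → u = 1) ∧
      Subgroup.normalizer (H : Set G) = MulAction.stabilizer G a := by
  classical
  have part1 : ∀ g : G, g ∉ MulAction.stabilizer G a → ∀ u ∈ H, g * u * g⁻¹ ∈ H → u = 1 := by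
    intro g hg u hu hgu
    by_contra hu1
    apply hg
    have h1 : g * u * g⁻¹ ≠ 1 := by
      intro h
      apply hu1
      have : u = g⁻¹ * (g * u * g⁻¹) * g := by group
      rw [this, h]
      group
    have h2 : (g * u * g⁻¹) • (g • a) = g • a := by
      have hua : u • a = a := hHa hu
      rw [mul_smul, mul_smul, inv_smul_smul, hua]
    exact hHfix _ hgu h1 _ h2
  refine ⟨part1, ?_⟩
  have hcardH : 0 < Nat.card H := Nat.card_pos
  have h2le : 2 ≤ Fintype.card Ω := by omega
  obtain ⟨b, hb⟩ : ∃ b : Ω, a ≠ b := by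
    by_contra hcon
    push Not at hcon
    have : Fintype.card Ω ≤ 1 := Fintype.card_le_one_iff.mpr (fun x y => by rw [← hcon x, ← hcon y])
    omega
  have hK := zass_kernel_card_le hZ a b hb
  -- the injection of `H` into the kernel set is surjective
  let ι : H → {x : MulAction.stabilizer G a // x = 1 ∨ ∀ c : Ω, (x : G) • c = c → c = a} :=
    fun u => ⟨⟨u, hHa u.2⟩, by
      by_cases hu : (u : G) = 1
      · left
        exact Subtype.ext hu
      · right
        exact hHfix u u.2 hu⟩
  have hιinj : Function.Injective ι := by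
    intro u v huv
    apply Subtype.ext
    exact congrArg (fun x => ((x.1 : MulAction.stabilizer G a) : G)) huv
  haveI : Finite {x : MulAction.stabilizer G a // x = 1 ∨ ∀ c : Ω, (x : G) • c = c → c = a} :=
    inferInstance
  have hιsurj : Function.Surjective ι := by
    have hcard : Nat.card {x : MulAction.stabilizer G a // x = 1 ∨ ∀ c : Ω, (x : G) • c = c → c = a}
        ≤ Nat.card H := by omega
    exact ((Nat.bijective_iff_injective_and_card ι).mpr
      ⟨hιinj, le_antisymm (Nat.card_le_card_of_injective ι hιinj) hcard⟩).2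
  apply le_antisymm
  · intro g hg
    by_contra hga
    have hall : ∀ u ∈ H, u = 1 := by
      intro u hu
      exact part1 g hga u hu ((Subgroup.mem_normalizer_iff.mp hg u).mp hu)
    have hH1 : Nat.card H = 1 := by
      rw [Nat.card_eq_one_iff_unique]
      exact ⟨⟨fun u v => Subtype.ext (by rw [hall u u.2, hall v v.2])⟩, ⟨1⟩⟩
    exact zass_card_ne_two hZ (by omega)
  · intro g hg
    apply Subgroup.mem_normalizer_fintype
    intro h hh
    by_cases h1 : h = 1
    · rw [h1]
      simp
    · have hgh : g * h * g⁻¹ ∈ MulAction.stabilizer G a :=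
        (MulAction.stabilizer G a).mul_mem ((MulAction.stabilizer G a).mul_mem hg (hHa hh))
          ((MulAction.stabilizer G a).inv_mem hg)
      have hfix : ∀ c : Ω, (g * h * g⁻¹) • c = c → c = a := by
        intro c hc
        have h2 : h • (g⁻¹ • c) = g⁻¹ • c := by
          have h5 := congrArg (fun t => g⁻¹ • t) hc
          simp only [mul_smul, inv_smul_smul] at h5
          exact h5
        have h3 := hHfix h hh h1 _ h2
        have hga : g • a = a := hg
        rw [← hga, ← h3, smul_inv_smul]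
      obtain ⟨u, hu⟩ := hιsurj ⟨⟨g * h * g⁻¹, hgh⟩, Or.inr hfix⟩
      have h4 : (u : G) = g * h * g⁻¹ :=
        congrArg (fun x => ((x.1 : MulAction.stabilizer G a) : G)) hu
      show g * h * g⁻¹ ∈ H
      rw [← h4]
      exact u.2

theorem zass_normalizer_of_perm [Finite G] (a b : Ω) (g : G)
    (h : (g • a = a ∧ g • b = b) ∨ (g • a = b ∧ g • b = a)) :
    g ∈ Subgroup.normalizer
      ((MulAction.stabilizer G a ⊓ MulAction.stabilizer G b : Subgroup G) : Set G) := by
  apply Subgroup.mem_normalizer_fintype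
  intro x hx
  have hxa : x • a = a := hx.1
  have hxb : x • b = b := hx.2
  rcases h with ⟨ha, hb⟩ | ⟨ha, hb⟩
  · have ha' : g⁻¹ • a = a := by rw [inv_smul_eq_iff, ha]
    have hb' : g⁻¹ • b = b := by rw [inv_smul_eq_iff, hb]
    refine ⟨?_, ?_⟩
    · show (g * x * g⁻¹) • a = a
      rw [mul_smul, mul_smul, ha', hxa, ha]
    · show (g * x * g⁻¹) • b = b
      rw [mul_smul, mul_smul, hb', hxb, hb]
  · have ha' : g⁻¹ • a = b := by rw [inv_smul_eq_iff, hb]
    have hb' : g⁻¹ • b = a := by rw [inv_smul_eq_iff, ha]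
    refine ⟨?_, ?_⟩
    · show (g * x * g⁻¹) • a = a
      rw [mul_smul, mul_smul, ha', hxb, hb]
    · show (g * x * g⁻¹) • b = b
      rw [mul_smul, mul_smul, hb', hxa, ha]

theorem zass_perm_of_fix (hZ : IsZassenhausGroup G Ω) {a b : Ω} (hab : a ≠ b) (y : G)
    (hy1 : y ≠ 1) (hya : y • a = a) (hyb : y • b = b) (g : G) (hga : y • (g • a) = g • a)
    (hgb : y • (g • b) = g • b) : (g • a = a ∧ g • b = b) ∨ (g • a = b ∧ g • b = a) := by
  have h3 := hZ.2.2.1
  have hne : g • a ≠ g • b := fun h => hab (smul_left_cancel g h)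
  have h1 : g • a = a ∨ g • a = b := by
    by_contra hcon
    push Not at hcon
    exact hy1 (h3 y a b (g • a) hab (Ne.symm hcon.2) (Ne.symm hcon.1) hya hyb hga)
  have h2 : g • b = a ∨ g • b = b := by
    by_contra hcon
    push Not at hcon
    exact hy1 (h3 y a b (g • b) hab (Ne.symm hcon.2) (Ne.symm hcon.1) hya hyb hgb)
  rcases h1 with h1 | h1 <;> rcases h2 with h2 | h2
  · exact absurd (h1.trans h2.symm) hne
  · left
    exact ⟨h1, h2⟩
  · right
    exact ⟨h1, h2⟩
  · exact absurd (h1.trans h2.symm) hne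

/-- S0879. -/
theorem zass_two_point [Finite G] [Fintype Ω] (hZ : IsZassenhausGroup G Ω) {a b : Ω}
    (hab : a ≠ b) :
    (∀ g : G, g ∉ Subgroup.normalizer
        ((MulAction.stabilizer G a ⊓ MulAction.stabilizer G b : Subgroup G) : Set G) →
      ∀ x ∈ (MulAction.stabilizer G a ⊓ MulAction.stabilizer G b : Subgroup G),
        g * x * g⁻¹ ∈ (MulAction.stabilizer G a ⊓ MulAction.stabilizer G b : Subgroup G) →
          x = 1) ∧
      ((MulAction.stabilizer G a ⊓ MulAction.stabilizer G b : Subgroup G).subgroupOf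
        (Subgroup.normalizer
          ((MulAction.stabilizer G a ⊓ MulAction.stabilizer G b : Subgroup G) : Set G))).index
        = 2 := by
  have h2t : ∀ {a b c d : Ω}, a ≠ b → c ≠ d → ∃ g : G, g • a = c ∧ g • b = d :=
    MulAction.is_two_pretransitive_iff.mp hZ.2.1
  have key : ∀ (g x : G), x ≠ 1 →
      x ∈ (MulAction.stabilizer G a ⊓ MulAction.stabilizer G b : Subgroup G) →
      g * x * g⁻¹ ∈ (MulAction.stabilizer G a ⊓ MulAction.stabilizer G b : Subgroup G) →
      (g • a = a ∧ g • b = b) ∨ (g • a = b ∧ g • b = a) := by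
    intro g x hx1 hx hgx
    have hy1 : g * x * g⁻¹ ≠ 1 := by
      intro h
      apply hx1
      have h5 : x = g⁻¹ * (g * x * g⁻¹) * g := by group
      rw [h5, h]
      group
    have hxa : x • a = a := hx.1
    have hxb : x • b = b := hx.2
    apply zass_perm_of_fix hZ hab (g * x * g⁻¹) hy1 hgx.1 hgx.2 g
    · rw [mul_smul, mul_smul, inv_smul_smul, hxa]
    · rw [mul_smul, mul_smul, inv_smul_smul, hxb]
  constructor
  · intro g hg x hx hgx
    by_contra hx1
    exact hg (zass_normalizer_of_perm a b g (key g x hx1 hx hgx))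
  · obtain ⟨g₀, hg₀, a', b', hab', ha', hb'⟩ := hZ.2.2.2.1
    obtain ⟨t', hta, htb⟩ := h2t hab' hab
    have hx₀ : t' * g₀ * t'⁻¹
        ∈ (MulAction.stabilizer G a ⊓ MulAction.stabilizer G b : Subgroup G) := by
      refine ⟨?_, ?_⟩
      · show (t' * g₀ * t'⁻¹) • a = a
        rw [← hta, mul_smul, mul_smul, inv_smul_smul, ha']
      · show (t' * g₀ * t'⁻¹) • b = b
        rw [← htb, mul_smul, mul_smul, inv_smul_smul, hb']
    have hx₀1 : t' * g₀ * t'⁻¹ ≠ 1 := by
      intro h
      apply hg₀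
      have h5 : g₀ = t'⁻¹ * (t' * g₀ * t'⁻¹) * t' := by group
      rw [h5, h]
      group
    obtain ⟨t, hta', htb'⟩ := h2t hab hab.symm
    have htN : t ∈ Subgroup.normalizer
        ((MulAction.stabilizer G a ⊓ MulAction.stabilizer G b : Subgroup G) : Set G) :=
      zass_normalizer_of_perm a b t (Or.inr ⟨hta', htb'⟩)
    rw [Subgroup.index_eq_two_iff]
    refine ⟨⟨t, htN⟩, ?_⟩
    intro s
    have hs := key (s : G) _ hx₀1 hx₀ ((Subgroup.mem_normalizer_iff.mp s.2 _).mp hx₀)
    rcases hs with ⟨hsa, hsb⟩ | ⟨hsa, hsb⟩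
    · right
      refine ⟨Subgroup.mem_subgroupOf.mpr ⟨hsa, hsb⟩, ?_⟩
      intro h
      have h1 : ((s : G) * t) • a = a := (Subgroup.mem_subgroupOf.mp h).1
      rw [mul_smul, hta', hsb] at h1
      exact hab h1.symm
    · left
      refine ⟨Subgroup.mem_subgroupOf.mpr ⟨?_, ?_⟩, ?_⟩
      · show ((s : G) * t) • a = a
        rw [mul_smul, hta', hsb]
      · show ((s : G) * t) • b = b
        rw [mul_smul, htb', hsa]
      · intro h
        have h1 : (s : G) • a = a := (Subgroup.mem_subgroupOf.mp h).1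
        rw [hsa] at h1
        exact hab h1.symm

end zass

end Cfsg.Agent.Lib.helper24
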