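import Cfsg.Agent.Lib.helper24.CharExt815
import Cfsg.Agent.Lib.helper23.Ito

set_option autoImplicit false

namespace Cfsg.Agent.Lib.helper24

open Cfsg
open scoped ComplexConjugate

universe u v

section projGroup

variable {G : Type u} [Group G] {V : Type v} [AddCommGroup V] [Module ℂ V]

/-- Scalars as units of the endomorphism ring. -/
noncomputable def scalarUnit (V : Type v) [AddCommGroup V] [Module ℂ V] :
    ℂˣ →* (Module.End ℂ V)ˣ :=
  Units.map (algebraMap ℂ (Module.End ℂ V)).toMonoidHom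

theorem scalarUnit_val (c : ℂˣ) :
    ((scalarUnit V c : (Module.End ℂ V)ˣ) : Module.End ℂ V) = (c : ℂ) • (1 : Module.End ℂ V) := by
  show algebraMap ℂ (Module.End ℂ V) (c : ℂ) = _
  rw [Algebra.algebraMap_eq_smul_one]

/-- The group of pairs `(g, P)` with `P` of determinant one intertwining `Y` and its
`g`-conjugate: a central extension of the inertia group realising the projective
representation attached to an invariant irreducible representation of a normal subgroup. -/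
def projGroup (N : Subgroup G) [hN : N.Normal] (Y : Representation ℂ N V) :
    Subgroup (G × (Module.End ℂ V)ˣ) where
  carrier := {x | LinearMap.det (x.2 : Module.End ℂ V) = 1 ∧
    ∀ n : N, (x.2 : Module.End ℂ V) * Y n = Y (MulAut.conjNormal x.1 n) * (x.2 : Module.End ℂ V)}
  mul_mem' := by
    rintro x y ⟨hx1, hx2⟩ ⟨hy1, hy2⟩
    refine ⟨?_, ?_⟩
    · show LinearMap.det (((x.2 * y.2 : (Module.End ℂ V)ˣ)) : Module.End ℂ V) = 1
      rw [Units.val_mul, map_mul, hx1, hy1, mul_one]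
    · intro n
      show ((x.2 * y.2 : (Module.End ℂ V)ˣ) : Module.End ℂ V) * Y n
        = Y (MulAut.conjNormal (x.1 * y.1) n) * ((x.2 * y.2 : (Module.End ℂ V)ˣ) : Module.End ℂ V)
      rw [Units.val_mul, mul_assoc, hy2, ← mul_assoc, hx2, mul_assoc, map_mul, MulAut.mul_apply]
  one_mem' := by
    refine ⟨?_, ?_⟩
    · show LinearMap.det ((1 : (Module.End ℂ V)ˣ) : Module.End ℂ V) = 1
      rw [Units.val_one, map_one]
    · intro n
      show ((1 : (Module.End ℂ V)ˣ) : Module.End ℂ V) * Y n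
        = Y (MulAut.conjNormal (1 : G) n) * ((1 : (Module.End ℂ V)ˣ) : Module.End ℂ V)
      rw [Units.val_one, one_mul, mul_one, map_one, MulAut.one_apply]
  inv_mem' := by
    rintro x ⟨hx1, hx2⟩
    refine ⟨?_, ?_⟩
    · show LinearMap.det ((x.2⁻¹ : (Module.End ℂ V)ˣ) : Module.End ℂ V) = 1
      have h : LinearMap.det ((x.2⁻¹ : (Module.End ℂ V)ˣ) : Module.End ℂ V)
          * LinearMap.det ((x.2 : (Module.End ℂ V)ˣ) : Module.End ℂ V) = 1 := by
        rw [← map_mul, ← Units.val_mul, inv_mul_cancel, Units.val_one, map_one]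
      rw [hx1, mul_one] at h
      exact h
    · intro n
      show ((x.2⁻¹ : (Module.End ℂ V)ˣ) : Module.End ℂ V) * Y n
        = Y (MulAut.conjNormal (x.1⁻¹) n) * ((x.2⁻¹ : (Module.End ℂ V)ˣ) : Module.End ℂ V)
      have h := hx2 (MulAut.conjNormal x.1⁻¹ n)
      have h2 : MulAut.conjNormal x.1 (MulAut.conjNormal x.1⁻¹ n) = n := by
        rw [← MulAut.mul_apply, ← map_mul, mul_inv_cancel, map_one, MulAut.one_apply]
      rw [h2] at h
      rw [Units.inv_mul_eq_iff_eq_mul, ← mul_assoc, Units.eq_mul_inv_iff_mul_eq]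
      exact h.symm

/-- The projection of the projective group onto `G`. -/
def projHom (N : Subgroup G) [hN : N.Normal] (Y : Representation ℂ N V) : projGroup N Y →* G :=
  (MonoidHom.fst G _).comp (projGroup N Y).subtype

theorem intertwine_scalar [FiniteDimensional ℂ V] {N : Type u} [Group N]
    (Y : Representation ℂ N V) [Y.IsIrreducible] (φ : N → N) (P : (Module.End ℂ V)ˣ)
    (B : Module.End ℂ V) (hP : ∀ n, (P : Module.End ℂ V) * Y n = Y (φ n) * P)
    (hB : ∀ n, B * Y n = Y (φ n) * B) : ∃ a : ℂ, B = a • (P : Module.End ℂ V) := by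
  have hT : ∀ n : N, (((P⁻¹ : (Module.End ℂ V)ˣ) : Module.End ℂ V) * B) ∘ₗ Y n
      = Y n ∘ₗ (((P⁻¹ : (Module.End ℂ V)ˣ) : Module.End ℂ V) * B) := by
    intro n
    show ((P⁻¹ : (Module.End ℂ V)ˣ) : Module.End ℂ V) * B * Y n
      = Y n * (((P⁻¹ : (Module.End ℂ V)ˣ) : Module.End ℂ V) * B)
    have h1 : Y n * ((P⁻¹ : (Module.End ℂ V)ˣ) : Module.End ℂ V)
        = ((P⁻¹ : (Module.End ℂ V)ˣ) : Module.End ℂ V) * Y (φ n) := by
      rw [Units.mul_inv_eq_iff_eq_mul, mul_assoc, Units.eq_inv_mul_iff_mul_eq]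
      exact hP n
    rw [mul_assoc, hB, ← mul_assoc, ← h1, mul_assoc]
  obtain ⟨a, ha⟩ := schur_scalar Y _ hT
  refine ⟨a, ?_⟩
  have h2 : B = (P : Module.End ℂ V) * (((P⁻¹ : (Module.End ℂ V)ˣ) : Module.End ℂ V) * B) := by
    rw [← mul_assoc, Units.mul_inv, one_mul]
  rw [h2, ha, mul_smul_comm]
  congr 1

theorem projGroup_fiber [FiniteDimensional ℂ V] (N : Subgroup G) [hN : N.Normal]
    (Y : Representation ℂ N V) [Y.IsIrreducible] {x y : G × (Module.End ℂ V)ˣ}
    (hx : x ∈ projGroup N Y) (hy : y ∈ projGroup N Y) (hxy : x.1 = y.1) :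
    ∃ ζ : ℂˣ, ζ ^ Module.finrank ℂ V = 1 ∧ x.2 = scalarUnit V ζ * y.2 := by
  obtain ⟨a, ha⟩ := intertwine_scalar Y (fun n => MulAut.conjNormal y.1 n) y.2
    (x.2 : Module.End ℂ V) hy.2 (by intro n; rw [← hxy]; exact hx.2 n)
  have hdet : a ^ Module.finrank ℂ V = 1 := by
    have h := hx.1
    rw [ha, LinearMap.det_smul, hy.1, mul_one] at h
    exact h
  have ha0 : a ≠ 0 := by
    rintro rfl
    have hn := Cfsg.Agent.Lib.helper23.genrep_finrank_ne_zero Y
    rw [zero_pow hn] at hdet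
    exact zero_ne_one hdet
  refine ⟨Units.mk0 a ha0, ?_, ?_⟩
  · apply Units.ext
    rw [Units.val_pow_eq_pow_val, Units.val_mk0, hdet, Units.val_one]
  · apply Units.ext
    rw [Units.val_mul, scalarUnit_val, ha, Units.val_mk0, smul_mul_assoc, one_mul]

theorem projGroup_surj [Finite G] [FiniteDimensional ℂ V] (N : Subgroup G) [hN : N.Normal]
    (Y : Representation ℂ N V) [Y.IsIrreducible]
    (hinv : ∀ (g : G) (n : N), Y.character (MulAut.conjNormal g n) = Y.character n) (g : G) :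
    ∃ x ∈ projGroup N Y, x.1 = g := by
  let Yg : Representation ℂ N V := Y.comp (MulAut.conjNormal g : N ≃* N).toMonoidHom
  have hch : Y.character = Yg.character := by
    funext n
    exact (hinv g n).symm
  obtain ⟨φ⟩ := equiv_of_character_eq Y Yg hch
  let e : V ≃ₗ[ℂ] V := φ.toLinearEquiv
  let P₀ : (Module.End ℂ V)ˣ := ⟨e.toLinearMap, e.symm.toLinearMap, by ext v; simp, by ext v; simp⟩
  have hP₀ : ∀ n : N, (P₀ : Module.End ℂ V) * Y n = Y (MulAut.conjNormal g n) * P₀ := by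
    intro n
    exact φ.isIntertwining' n
  have hdet0 : LinearMap.det (P₀ : Module.End ℂ V) ≠ 0 := by
    have h : IsUnit (LinearMap.det (P₀ : Module.End ℂ V)) := (P₀.isUnit).map LinearMap.det
    exact h.ne_zero
  have hn : 0 < Module.finrank ℂ V := Nat.pos_of_ne_zero (Cfsg.Agent.Lib.helper23.genrep_finrank_ne_zero Y)
  obtain ⟨c, hc⟩ := IsAlgClosed.exists_pow_nat_eq (LinearMap.det (P₀ : Module.End ℂ V)) hn
  have hc0 : c ≠ 0 := by
    rintro rfl
    rw [zero_pow hn.ne'] at hc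
    exact hdet0 hc.symm
  refine ⟨(g, scalarUnit V (Units.mk0 c hc0)⁻¹ * P₀), ⟨?_, ?_⟩, rfl⟩
  · show LinearMap.det (((scalarUnit V (Units.mk0 c hc0)⁻¹ * P₀ : (Module.End ℂ V)ˣ))
      : Module.End ℂ V) = 1
    rw [Units.val_mul, scalarUnit_val, smul_mul_assoc, one_mul, LinearMap.det_smul, ← hc,
      Units.val_inv_eq_inv_val, Units.val_mk0, inv_pow, inv_mul_cancel₀ (pow_ne_zero _ hc0)]
  · intro n
    show ((scalarUnit V (Units.mk0 c hc0)⁻¹ * P₀ : (Module.End ℂ V)ˣ) : Module.End ℂ V) * Y n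
      = Y (MulAut.conjNormal g n)
        * ((scalarUnit V (Units.mk0 c hc0)⁻¹ * P₀ : (Module.End ℂ V)ˣ) : Module.End ℂ V)
    rw [Units.val_mul, scalarUnit_val, smul_mul_assoc, one_mul, smul_mul_assoc, hP₀,
      mul_smul_comm]

theorem projHom_surjective [Finite G] [FiniteDimensional ℂ V] (N : Subgroup G) [hN : N.Normal]
    (Y : Representation ℂ N V) [Y.IsIrreducible]
    (hinv : ∀ (g : G) (n : N), Y.character (MulAut.conjNormal g n) = Y.character n) :
    Function.Surjective (projHom N Y) := by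
  intro g
  obtain ⟨x, hx, hx1⟩ := projGroup_surj N Y hinv g
  exact ⟨⟨x, hx⟩, hx1⟩

theorem projGroup_finite [Finite G] [FiniteDimensional ℂ V] (N : Subgroup G) [hN : N.Normal]
    (Y : Representation ℂ N V) [Y.IsIrreducible]
    (hinv : ∀ (g : G) (n : N), Y.character (MulAut.conjNormal g n) = Y.character n) :
    Finite (projGroup N Y) := by
  have hn := Cfsg.Agent.Lib.helper23.genrep_finrank_ne_zero Y
  haveI : NeZero (Module.finrank ℂ V) := ⟨hn⟩
  choose s hs hs1 using projGroup_surj N Y hinv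
  let f : G × rootsOfUnity (Module.finrank ℂ V) ℂ → G × (Module.End ℂ V)ˣ :=
    fun p => (p.1, scalarUnit V (p.2 : ℂˣ) * (s p.1).2)
  have hsub : ((projGroup N Y : Subgroup _) : Set (G × (Module.End ℂ V)ˣ)) ⊆ Set.range f := by
    intro x hx
    obtain ⟨ζ, hζ, hxζ⟩ := projGroup_fiber N Y hx (hs x.1) (hs1 x.1).symm
    refine ⟨(x.1, ⟨ζ, (mem_rootsOfUnity _ _).mpr hζ⟩), ?_⟩
    apply Prod.ext
    · rfl
    · exact hxζ.symm
  exact ((Set.finite_range f).subset hsub).to_subtype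

end projGroup

section projExt

variable {G : Type u} [Group G] {V : Type v} [AddCommGroup V] [Module ℂ V]
  [FiniteDimensional ℂ V]

theorem rep_ne_zero {H : Type*} [Group H] [Nontrivial V] (Y' : Representation ℂ H V) (h : H) :
    Y' h ≠ 0 := by
  intro h0
  have h1 : Y' h * Y' h⁻¹ = 1 := by rw [← map_mul, mul_inv_cancel, map_one]
  rw [h0, zero_mul] at h1
  obtain ⟨v, hv⟩ := exists_ne (0 : V)
  have h2 := congrArg (fun T : Module.End ℂ V => T v) h1
  simp only [LinearMap.zero_apply, Module.End.one_apply] at h2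
  exact hv h2.symm

theorem smul_rep_injective {H : Type*} [Group H] [Nontrivial V] (Y' : Representation ℂ H V)
    (h : H) {a b : ℂ} (hab : a • Y' h = b • Y' h) : a = b := by
  have h0 : (a - b) • Y' h = 0 := by rw [sub_smul, hab, sub_self]
  rcases smul_eq_zero.mp h0 with h1 | h1
  · exact sub_eq_zero.mp h1
  · exact absurd h1 (rep_ne_zero Y' h)

theorem projGroup_scalar_ext (N : Subgroup G) [hN : N.Normal] (Y : Representation ℂ N V)
    [Y.IsIrreducible] (H : Subgroup G) (hNH : N ≤ H) (Y' : Representation ℂ H V)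
    (hY' : ∀ n : N, Y' ⟨n, hNH n.2⟩ = Y n) (x : G × (Module.End ℂ V)ˣ)
    (hx : x ∈ projGroup N Y) (hxH : x.1 ∈ H) :
    ∃ a : ℂˣ, (x.2 : Module.End ℂ V) = (a : ℂ) • Y' ⟨x.1, hxH⟩ := by
  haveI : Nontrivial V := Cfsg.Agent.Lib.helper23.genrep_nontrivial Y
  have hB : ∀ n : N, Y' ⟨x.1, hxH⟩ * Y n = Y (MulAut.conjNormal x.1 n) * Y' ⟨x.1, hxH⟩ := by
    intro n
    rw [← hY', ← hY', ← map_mul, ← map_mul]
    congr 1
    apply Subtype.ext
    simp [MulAut.conjNormal_apply]
  obtain ⟨b, hb⟩ := intertwine_scalar Y (fun n => MulAut.conjNormal x.1 n) x.2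
    (Y' ⟨x.1, hxH⟩) hx.2 hB
  have hb0 : b ≠ 0 := by
    rintro rfl
    rw [zero_smul] at hb
    exact rep_ne_zero Y' _ hb
  refine ⟨(Units.mk0 b hb0)⁻¹, ?_⟩
  rw [hb, Units.val_inv_eq_inv_val, Units.val_mk0, smul_smul, inv_mul_cancel₀ hb0, one_smul]

theorem projHom_mem {N : Subgroup G} [hN : N.Normal] {Y : Representation ℂ N V}
    {H : Subgroup G} {x : projGroup N Y} (h : x ∈ H.comap (projHom N Y)) : x.1.1 ∈ H := h

/-- The scalar by which the second component of an element of the projective group over `H`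
differs from a given extension `Y'` of `Y` to `H`. -/
noncomputable def projScalar (N : Subgroup G) [hN : N.Normal] (Y : Representation ℂ N V)
    [Y.IsIrreducible] (H : Subgroup G) (hNH : N ≤ H) (Y' : Representation ℂ H V)
    (hY' : ∀ n : N, Y' ⟨n, hNH n.2⟩ = Y n) : ↥(H.comap (projHom N Y)) →* ℂˣ :=
  MonoidHom.mk'
    (fun x => Classical.choose
      (projGroup_scalar_ext N Y H hNH Y' hY' x.1.1 x.1.2 (projHom_mem x.2))) (by
    intro x y
    haveI : Nontrivial V := Cfsg.Agent.Lib.helper23.genrep_nontrivial Y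
    have hx := Classical.choose_spec
      (projGroup_scalar_ext N Y H hNH Y' hY' x.1.1 x.1.2 (projHom_mem x.2))
    have hy := Classical.choose_spec
      (projGroup_scalar_ext N Y H hNH Y' hY' y.1.1 y.1.2 (projHom_mem y.2))
    have hxy := Classical.choose_spec
      (projGroup_scalar_ext N Y H hNH Y' hY' (x * y).1.1 (x * y).1.2 (projHom_mem (x * y).2))
    generalize Classical.choose
      (projGroup_scalar_ext N Y H hNH Y' hY' x.1.1 x.1.2 (projHom_mem x.2)) = a at hx ⊢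
    generalize Classical.choose
      (projGroup_scalar_ext N Y H hNH Y' hY' y.1.1 y.1.2 (projHom_mem y.2)) = b at hy ⊢
    generalize Classical.choose
      (projGroup_scalar_ext N Y H hNH Y' hY' (x * y).1.1 (x * y).1.2 (projHom_mem (x * y).2))
      = c at hxy ⊢
    apply Units.ext
    apply smul_rep_injective Y' ⟨(x * y).1.1.1, projHom_mem (x * y).2⟩
    rw [← hxy]
    have h1 : (((x * y).1.1.2 : (Module.End ℂ V)ˣ) : Module.End ℂ V)
        = ((x.1.1.2 : (Module.End ℂ V)ˣ) : Module.End ℂ V)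
          * ((y.1.1.2 : (Module.End ℂ V)ˣ) : Module.End ℂ V) := rfl
    rw [h1, hx, hy, smul_mul_smul_comm, ← map_mul, Units.val_mul]
    rfl)

theorem projScalar_spec (N : Subgroup G) [hN : N.Normal] (Y : Representation ℂ N V)
    [Y.IsIrreducible] (H : Subgroup G) (hNH : N ≤ H) (Y' : Representation ℂ H V)
    (hY' : ∀ n : N, Y' ⟨n, hNH n.2⟩ = Y n) (x : ↥(H.comap (projHom N Y))) :
    ((x.1.1.2 : (Module.End ℂ V)ˣ) : Module.End ℂ V)
      = ((projScalar N Y H hNH Y' hY' x : ℂˣ) : ℂ) • Y' ⟨x.1.1.1, projHom_mem x.2⟩ :=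
  Classical.choose_spec (projGroup_scalar_ext N Y H hNH Y' hY' x.1.1 x.1.2 (projHom_mem x.2))

theorem projScalar_eq_of (N : Subgroup G) [hN : N.Normal] (Y : Representation ℂ N V)
    [Y.IsIrreducible] (H : Subgroup G) (hNH : N ≤ H) (Y' : Representation ℂ H V)
    (hY' : ∀ n : N, Y' ⟨n, hNH n.2⟩ = Y n) (x : ↥(H.comap (projHom N Y))) (a : ℂˣ)
    (h : ((x.1.1.2 : (Module.End ℂ V)ˣ) : Module.End ℂ V)
      = (a : ℂ) • Y' ⟨x.1.1.1, projHom_mem x.2⟩) :
    projScalar N Y H hNH Y' hY' x = a := by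
  haveI : Nontrivial V := Cfsg.Agent.Lib.helper23.genrep_nontrivial Y
  apply Units.ext
  apply smul_rep_injective Y' ⟨x.1.1.1, projHom_mem x.2⟩
  rw [← projScalar_spec, h]

end projExt

/-- Isaacs 11.31: an invariant irreducible character of a normal subgroup which extends to
the preimage of a Sylow subgroup of the quotient for every prime extends to the group. -/
theorem ext_of_sylow_ext {G : Type u} [Group G] [Finite G] (N : Subgroup G) [hN : N.Normal]
    (ϑ : N → ℂ) (hϑ : IsIrrCharacter N ϑ)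
    (hinv : ∀ (g : G) (n : N), ϑ ⟨g * n * g⁻¹, hN.conj_mem (n : G) n.2 g⟩ = ϑ n)
    (hsyl : ∀ p : ℕ, p.Prime → ∃ (P : Subgroup G) (hNP : N ≤ P) (η : P → ℂ),
      Nat.Coprime P.index p ∧ (∃ k : ℕ, N.relIndex P = p ^ k) ∧ IsIrrCharacter P η ∧
        ∀ n : N, η ⟨(n : G), hNP n.2⟩ = ϑ n) :
    ∃ χ : G → ℂ, IsIrrCharacter G χ ∧ ∀ n : N, χ n = ϑ n := by
  obtain ⟨d, Y, hY, rfl⟩ := hϑ
  haveI := hY
  have hinv' : ∀ (g : G) (n : N), Y.character (MulAut.conjNormal g n) = Y.character n := by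
    intro g n
    have h := hinv g n
    have h2 : MulAut.conjNormal g n = ⟨g * n * g⁻¹, hN.conj_mem (n : G) n.2 g⟩ := by
      apply Subtype.ext
      simp
    rw [h2]
    exact h
  haveI hfin : Finite (projGroup N Y) := projGroup_finite N Y hinv'
  have hπ : Function.Surjective (projHom N Y) := projHom_surjective N Y hinv'
  haveI hNhn : (N.comap (projHom N Y)).Normal := Subgroup.Normal.comap hN _
  have hlam_inv : ∀ (γ : projGroup N Y) (n : ↥(N.comap (projHom N Y))),
      projScalar N Y N le_rfl Y (fun n => rfl)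
        ⟨γ * n * γ⁻¹, hNhn.conj_mem (n : projGroup N Y) n.2 γ⟩
      = projScalar N Y N le_rfl Y (fun n => rfl) n := by
    intro γ n
    apply projScalar_eq_of
    have hn := projScalar_spec N Y N le_rfl Y (fun n => rfl) n
    have hγ := γ.2.2 ⟨n.1.1.1, projHom_mem n.2⟩
    have hYeq : Y (MulAut.conjNormal γ.1.1 ⟨n.1.1.1, projHom_mem n.2⟩)
        = Y ⟨(γ * n * γ⁻¹ : projGroup N Y).1.1,
          projHom_mem (hNhn.conj_mem (n : projGroup N Y) n.2 γ)⟩ := by
      congr 1
    show ((γ.1.2 * n.1.1.2 * γ.1.2⁻¹ : (Module.End ℂ (Fin d → ℂ))ˣ) : Module.End ℂ (Fin d → ℂ))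
      = _
    rw [Units.val_mul, Units.val_mul, hn, mul_smul_comm, smul_mul_assoc, hγ, mul_assoc,
      Units.mul_inv, mul_one, hYeq]
  have hsyl' : ∀ p : ℕ, p.Prime → p ∣ orderOf (projScalar N Y N le_rfl Y (fun n => rfl)) →
      ∃ (H : Subgroup (projGroup N Y)) (hNH : N.comap (projHom N Y) ≤ H) (ν : H →* ℂˣ),
        Nat.Coprime H.index p ∧ ∀ n : ↥(N.comap (projHom N Y)),
          ν ⟨(n : projGroup N Y), hNH n.2⟩ = projScalar N Y N le_rfl Y (fun n => rfl) n := by
    intro p hp _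
    obtain ⟨P, hNP, η, hcop, -, hη, hηN⟩ := hsyl p hp
    obtain ⟨d', Y₁, hY₁, rfl⟩ := hη
    let Y₁N : Representation ℂ N (Fin d' → ℂ) := Y₁.comp (Subgroup.inclusion hNP)
    have hch : Y₁N.character = Y.character := by
      funext n
      exact hηN n
    obtain ⟨φ⟩ := equiv_of_character_eq Y₁N Y hch
    let e : (Fin d' → ℂ) ≃ₗ[ℂ] (Fin d → ℂ) := φ.toLinearEquiv
    let Y' : Representation ℂ P (Fin d → ℂ) :=
      { toFun := fun h => e.toLinearMap ∘ₗ Y₁ h ∘ₗ e.symm.toLinearMap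
        map_one' := by ext v; simp
        map_mul' := by intro a b; ext v; simp }
    have hY' : ∀ n : N, Y' ⟨n, hNP n.2⟩ = Y n := by
      intro n
      have h1 : e.toLinearMap ∘ₗ Y₁N n = Y n ∘ₗ e.toLinearMap := φ.isIntertwining' n
      have h2 : e.toLinearMap ∘ₗ Y₁ ⟨n, hNP n.2⟩ = Y n ∘ₗ e.toLinearMap := h1
      show e.toLinearMap ∘ₗ Y₁ ⟨n, hNP n.2⟩ ∘ₗ e.symm.toLinearMap = Y n
      rw [← LinearMap.comp_assoc, h2, LinearMap.comp_assoc]
      ext v
      simp
    refine ⟨P.comap (projHom N Y), Subgroup.comap_mono hNP, projScalar N Y P hNP Y' hY', ?_, ?_⟩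
    · rw [Subgroup.index_comap_of_surjective P hπ]
      exact hcop
    · intro n
      apply projScalar_eq_of
      have hn := projScalar_spec N Y N le_rfl Y (fun n => rfl) n
      rw [hn]
      congr 1
      exact (hY' ⟨n.1.1.1, projHom_mem n.2⟩).symm
  obtain ⟨μ, hμ⟩ := linear_ext_of_sylow (N.comap (projHom N Y))
    (projScalar N Y N le_rfl Y (fun n => rfl)) hlam_inv hsyl'
  let Φ : projGroup N Y →* Module.End ℂ (Fin d → ℂ) :=
    { toFun := fun γ => ((μ γ : ℂˣ) : ℂ)⁻¹ •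
        ((γ.1.2 : (Module.End ℂ (Fin d → ℂ))ˣ) : Module.End ℂ (Fin d → ℂ))
      map_one' := by
        show ((μ 1 : ℂˣ) : ℂ)⁻¹ • (((1 : (Module.End ℂ (Fin d → ℂ))ˣ)) : Module.End ℂ (Fin d → ℂ))
          = 1
        rw [map_one, Units.val_one, inv_one, one_smul, Units.val_one]
      map_mul' := by
        intro a b
        show ((μ (a * b) : ℂˣ) : ℂ)⁻¹ • (((a.1.2 * b.1.2 : (Module.End ℂ (Fin d → ℂ))ˣ))
          : Module.End ℂ (Fin d → ℂ)) = _
        rw [map_mul, Units.val_mul, Units.val_mul, mul_inv, smul_mul_smul_comm] }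
  have hΦker : ∀ z : projGroup N Y, projHom N Y z = 1 → Φ z = 1 := by
    intro z hz
    have hzN : z ∈ N.comap (projHom N Y) := by
      show projHom N Y z ∈ N
      rw [hz]
      exact N.one_mem
    have h1 := projScalar_spec N Y N le_rfl Y (fun n => rfl) ⟨z, hzN⟩
    have h2 : Y ⟨z.1.1, hzN⟩ = 1 := by
      have h3 : (⟨z.1.1, hzN⟩ : N) = 1 := Subtype.ext hz
      rw [h3, map_one]
    show ((μ z : ℂˣ) : ℂ)⁻¹ •
      ((z.1.2 : (Module.End ℂ (Fin d → ℂ))ˣ) : Module.End ℂ (Fin d → ℂ)) = 1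
    rw [h1, h2, ← hμ ⟨z, hzN⟩, smul_smul, inv_mul_cancel₀ (Units.ne_zero _), one_smul]
  have hΦ : ∀ γ γ' : projGroup N Y, projHom N Y γ = projHom N Y γ' → Φ γ = Φ γ' := by
    intro γ γ' h
    have h1 : Φ (γ * γ'⁻¹) = 1 := hΦker _ (by rw [map_mul, map_inv, h, mul_inv_cancel])
    have h2 : γ = (γ * γ'⁻¹) * γ' := by group
    rw [h2, map_mul, h1, one_mul]
  choose s hs using hπ
  let Y'' : Representation ℂ G (Fin d → ℂ) :=
    { toFun := fun g => Φ (s g)
      map_one' := hΦker (s 1) (hs 1)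
      map_mul' := fun a b => by
        rw [← map_mul]
        apply hΦ
        rw [map_mul, hs, hs, hs] }
  have hres : ∀ n : N, Y'' n = Y n := by
    intro n
    have hzN : s (n : G) ∈ N.comap (projHom N Y) := by
      show projHom N Y (s n) ∈ N
      rw [hs]
      exact n.2
    have h1 := projScalar_spec N Y N le_rfl Y (fun n => rfl) ⟨s n, hzN⟩
    have h2 : Y ⟨(s (n : G)).1.1, hzN⟩ = Y n := by
      congr 1
      exact Subtype.ext (hs n)
    show ((μ (s n) : ℂˣ) : ℂ)⁻¹ • (((s (n : G)).1.2 : (Module.End ℂ (Fin d → ℂ))ˣ)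
      : Module.End ℂ (Fin d → ℂ)) = Y n
    rw [h1, h2, ← hμ ⟨s n, hzN⟩, smul_smul, inv_mul_cancel₀ (Units.ne_zero _), one_smul]
  have hcomp : (Y''.comp N.subtype : Representation ℂ N (Fin d → ℂ)) = Y := MonoidHom.ext hres
  have h3 : Representation.IsIrreducible (Y''.comp N.subtype : Representation ℂ N (Fin d → ℂ)) := by
    rw [hcomp]
    exact hY
  have hirr : Y''.IsIrreducible := isIrreducible_of_comp Y'' N.subtype h3
  refine ⟨Y''.character, ⟨d, Y'', hirr, rfl⟩, ?_⟩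
  intro n
  show LinearMap.trace ℂ _ (Y'' n) = LinearMap.trace ℂ _ (Y n)
  rw [hres n]

end Cfsg.Agent.Lib.helper24
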