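import Cfsg.Agent.Lib.helper24.CharClifford
import Cfsg.Agent.Lib.helper24.CharLin
import Cfsg.Agent.Lib.helper23.CharRes

set_option autoImplicit false

namespace Cfsg.Agent.Lib.helper24

open Representation
open scoped ComplexConjugate

universe u v w

section Artin

theorem sum_filter_mem_eq' {G : Type u} [Group G] [Fintype G] (N : Subgroup G) [Fintype N]
    [DecidablePred (· ∈ N)] {M : Type*} [AddCommMonoid M] (f : G → M) :
    ∑ g ∈ Finset.univ.filter (fun g : G => g ∈ N), f g = ∑ n : N, f n := by
  rw [Finset.sum_subtype (Finset.univ.filter (fun g : G => g ∈ N)) (p := fun g => g ∈ N)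
    (by intro x; simp) f]

/-- The sum of a character over the generators of a subgroup is an integer. -/
theorem sum_generators_int {A : Type u} [Group A] [Fintype A] {ψ : A → ℂ}
    (hψ : IsCharacter A ψ) [DecidableEq (Subgroup A)] :
    ∀ (k : ℕ) (B : Subgroup A), Nat.card B = k →
      ∑ a ∈ Finset.univ.filter (fun a : A => Subgroup.zpowers a = B), ψ a
        ∈ (Int.castRingHom ℂ).range := by
  classical
  intro k
  induction k using Nat.strong_induction_on with
  | _ k ih =>
  intro B hB
  have := Fintype.ofFinite B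
  have := Fintype.ofFinite (Subgroup A)
  have hfib := Finset.sum_fiberwise_of_maps_to (s := Finset.univ.filter (fun a : A => a ∈ B))
    (t := Finset.univ.filter (fun C : Subgroup A => C ≤ B)) (g := fun a : A => Subgroup.zpowers a)
    (fun a ha => by
      rw [Finset.mem_filter] at ha ⊢
      exact ⟨Finset.mem_univ _, (Subgroup.zpowers_le).mpr ha.2⟩) ψ
  have hinner : ∀ C ∈ Finset.univ.filter (fun C : Subgroup A => C ≤ B),
      ∑ a ∈ (Finset.univ.filter (fun a : A => a ∈ B)).filter (fun a => Subgroup.zpowers a = C), ψ a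
        = ∑ a ∈ Finset.univ.filter (fun a : A => Subgroup.zpowers a = C), ψ a := by
    intro C hC
    apply Finset.sum_congr _ (fun _ _ => rfl)
    ext a
    simp only [Finset.mem_filter, Finset.mem_univ, true_and]
    constructor
    · exact fun h => h.2
    · intro h
      refine ⟨?_, h⟩
      have hCB : C ≤ B := (Finset.mem_filter.mp hC).2
      exact hCB (h ▸ Subgroup.mem_zpowers a)
  rw [Finset.sum_congr rfl hinner] at hfib
  have hBmem : B ∈ Finset.univ.filter (fun C : Subgroup A => C ≤ B) := by simp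
  rw [← Finset.add_sum_erase _ _ hBmem] at hfib
  have htot : ∑ a ∈ Finset.univ.filter (fun a : A => a ∈ B), ψ a ∈ (Int.castRingHom ℂ).range := by
    rw [sum_filter_mem_eq' B ψ]
    obtain ⟨m, hm⟩ := Cfsg.Agent.Lib.helper23.isCharacter_sum_subgroup hψ B
    rw [hm]
    exact ⟨(Nat.card B : ℤ) * (m : ℤ), by simp⟩
  have hrest : ∑ C ∈ (Finset.univ.filter (fun C : Subgroup A => C ≤ B)).erase B,
      ∑ a ∈ Finset.univ.filter (fun a : A => Subgroup.zpowers a = C), ψ a
        ∈ (Int.castRingHom ℂ).range := by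
    apply Subring.sum_mem
    intro C hC
    rw [Finset.mem_erase, Finset.mem_filter] at hC
    have hlt : Nat.card C < k := by
      rw [← hB]
      by_contra hge
      push Not at hge
      exact hC.1 (Subgroup.eq_of_le_of_card_ge hC.2.2 hge)
    exact ih _ hlt C rfl
  have := Subring.sub_mem _ htot hrest
  rw [← hfib] at this
  simpa using this

/-- Second orthogonality for an abelian group. -/
theorem second_orth_comm {A : Type u} [Group A] [Fintype A] [IsMulCommutative A]
    [Fintype (IrrCharacter A)] [DecidableEq A] (y a : A) :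
    ∑ lam : IrrCharacter A, lam.1 y * conj (lam.1 a) = if y = a then (Nat.card A : ℂ) else 0 := by
  split_ifs with h
  · subst h
    rw [second_orth_of_isConj (IsConj.refl y)]
    have : Subgroup.centralizer ({y} : Set A) = ⊤ := by
      rw [eq_top_iff]
      intro x _
      rw [Subgroup.mem_centralizer_iff]
      intro z hz
      exact mul_comm' z x
    rw [this, Subgroup.card_top]
  · apply second_orth_of_not_isConj
    intro hc
    obtain ⟨c, hc'⟩ := isConj_iff.mp hc
    apply h
    rw [← hc', mul_comm' c y, mul_assoc, mul_inv_cancel, mul_one]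

variable {G : Type u} [Group G] [Fintype G]

/-- Artin coefficient. -/
noncomputable def artinCoef (χ : G → ℂ) (A : Subgroup G) [Fintype A] [DecidableEq (Subgroup A)]
    (lam : A → ℂ) : ℂ :=
  ∑ a ∈ Finset.univ.filter (fun a : A => Subgroup.zpowers a = ⊤), χ a * conj (lam a)

theorem artinCoef_int {χ : G → ℂ} (hχ : IsCharacter G χ) (A : Subgroup G) [Fintype A]
    [DecidableEq (Subgroup A)] {lam : A → ℂ} (hlam : IsCharacter A lam) :
    ∃ z : ℤ, artinCoef χ A lam = z := by
  have hψ : IsCharacter A (fun a : A => χ a * conj (lam a)) :=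
    isCharacter_mul (isCharacter_restrict A hχ) (isCharacter_conj hlam)
  obtain ⟨z, hz⟩ := sum_generators_int hψ _ ⊤ rfl
  exact ⟨z, hz.symm⟩

omit [Fintype G] in
theorem zpowers_coe_eq_iff (A : Subgroup G) (y : A) :
    Subgroup.zpowers y = ⊤ ↔ Subgroup.zpowers (y : G) = A := by
  have h1 : (Subgroup.zpowers y).map A.subtype = Subgroup.zpowers (y : G) :=
    MonoidHom.map_zpowers A.subtype y
  have h2 : (⊤ : Subgroup A).map A.subtype = A := by
    rw [← MonoidHom.range_eq_map, Subgroup.range_subtype]
  constructor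
  · intro h
    rw [← h1, h, h2]
  · intro h
    apply Subgroup.map_injective A.subtype_injective
    rw [h1, h2, h]

omit [Fintype G] in
theorem artin_key (χ : G → ℂ) (A : Subgroup G) [Fintype A] [DecidableEq (Subgroup A)]
    [IsMulCommutative A] [Fintype (IrrCharacter A)] [DecidableEq (Subgroup G)] (y : G) :
    ∑ lam : IrrCharacter A, artinCoef χ A lam.1 * extendByZero A lam.1 y
      = if Subgroup.zpowers y = A then (Nat.card A : ℂ) * χ y else 0 := by
  classical
  by_cases hy : y ∈ A
  · have h1 : ∀ lam : IrrCharacter A, artinCoef χ A lam.1 * extendByZero A lam.1 y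
        = ∑ a ∈ Finset.univ.filter (fun a : A => Subgroup.zpowers a = ⊤),
            χ a * (lam.1 ⟨y, hy⟩ * conj (lam.1 a)) := by
      intro lam
      rw [extendByZero_apply_mem _ _ hy, artinCoef, Finset.sum_mul]
      exact Finset.sum_congr rfl (fun a _ => by ring)
    rw [Finset.sum_congr rfl (fun lam _ => h1 lam), Finset.sum_comm]
    have h2 : ∀ a : A, ∑ lam : IrrCharacter A, χ a * (lam.1 ⟨y, hy⟩ * conj (lam.1 a))
        = if (⟨y, hy⟩ : A) = a then χ a * (Nat.card A : ℂ) else 0 := by
      intro a
      rw [← Finset.mul_sum, second_orth_comm]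
      split_ifs <;> simp
    rw [Finset.sum_congr rfl (fun a _ => h2 a), Finset.sum_ite_eq]
    simp only [Finset.mem_filter, Finset.mem_univ, true_and]
    have hiff := zpowers_coe_eq_iff A ⟨y, hy⟩
    by_cases hgen : Subgroup.zpowers (⟨y, hy⟩ : A) = ⊤
    · rw [if_pos hgen, if_pos (hiff.mp hgen)]; ring
    · rw [if_neg hgen, if_neg (fun h => hgen (hiff.mpr h))]
  · have h1 : ¬ Subgroup.zpowers y = A := by
      intro h
      exact hy (h ▸ Subgroup.mem_zpowers y)
    rw [if_neg h1]
    apply Finset.sum_eq_zero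
    intro lam _
    rw [extendByZero_apply_not_mem _ _ hy, mul_zero]

theorem artin_sum_one (χ : G → ℂ) (hχ : IsClassFunction G χ) (A : Subgroup G) [Fintype A]
    [DecidableEq (Subgroup A)] [IsMulCommutative A] [Fintype (IrrCharacter A)]
    [DecidableEq (Subgroup G)] (g : G) :
    ∑ lam : IrrCharacter A, artinCoef χ A lam.1 * indFun A lam.1 g
      = ∑ x : G, if Subgroup.zpowers (x⁻¹ * g * x) = A then χ g else 0 := by
  have hA : (Nat.card A : ℂ) ≠ 0 := by exact_mod_cast (Nat.card_pos (α := A)).ne'
  have h1 : ∀ lam : IrrCharacter A, artinCoef χ A lam.1 * indFun A lam.1 g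
      = (Nat.card A : ℂ)⁻¹ * ∑ x : G, artinCoef χ A lam.1 * extendByZero A lam.1 (x⁻¹ * g * x) := by
    intro lam
    unfold indFun
    rw [← Finset.mul_sum]; ring
  rw [Finset.sum_congr rfl (fun lam _ => h1 lam), ← Finset.mul_sum, Finset.sum_comm,
    Finset.mul_sum]
  apply Finset.sum_congr rfl
  intro x _
  rw [artin_key]
  split_ifs
  · have h2 : χ (x⁻¹ * g * x) = χ g := by
      have := hχ g x⁻¹
      rwa [inv_inv] at this
    rw [h2, ← mul_assoc, inv_mul_cancel₀ hA, one_mul]
  · rw [mul_zero]

/-- Artin's induction theorem. -/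
theorem artin_induction (χ : G → ℂ) (hχ : IsCharacter G χ) :
    ∃ l : List ((A : Subgroup G) × ((A →* ℂˣ) × ℤ)), (∀ t ∈ l, IsCyclic t.1) ∧
      (Nat.card G : ℂ) • χ
        = (l.map fun t => (t.2.2 : ℂ) • indFun t.1 (fun a => (t.2.1 a : ℂ))).sum := by
  classical
  have hfinS : Fintype (Subgroup G) := Fintype.ofFinite _
  let I := Σ A : {A : Subgroup G // IsCyclic A}, IrrCharacter A.1
  have hcomm : ∀ A : {A : Subgroup G // IsCyclic A}, IsMulCommutative A.1 :=
    fun A => @IsCyclic.isMulCommutative _ _ A.2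
  have hfinA : ∀ A : {A : Subgroup G // IsCyclic A}, Fintype A.1 := fun A => Fintype.ofFinite _
  have hfinIrr : ∀ A : {A : Subgroup G // IsCyclic A}, Fintype (IrrCharacter A.1) :=
    fun A => Fintype.ofFinite _
  have hz : ∀ i : I, ∃ z : ℤ, artinCoef χ i.1.1 i.2.1 = z :=
    fun i => artinCoef_int hχ i.1.1 (isCharacter_irr i.2)
  choose z hz using hz
  let entry : I → ((A : Subgroup G) × ((A →* ℂˣ) × ℤ)) := fun i =>
    ⟨i.1.1, (@irrLinHom _ _ i.2 (@irr_one_of_comm _ _ (hcomm i.1) i.2), z i)⟩
  refine ⟨(Finset.univ : Finset I).toList.map entry, ?_, ?_⟩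
  · intro t ht
    obtain ⟨i, -, rfl⟩ := List.mem_map.mp ht
    exact i.1.2
  · rw [List.map_map, Finset.sum_map_toList]
    have hentry : ∀ i : I, ((fun t : (A : Subgroup G) × ((A →* ℂˣ) × ℤ) =>
        (t.2.2 : ℂ) • indFun t.1 (fun a => (t.2.1 a : ℂ))) ∘ entry) i
          = artinCoef χ i.1.1 i.2.1 • indFun i.1.1 i.2.1 := by
      intro i
      simp only [Function.comp_apply, entry]
      rw [hz i]
      rfl
    rw [Finset.sum_congr rfl (fun i _ => hentry i)]
    funext g
    rw [Finset.sum_apply, Pi.smul_apply, smul_eq_mul]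
    simp only [Pi.smul_apply, smul_eq_mul]
    rw [Fintype.sum_sigma]
    have hB : ∀ A : {A : Subgroup G // IsCyclic A},
        ∑ lam : IrrCharacter A.1, artinCoef χ A.1 lam.1 * indFun A.1 lam.1 g
          = ∑ x : G, if Subgroup.zpowers (x⁻¹ * g * x) = A.1 then χ g else 0 := by
      intro A
      have := hcomm A
      exact artin_sum_one χ (isCharacter_conj_class hχ) A.1 g
    rw [Finset.sum_congr rfl (fun A _ => hB A), Finset.sum_comm]
    have hC : ∀ x : G, ∑ A : {A : Subgroup G // IsCyclic A},
        (if Subgroup.zpowers (x⁻¹ * g * x) = A.1 then χ g else 0) = χ g := by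
      intro x
      have hcyc : IsCyclic (Subgroup.zpowers (x⁻¹ * g * x)) := inferInstance
      rw [Finset.sum_eq_single (⟨Subgroup.zpowers (x⁻¹ * g * x), hcyc⟩ :
        {A : Subgroup G // IsCyclic A})]
      · simp
      · intro B _ hB
        rw [if_neg]
        intro h
        exact hB (Subtype.ext h.symm)
      · intro h; exact absurd (Finset.mem_univ _) h
    rw [Finset.sum_congr rfl (fun x _ => hC x), Finset.sum_const, nsmul_eq_mul, Finset.card_univ,
      Nat.card_eq_fintype_card]

end Artin

end Cfsg.Agent.Lib.helper24
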