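import Cfsg.Agent.Lib.helper24.CharDet
import Cfsg.Agent.Lib.helper3.SchmidtB

/-! Extension of characters with prescribed determinant (Isaacs 6.24, 6.25). -/

namespace Cfsg.Agent.Lib.helper24

open Representation
open scoped ComplexConjugate

universe u v w

/-- Isaacs 6.24. -/
theorem det_ext_unique {G : Type u} [Group G] [Finite G] (N : Subgroup G) [hN : N.Normal]
    (ϑ : N → ℂ) (hϑ : IsIrrCharacter N ϑ) (d : ℕ) (hd : ϑ 1 = d)
    (hcop : Nat.Coprime N.index d)
    (hext : ∃ η : G → ℂ, IsIrrCharacter G η ∧ (∀ n : N, η n = ϑ n)) (μ : G → ℂ)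
    (hμ : IsCharacter G μ ∧ μ 1 = 1) (hμN : ∀ n : N, μ n = detChar ϑ n) :
    ∃! χ : G → ℂ, IsIrrCharacter G χ ∧ (∀ n : N, χ n = ϑ n) ∧ detChar χ = μ := by
  classical
  letI := Fintype.ofFinite G
  obtain ⟨η, hη, hηN⟩ := hext
  have hηc := isCharacter_of_isIrrCharacter hη
  have hϑeq : (fun n : N => η n) = ϑ := funext hηN
  have hηNirr : IsIrrCharacter N (fun n : N => η n) := by rw [hϑeq]; exact hϑ
  have hη1 : η 1 = d := by
    rw [← hd]; exact hηN 1
  obtain ⟨fμ, hfμ⟩ := exists_hom_of_linear hμ.1 hμ.2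
  obtain ⟨f₀, hf₀⟩ := exists_detHom hηc
  have hωN : ∀ n ∈ N, (fμ / f₀) n = 1 := by
    intro n hn
    have h1 : (fμ n : ℂ) = (f₀ n : ℂ) := by
      rw [← hfμ, ← hf₀, hμN ⟨n, hn⟩, ← hϑeq, detChar_restrict N hηc ⟨n, hn⟩]
    rw [MonoidHom.div_apply, Units.ext h1, div_self']
  have hωb : (fμ / f₀) ^ N.index = 1 := hom_pow_index_eq_one N _ hωN
  obtain ⟨z, hz1, hz2⟩ := exists_unique_root_coprime (fμ / f₀) N.index d hcop hωb
  have hβN : ∀ n ∈ N, ((fμ / f₀) ^ z) n = 1 := by
    intro n hn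
    rw [MonoidHom.zpow_apply, hωN n hn, one_zpow]
  have hbij := gallagher_quotient N η hη hηNirr
  have hdet : ∀ (f : G →* ℂˣ), detChar (fun g => (f g : ℂ) * η g)
      = fun g => (f g : ℂ) ^ d * (f₀ g : ℂ) := by
    intro f; funext g; rw [detChar_mul_linear f hηc d hη1 g, hf₀ g]
  have hlin : ∀ (f : G →* ℂˣ), (∀ n ∈ N, f n = 1) →
      IsIrrCharacter G (fun g => (f g : ℂ) * η g) ∧
        ∀ n : N, (fun g => (f g : ℂ) * η g) n = ϑ n := by
    intro f hf
    have hmem : (fun g => (f g : ℂ)) ∈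
        {β : G → ℂ | IsIrrCharacter G β ∧ ∀ n ∈ N, β n = β 1} :=
      ⟨isIrrCharacter_of_hom f, fun n hn => by simp [hf n hn]⟩
    refine ⟨(hbij.1 hmem).1, ?_⟩
    intro n
    show (f n : ℂ) * η n = ϑ n
    rw [hf n n.2, hηN n]; simp
  have hdetω : ∀ (f : G →* ℂˣ), f ^ d = fμ / f₀ → detChar (fun g => (f g : ℂ) * η g) = μ := by
    intro f hfd
    rw [hdet f]
    funext g
    rw [hfμ g]
    have h1 : (f ^ d) g = (fμ / f₀) g := by rw [hfd]
    rw [MonoidHom.pow_apply, MonoidHom.div_apply] at h1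
    have h2 : (f g) ^ d * f₀ g = fμ g := by rw [h1]; exact div_mul_cancel _ _
    rw [← h2]
    push_cast
    ring
  refine ⟨fun g => (((fμ / f₀) ^ z) g : ℂ) * η g,
    ⟨(hlin _ hβN).1, (hlin _ hβN).2, hdetω _ hz1⟩, ?_⟩
  rintro χ' ⟨hχ'irr, hχ'N, hχ'det⟩
  have hmem : χ' ∈ {ψ : G → ℂ | IsIrrCharacter G ψ ∧
      classInner (fun n : N => ψ n) (fun n : N => η n) ≠ 0} := by
    refine ⟨hχ'irr, ?_⟩
    have : (fun n : N => χ' n) = fun n : N => η n := by funext n; rw [hχ'N n, hηN n]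
    rw [this, isIrrCharacter_inner_self hηNirr]; exact one_ne_zero
  obtain ⟨β', ⟨hβ'irr, hβ'ker⟩, hβ'χ⟩ := hbij.2.2 hmem
  have hβ'1 : β' 1 = 1 := by
    have h1 := congrFun hβ'χ 1
    simp only [Pi.mul_apply] at h1
    have h2 : χ' 1 = η 1 := by
      have e1 := hχ'N 1
      have e2 := hηN 1
      simp only [OneMemClass.coe_one] at e1 e2
      rw [e1, e2]
    rw [h2] at h1
    have hne : η 1 ≠ 0 := irr_one_ne_zero ⟨η, hη⟩
    exact mul_right_cancel₀ hne (by rw [h1, one_mul])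
  obtain ⟨f', hf'⟩ := exists_hom_of_linear (isCharacter_of_isIrrCharacter hβ'irr) hβ'1
  have hf'N : ∀ n ∈ N, f' n = 1 := by
    intro n hn; apply Units.ext; rw [← hf', hβ'ker n hn, hβ'1]; rfl
  have hf'b : f' ^ N.index = 1 := hom_pow_index_eq_one N f' hf'N
  have hχ'eq : χ' = fun g => (f' g : ℂ) * η g := by
    rw [← hβ'χ]; funext g; simp [hf' g]
  have hf'd : f' ^ d = fμ / f₀ := by
    ext g
    have h1 := congrFun hχ'det g
    rw [hχ'eq, hdet f', hfμ g] at h1
    rw [MonoidHom.pow_apply, MonoidHom.div_apply]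
    have h2 : (f' g) ^ d * f₀ g = fμ g := by
      apply Units.ext
      push_cast
      exact h1
    rw [← h2, mul_div_cancel_right]
  have := hz2 f' hf'b hf'd
  rw [hχ'eq, this]

theorem detChar_hom_conj {G : Type u} [Group G] (μ : G →* ℂˣ) (g t : G) :
    μ (g * t * g⁻¹) = μ t := by
  rw [map_mul, map_mul, map_inv, mul_comm (μ g), mul_assoc, mul_inv_cancel, mul_one]

/-- Isaacs 6.25 (the nontrivial direction), by induction on the index. -/
theorem det_ext_solvable : ∀ (m : ℕ) (G : Type u) [Group G] [Finite G] (N : Subgroup G)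
    [hN : N.Normal], N.index = m → Group.IsSolvable (G ⧸ N) → ∀ (ϑ : N → ℂ),
    IsIrrCharacter N ϑ →
    (∀ (g : G) (n : N), ϑ ⟨g * n * g⁻¹, hN.conj_mem (n : G) n.2 g⟩ = ϑ n) →
    ∀ (d : ℕ), ϑ 1 = d → Nat.Coprime N.index d → ∀ μ : G →* ℂˣ,
    (∀ n : N, (μ n : ℂ) = detChar ϑ n) → ∃ χ : G → ℂ, IsIrrCharacter G χ ∧ ∀ n : N, χ n = ϑ n := by
  intro m
  induction m using Nat.strong_induction_on with
  | _ m ih =>
  intro G _ _ N hN hm hsolv ϑ hϑ hinv d hd hcop μ hμ
  by_cases hNtop : N = ⊤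
  · let e : G ≃* N := Subgroup.topEquiv.symm.trans (MulEquiv.subgroupCongr hNtop.symm)
    refine ⟨ϑ ∘ e, isIrrCharacter_comp_equiv e hϑ, ?_⟩
    intro n
    show ϑ (e n) = ϑ n
    congr 1
  · have hnt : Nontrivial (G ⧸ N) := by
      by_contra h
      rw [not_nontrivial_iff_subsingleton] at h
      exact hNtop (QuotientGroup.subgroup_eq_top_of_subsingleton N h)
    obtain ⟨Mb, hMbn, hMbp⟩ := Cfsg.Agent.Lib.helper3.exists_normal_prime_index (G ⧸ N)
    let M : Subgroup G := Mb.comap (QuotientGroup.mk' N)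
    have hMn : M.Normal := Subgroup.Normal.comap hMbn _
    have hNM : N ≤ M := by
      intro n hn
      show QuotientGroup.mk' N n ∈ Mb
      have h1 : (QuotientGroup.mk' N) n = 1 := (QuotientGroup.eq_one_iff n).mpr hn
      rw [h1]
      exact Mb.one_mem
    have hMidx : M.index = Mb.index :=
      Subgroup.index_comap_of_surjective Mb (QuotientGroup.mk'_surjective N)
    have hMp : M.index.Prime := by rw [hMidx]; exact hMbp
    let N' : Subgroup M := N.subgroupOf M
    have hN'n : N'.Normal := Subgroup.Normal.subgroupOf hN M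
    let e : N' ≃* N := Subgroup.subgroupOfEquivOfLe hNM
    have hidx : N'.index * M.index = N.index := Subgroup.relIndex_mul_index hNM
    have hN'pos : 0 < N'.index := Nat.pos_of_ne_zero Subgroup.index_ne_zero_of_finite
    have hlt : N'.index < m := by
      rw [← hm, ← hidx]
      have := hMp.one_lt
      nlinarith
    have hcop' : Nat.Coprime N'.index d :=
      Nat.Coprime.coprime_dvd_left (Dvd.intro _ hidx) hcop
    have hsolv' : Group.IsSolvable (M ⧸ N') := by
      let f : M ⧸ N' →* G ⧸ N := QuotientGroup.map N' N M.subtype (le_refl _)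
      have hf : Function.Injective f := by
        rw [injective_iff_map_eq_one]
        intro x
        induction x using QuotientGroup.induction_on with
        | _ t =>
          intro ht
          have h1 : ((t : G) : G ⧸ N) = 1 := ht
          rw [QuotientGroup.eq_one_iff] at h1
          exact (QuotientGroup.eq_one_iff t).mpr h1
      exact Group.isSolvable_of_isSolvable_injective hf
    have hϑ' : IsIrrCharacter N' (ϑ ∘ e) := isIrrCharacter_comp_equiv e hϑ
    have hinv' : ∀ (t : M) (n : N'),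
        (ϑ ∘ e) ⟨t * n * t⁻¹, hN'n.conj_mem (n : M) n.2 t⟩ = (ϑ ∘ e) n := by
      intro t n
      have := hinv (t : G) (e n)
      exact this
    have hd' : (ϑ ∘ e) 1 = d := by
      show ϑ (e 1) = d
      rw [map_one]; exact hd
    have hμ' : ∀ n : N', ((μ.comp M.subtype) (n : M) : ℂ) = detChar (ϑ ∘ e) n := by
      intro n
      have h1 : detChar (ϑ ∘ e) n = detChar ϑ (e n) :=
        detChar_comp_hom e.toMonoidHom (isCharacter_of_isIrrCharacter hϑ) n
      rw [h1]
      exact hμ (e n)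
    obtain ⟨η₀, hη₀, hη₀N⟩ := ih N'.index hlt M N' rfl hsolv' (ϑ ∘ e) hϑ' hinv' d hd' hcop'
      (μ.comp M.subtype) hμ'
    obtain ⟨η, ⟨hηirr, hηN, hηdet⟩, huniq⟩ := det_ext_unique N' (ϑ ∘ e) hϑ' d hd' hcop'
      ⟨η₀, hη₀, hη₀N⟩ (fun t => ((μ.comp M.subtype) t : ℂ))
      (isCharacter_of_hom_linear (μ.comp M.subtype)) hμ'
    have hηinv : ∀ (g : G) (t : M), η ⟨g * t * g⁻¹, hMn.conj_mem (t : G) t.2 g⟩ = η t := by
      intro g t
      have h1 : η ∘ (MulAut.conjNormal g : M ≃* M) = η := by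
        apply huniq
        refine ⟨isIrrCharacter_comp_equiv _ hηirr, ?_, ?_⟩
        · intro n
          have hmem : g * ((n : M) : G) * g⁻¹ ∈ N :=
            hN.conj_mem _ (Subgroup.mem_subgroupOf.mp n.2) g
          let n'' : N' := ⟨⟨g * ((n : M) : G) * g⁻¹, hNM hmem⟩, Subgroup.mem_subgroupOf.mpr hmem⟩
          have h2 : (MulAut.conjNormal g : M ≃* M) (n : M) = (n'' : M) := by
            apply Subtype.ext
            simp [n'']
          show η ((MulAut.conjNormal g : M ≃* M) (n : M)) = (ϑ ∘ e) n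
          rw [h2, hηN n'']
          exact hinv g (e n)
        · funext t
          have h4 : detChar (η ∘ (MulAut.conjNormal g : M ≃* M)) t
              = detChar η ((MulAut.conjNormal g : M ≃* M) t) :=
            detChar_comp_hom (MulAut.conjNormal g : M ≃* M).toMonoidHom
              (isCharacter_of_isIrrCharacter hηirr) t
          rw [h4, hηdet]
          show ((μ ((MulAut.conjNormal g : M ≃* M) t : G) : ℂˣ) : ℂ) = ((μ (t : G) : ℂˣ) : ℂ)
          rw [MulAut.conjNormal_apply, detChar_hom_conj]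
      have h3 := congrFun h1 t
      rw [← h3]
      show η _ = η ((MulAut.conjNormal g : M ≃* M) t)
      congr 1
    have hcyc : IsCyclic (G ⧸ M) := by
      haveI : Fact M.index.Prime := ⟨hMp⟩
      exact isCyclic_of_prime_card (p := M.index) (Subgroup.index_eq_card M).symm
    obtain ⟨χ, hχ, hχM⟩ := exists_irr_extension_cyclic M hcyc η hηirr hηinv
    refine ⟨χ, hχ, ?_⟩
    intro n
    have h1 := hχM ⟨(n : G), hNM n.2⟩
    have h2 := hηN ⟨⟨(n : G), hNM n.2⟩, Subgroup.mem_subgroupOf.mpr n.2⟩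
    rw [h1, h2]
    show ϑ (e _) = ϑ n
    congr 1

/-- Isaacs 6.25, statement form. -/
theorem det_ext_solvable_statement {G : Type u} [Group G] [Finite G] (N : Subgroup G)
    [hN : N.Normal] (hsolv : Group.IsSolvable (G ⧸ N)) (ϑ : N → ℂ) (hϑ : IsIrrCharacter N ϑ)
    (hinv : ∀ (g : G) (n : N), ϑ ⟨g * n * g⁻¹, hN.conj_mem (n : G) n.2 g⟩ = ϑ n) (d : ℕ)
    (hd : ϑ 1 = d) (hcop : Nat.Coprime N.index d) :
    (∃ χ : G → ℂ, IsIrrCharacter G χ ∧ (∀ n : N, χ n = ϑ n)) ↔
      ∃ μ : G → ℂ, IsCharacter G μ ∧ μ 1 = 1 ∧ ∀ n : N, μ n = detChar ϑ n := by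
  constructor
  · rintro ⟨χ, hχ, hχN⟩
    have hχc := isCharacter_of_isIrrCharacter hχ
    refine ⟨detChar χ, (detChar_linear hχc).1, (detChar_linear hχc).2, ?_⟩
    intro n
    have : ϑ = fun n : N => χ n := funext (fun n => (hχN n).symm)
    rw [this, detChar_restrict N hχc n]
  · rintro ⟨μ, hμc, hμ1, hμN⟩
    obtain ⟨f, hf⟩ := exists_hom_of_linear hμc hμ1
    exact det_ext_solvable N.index G N rfl hsolv ϑ hϑ hinv d hd hcop f
      (fun n => by rw [← hf, hμN n])

end Cfsg.Agent.Lib.helper24
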