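import Cfsg.Agent.Lib.helper24.CharBrauer7
import Cfsg.Agent.Lib.helper24.CharDet2

set_option autoImplicit false

namespace Cfsg.Agent.Lib.helper24

open Cfsg
open scoped ComplexConjugate

universe u

/-- A character whose pullback along a homomorphism is irreducible is irreducible. -/
theorem isIrrCharacter_of_comp_irr {G : Type u} [Group G] [Finite G] {H : Type u} [Group H]
    [Finite H] {χ : G → ℂ} (hχ : IsCharacter G χ) (f : H →* G)
    (h : IsIrrCharacter H (χ ∘ f)) : IsIrrCharacter G χ := by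
  obtain ⟨n, ρ, rfl⟩ := hχ
  obtain ⟨m, σ, hσ, hσχ⟩ := h
  refine ⟨n, ρ, ?_, rfl⟩
  let ρ' : Representation ℂ H (Fin n → ℂ) := ρ.comp f
  have hch : σ.character = ρ'.character := by
    rw [hσχ]
    funext x
    rfl
  obtain ⟨φ⟩ := equiv_of_character_eq σ ρ' hch
  have h2 : ρ'.IsIrreducible := isIrreducible_of_equiv (hρ := hσ) φ
  exact isIrreducible_of_comp ρ f h2

/-- A generalized character of norm one and positive degree is irreducible. -/
theorem genChar_irr_of_norm_one {G : Type u} [Group G] [Fintype G] {χ : G → ℂ}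
    (hgen : IsGeneralizedCharacter G χ) (h1 : classInner χ χ = 1) (hpos : 0 < (χ 1).re) :
    IsIrrCharacter G χ := by
  classical
  have := Fintype.ofFinite (IrrCharacter G)
  obtain ⟨χ₁, ψ₁, hχ₁, hψ₁, rfl⟩ := hgen
  have hcl : IsClassFunction G (χ₁ - ψ₁) :=
    isClassFunction_sub (isCharacter_conj_class hχ₁) (isCharacter_conj_class hψ₁)
  have hc : ∀ φ : IrrCharacter G, ∃ z : ℤ, classInner (χ₁ - ψ₁) φ.1 = z := by
    intro φ
    obtain ⟨a, ha⟩ := isCharacter_inner_irr_nat hχ₁ φ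
    obtain ⟨b, hb⟩ := isCharacter_inner_irr_nat hψ₁ φ
    refine ⟨(a : ℤ) - b, ?_⟩
    rw [classInner_sub_left, ha, hb]
    push_cast
    rfl
  choose c hc using hc
  have hexp := classFunction_expansion hcl
  have hnorm : ∑ φ : IrrCharacter G, c φ ^ 2 = 1 := by
    have : classInner (χ₁ - ψ₁) (χ₁ - ψ₁) = ((∑ φ : IrrCharacter G, c φ ^ 2 : ℤ) : ℂ) := by
      conv_lhs => rhs; rw [hexp]
      rw [classInner_sum_right]
      push_cast
      apply Finset.sum_congr rfl
      intro φ _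
      rw [classInner_smul_right, hc]
      simp
      ring
    rw [this] at h1
    exact_mod_cast h1
  have hex : ∃ a, c a ≠ 0 := by
    by_contra hne
    push Not at hne
    rw [Finset.sum_eq_zero (fun i _ => by rw [hne i]; ring)] at hnorm
    exact zero_ne_one hnorm
  obtain ⟨a, ha⟩ := hex
  have hrest : ∀ i, i ≠ a → c i = 0 := by
    intro i hia
    by_contra h0
    have h2 : c a ^ 2 + c i ^ 2 ≤ ∑ φ, c φ ^ 2 := by
      have h5 : ∑ φ ∈ ({a, i} : Finset (IrrCharacter G)), c φ ^ 2 = c a ^ 2 + c i ^ 2 :=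
        Finset.sum_pair hia.symm
      rw [← h5]
      apply Finset.sum_le_sum_of_subset_of_nonneg (Finset.subset_univ _)
      intro j _ _
      positivity
    have h3 : 0 < c a ^ 2 := by positivity
    have h4 : 0 < c i ^ 2 := by positivity
    omega
  have hca : c a ^ 2 = 1 := by
    rw [← hnorm]
    symm
    apply Finset.sum_eq_single a
    · intro b _ hb
      rw [hrest b hb]
      ring
    · intro h
      exact absurd (Finset.mem_univ a) h
  have hτ : χ₁ - ψ₁ = (c a : ℂ) • a.1 := by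
    conv_lhs => rw [hexp]
    rw [Finset.sum_eq_single a]
    · rw [hc]
    · intro b _ hb
      rw [hc, hrest b hb]
      simp
    · intro h
      exact absurd (Finset.mem_univ a) h
  have hca' : c a = 1 ∨ c a = -1 := by
    have : (c a - 1) * (c a + 1) = 0 := by nlinarith
    rcases mul_eq_zero.mp this with h | h
    · left; omega
    · right; omega
  rcases hca' with h | h
  · rw [hτ, h]
    simp only [Int.cast_one, one_smul]
    exact a.2
  · exfalso
    obtain ⟨n, hn, hn1⟩ := isIrrCharacter_one a.2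
    rw [hτ, h] at hpos
    simp only [Int.cast_neg, Int.cast_one, neg_smul, one_smul, Pi.neg_apply, hn1,
      Complex.neg_re, Complex.natCast_re] at hpos
    have : (0 : ℝ) < n := by exact_mod_cast hn
    linarith

/-- The quotient of `N ⊔ E` by `N` is solvable when `E` is. -/
theorem solvable_quotient_sup {G : Type u} [Group G] (N E : Subgroup G) [hN : N.Normal]
    [hE : Group.IsSolvable E] : Group.IsSolvable (↥(N ⊔ E) ⧸ N.subgroupOf (N ⊔ E)) := by
  have : (N.subgroupOf (N ⊔ E)).Normal := Subgroup.Normal.subgroupOf hN _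
  let φ : E →* ↥(N ⊔ E) ⧸ N.subgroupOf (N ⊔ E) :=
    (QuotientGroup.mk' _).comp (Subgroup.inclusion le_sup_right)
  have hφ : Function.Surjective φ := by
    intro x
    induction x using QuotientGroup.induction_on with
    | _ t =>
      have ht : (t : G) ∈ ((N ⊔ E : Subgroup G) : Set G) := t.2
      rw [Subgroup.normal_mul] at ht
      obtain ⟨n, hn, e, he, hne⟩ := Set.mem_mul.mp ht
      refine ⟨⟨e, he⟩, ?_⟩
      show ((Subgroup.inclusion le_sup_right ⟨e, he⟩ : ↥(N ⊔ E)) : ↥(N ⊔ E) ⧸ N.subgroupOf (N ⊔ E))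
        = (t : ↥(N ⊔ E) ⧸ N.subgroupOf (N ⊔ E))
      rw [QuotientGroup.eq, Subgroup.mem_subgroupOf]
      have h1 : (((Subgroup.inclusion le_sup_right ⟨e, he⟩ : ↥(N ⊔ E))⁻¹ * t : ↥(N ⊔ E)) : G)
          = e⁻¹ * n * e⁻¹⁻¹ := by
        show e⁻¹ * (t : G) = _
        rw [← hne, inv_inv, mul_assoc]
      rw [h1]
      exact hN.conj_mem n hn e⁻¹
  exact Group.isSolvable_of_surjective hφ

/-- The extensions of `ϑ` to a subgroup `H` containing `N` with determinant `μ`. -/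
def GoodExt {G : Type u} [Group G] (N : Subgroup G) (ϑ : N → ℂ) (μ : G →* ℂˣ) (H : Subgroup G)
    (η : H → ℂ) : Prop :=
  N ≤ H ∧ IsIrrCharacter H η ∧ (∀ (n : N) (hn : (n : G) ∈ H), η ⟨n, hn⟩ = ϑ n) ∧
    ∀ h : H, detChar η h = (μ h : ℂ)

theorem goodExt_comp {G : Type u} [Group G] [Finite G] {N : Subgroup G} {ϑ : N → ℂ}
    {μ : G →* ℂˣ} (hϑ : IsIrrCharacter N ϑ) {H K : Subgroup G} {η : K → ℂ}
    (hη : GoodExt N ϑ μ K η) (hNH : N ≤ H) (c : H →* K)
    (hcμ : ∀ h : H, μ ((c h : K) : G) = μ h)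
    (hcN : ∀ (n : N) (hn : (n : G) ∈ H), ∃ n' : N, ((c ⟨n, hn⟩ : K) : G) = n' ∧ ϑ n' = ϑ n) :
    GoodExt N ϑ μ H (η ∘ c) := by
  have hηc : IsCharacter K η := isCharacter_of_isIrrCharacter hη.2.1
  have hc : IsCharacter H (η ∘ c) := isCharacter_comp c hηc
  have hres : ∀ (n : N) (hn : (n : G) ∈ H), (η ∘ c) ⟨n, hn⟩ = ϑ n := by
    intro n hn
    obtain ⟨n', hn', hϑn'⟩ := hcN n hn
    have h1 : c ⟨n, hn⟩ = ⟨(n' : G), hη.1 n'.2⟩ := Subtype.ext hn'
    show η (c ⟨n, hn⟩) = ϑ n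
    rw [h1, hη.2.2.1 n' _, hϑn']
  refine ⟨hNH, ?_, hres, ?_⟩
  · apply isIrrCharacter_of_comp_irr hc (Subgroup.inclusion hNH)
    have : (η ∘ c) ∘ (Subgroup.inclusion hNH) = ϑ := by
      funext n
      exact hres n (hNH n.2)
    rw [this]
    exact hϑ
  · intro h
    rw [detChar_comp_hom c hηc h, hη.2.2.2 (c h), hcμ h]

theorem goodExt_unique {G : Type u} [Group G] [Finite G] (N : Subgroup G) [hN : N.Normal]
    (ϑ : N → ℂ) (hϑ : IsIrrCharacter N ϑ) (d : ℕ) (hd : ϑ 1 = d) (hcop : Nat.Coprime N.index d)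
    (μ : G →* ℂˣ) (hμ : ∀ n : N, (μ n : ℂ) = detChar ϑ n) (H : Subgroup G)
    (η₁ η₂ : H → ℂ) (h₁ : GoodExt N ϑ μ H η₁) (h₂ : GoodExt N ϑ μ H η₂) : η₁ = η₂ := by
  have hNH : N ≤ H := h₁.1
  let N' : Subgroup H := N.subgroupOf H
  have hN'n : N'.Normal := Subgroup.Normal.subgroupOf hN H
  let e : N' ≃* N := Subgroup.subgroupOfEquivOfLe hNH
  have hidx : N'.index * H.index = N.index := Subgroup.relIndex_mul_index hNH
  have hcop' : Nat.Coprime N'.index d :=
    Nat.Coprime.coprime_dvd_left (Dvd.intro _ hidx) hcop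
  have hϑ' : IsIrrCharacter N' (ϑ ∘ e) := isIrrCharacter_comp_equiv e hϑ
  have hd' : (ϑ ∘ e) 1 = d := by
    show ϑ (e 1) = d
    rw [map_one]; exact hd
  have hμ' : ∀ n : N', ((μ.comp H.subtype) (n : H) : ℂ) = detChar (ϑ ∘ e) n := by
    intro n
    have h1 : detChar (ϑ ∘ e) n = detChar ϑ (e n) :=
      detChar_comp_hom e.toMonoidHom (isCharacter_of_isIrrCharacter hϑ) n
    rw [h1]
    exact hμ (e n)
  have key : ∀ η : H → ℂ, GoodExt N ϑ μ H η →
      IsIrrCharacter H η ∧ (∀ n : N', η n = (ϑ ∘ e) n) ∧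
        detChar η = fun t => ((μ.comp H.subtype) t : ℂ) := by
    intro η hη
    refine ⟨hη.2.1, ?_, ?_⟩
    · intro n
      exact hη.2.2.1 (e n) _
    · funext t
      exact hη.2.2.2 t
  obtain ⟨η, -, huniq⟩ := det_ext_unique N' (ϑ ∘ e) hϑ' d hd' hcop'
    ⟨η₁, (key η₁ h₁).1, (key η₁ h₁).2.1⟩ (fun t => ((μ.comp H.subtype) t : ℂ))
    (isCharacter_of_hom_linear (μ.comp H.subtype)) hμ'
  rw [huniq η₁ (key η₁ h₁), huniq η₂ (key η₂ h₂)]

theorem goodExt_exists {G : Type u} [Group G] [Finite G] (N : Subgroup G) [hN : N.Normal]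
    (ϑ : N → ℂ) (hϑ : IsIrrCharacter N ϑ)
    (hinv : ∀ (g : G) (n : N), ϑ ⟨g * n * g⁻¹, hN.conj_mem (n : G) n.2 g⟩ = ϑ n)
    (d : ℕ) (hd : ϑ 1 = d) (hcop : Nat.Coprime N.index d)
    (μ : G →* ℂˣ) (hμ : ∀ n : N, (μ n : ℂ) = detChar ϑ n) (H : Subgroup G) (hNH : N ≤ H)
    (hsolv : Group.IsSolvable (H ⧸ N.subgroupOf H)) : ∃ η : H → ℂ, GoodExt N ϑ μ H η := by
  let N' : Subgroup H := N.subgroupOf H
  have hN'n : N'.Normal := Subgroup.Normal.subgroupOf hN H
  let e : N' ≃* N := Subgroup.subgroupOfEquivOfLe hNH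
  have hidx : N'.index * H.index = N.index := Subgroup.relIndex_mul_index hNH
  have hcop' : Nat.Coprime N'.index d :=
    Nat.Coprime.coprime_dvd_left (Dvd.intro _ hidx) hcop
  have hϑ' : IsIrrCharacter N' (ϑ ∘ e) := isIrrCharacter_comp_equiv e hϑ
  have hd' : (ϑ ∘ e) 1 = d := by
    show ϑ (e 1) = d
    rw [map_one]; exact hd
  have hμ' : ∀ n : N', ((μ.comp H.subtype) (n : H) : ℂ) = detChar (ϑ ∘ e) n := by
    intro n
    have h1 : detChar (ϑ ∘ e) n = detChar ϑ (e n) :=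
      detChar_comp_hom e.toMonoidHom (isCharacter_of_isIrrCharacter hϑ) n
    rw [h1]
    exact hμ (e n)
  have hinv' : ∀ (t : H) (n : N'),
      (ϑ ∘ e) ⟨t * n * t⁻¹, hN'n.conj_mem (n : H) n.2 t⟩ = (ϑ ∘ e) n := by
    intro t n
    have := hinv (t : G) (e n)
    exact this
  obtain ⟨η₀, hη₀, hη₀N⟩ := det_ext_solvable N'.index H N' rfl hsolv (ϑ ∘ e) hϑ' hinv' d hd'
    hcop' (μ.comp H.subtype) hμ'
  obtain ⟨η, ⟨hηirr, hηN, hηdet⟩, -⟩ := det_ext_unique N' (ϑ ∘ e) hϑ' d hd' hcop'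
    ⟨η₀, hη₀, hη₀N⟩ (fun t => ((μ.comp H.subtype) t : ℂ))
    (isCharacter_of_hom_linear (μ.comp H.subtype)) hμ'
  refine ⟨η, hNH, hηirr, ?_, ?_⟩
  · intro n hn
    have h2 := hηN ⟨⟨(n : G), hn⟩, Subgroup.mem_subgroupOf.mpr n.2⟩
    rw [h2]
    show ϑ (e _) = ϑ n
    congr 1
  · intro h
    rw [hηdet]
    rfl

/-- Isaacs 8.15/8.16 core: an invariant irreducible character of `N` of degree coprime to the
index extends to `G` as soon as its determinant does. -/
theorem ext_of_det_ext {G : Type u} [Group G] [Finite G] (N : Subgroup G) [hN : N.Normal]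
    (ϑ : N → ℂ) (hϑ : IsIrrCharacter N ϑ)
    (hinv : ∀ (g : G) (n : N), ϑ ⟨g * n * g⁻¹, hN.conj_mem (n : G) n.2 g⟩ = ϑ n)
    (d : ℕ) (hd : ϑ 1 = d) (hcop : Nat.Coprime N.index d)
    (μ : G →* ℂˣ) (hμ : ∀ n : N, (μ n : ℂ) = detChar ϑ n) :
    ∃ χ : G → ℂ, IsIrrCharacter G χ ∧ ∀ n : N, χ n = ϑ n := by
  classical
  haveI := Fintype.ofFinite G
  have hex : ∀ g : G, ∃ η : ↥(N ⊔ Subgroup.zpowers g) → ℂ,
      GoodExt N ϑ μ (N ⊔ Subgroup.zpowers g) η := by
    intro g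
    haveI : Group.IsSolvable (Subgroup.zpowers g) := inferInstance
    exact goodExt_exists N ϑ hϑ hinv d hd hcop μ hμ _ le_sup_left (solvable_quotient_sup N _)
  choose can hcan using hex
  have hgmem : ∀ g : G, g ∈ N ⊔ Subgroup.zpowers g := fun g =>
    (le_sup_right : Subgroup.zpowers g ≤ N ⊔ Subgroup.zpowers g) (Subgroup.mem_zpowers g)
  let χ : G → ℂ := fun g => can g ⟨g, hgmem g⟩
  have hcompat : ∀ (H : Subgroup G) (η : H → ℂ), GoodExt N ϑ μ H η → ∀ h : H, χ h = η h := by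
    intro H η hη h
    have hKH : N ⊔ Subgroup.zpowers (h : G) ≤ H := sup_le hη.1 ((Subgroup.zpowers_le).mpr h.2)
    have h1 : GoodExt N ϑ μ (N ⊔ Subgroup.zpowers (h : G)) (η ∘ Subgroup.inclusion hKH) :=
      goodExt_comp hϑ hη le_sup_left (Subgroup.inclusion hKH) (fun _ => rfl)
        (fun n hn => ⟨n, rfl, rfl⟩)
    have h2 := goodExt_unique N ϑ hϑ d hd hcop μ hμ _ _ _ (hcan (h : G)) h1
    show can (h : G) _ = η h
    rw [h2]
    rfl
  have hχN : ∀ n : N, χ n = ϑ n := fun n => (hcan (n : G)).2.2.1 n _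
  have hclass : IsClassFunction G χ := by
    intro g x
    have hHK : ∀ h : ↥(N ⊔ Subgroup.zpowers g),
        ((MulAut.conj x).toMonoidHom.comp (N ⊔ Subgroup.zpowers g).subtype) h
          ∈ N ⊔ Subgroup.zpowers (x * g * x⁻¹) := by
      have : N ⊔ Subgroup.zpowers g ≤
          (N ⊔ Subgroup.zpowers (x * g * x⁻¹)).comap (MulAut.conj x).toMonoidHom := by
        apply sup_le
        · intro n hn
          show x * n * x⁻¹ ∈ N ⊔ Subgroup.zpowers (x * g * x⁻¹)
          exact (le_sup_left : N ≤ N ⊔ Subgroup.zpowers (x * g * x⁻¹)) (hN.conj_mem n hn x)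
        · rw [Subgroup.zpowers_le]
          show x * g * x⁻¹ ∈ N ⊔ Subgroup.zpowers (x * g * x⁻¹)
          exact hgmem _
      intro h
      exact this h.2
    let c : ↥(N ⊔ Subgroup.zpowers g) →* ↥(N ⊔ Subgroup.zpowers (x * g * x⁻¹)) :=
      ((MulAut.conj x).toMonoidHom.comp (N ⊔ Subgroup.zpowers g).subtype).codRestrict _ hHK
    have h1 : GoodExt N ϑ μ (N ⊔ Subgroup.zpowers g) (can (x * g * x⁻¹) ∘ c) := by
      apply goodExt_comp hϑ (hcan (x * g * x⁻¹)) le_sup_left c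
      · intro h
        show μ (x * (h : G) * x⁻¹) = μ h
        exact detChar_hom_conj μ x h
      · intro n hn
        exact ⟨⟨x * n * x⁻¹, hN.conj_mem n n.2 x⟩, rfl, hinv x n⟩
    have h2 := goodExt_unique N ϑ hϑ d hd hcop μ hμ _ _ _ (hcan g) h1
    show can (x * g * x⁻¹) _ = can g _
    rw [h2]
    rfl
  have hE : ∀ (E : Subgroup G) (p : ℕ), p.Prime → IsElementary p E →
      IsGeneralizedCharacter E (fun e : E => χ e) := by
    intro E p hp hEl
    haveI : Fact p.Prime := ⟨hp⟩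
    haveI : Group.IsNilpotent E := isNilpotent_of_isElementary hEl
    haveI : Group.IsSolvable E := inferInstance
    obtain ⟨η, hη⟩ := goodExt_exists N ϑ hϑ hinv d hd hcop μ hμ (N ⊔ E) le_sup_left
      (solvable_quotient_sup N E)
    have h1 : (fun e : E => χ e) = η ∘ (Subgroup.inclusion (le_sup_right : E ≤ N ⊔ E)) := by
      funext e
      exact hcompat _ η hη (Subgroup.inclusion le_sup_right e)
    rw [h1]
    exact genChar_of_character (isCharacter_comp _ (isCharacter_of_isIrrCharacter hη.2.1))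
  have hgen := brauer_characterization χ hclass hE
  have hNne : (Nat.card N : ℂ) ≠ 0 := by exact_mod_cast Nat.card_pos.ne'
  have hGne : (Nat.card G : ℂ) ≠ 0 := by exact_mod_cast Nat.card_pos.ne'
  have hcoset : ∀ g : G, ∑ n : N, χ ((n : G) * g) * conj (χ ((n : G) * g)) = (Nat.card N : ℂ) := by
    intro g
    have hNH : N ≤ N ⊔ Subgroup.zpowers g := le_sup_left
    let N' : Subgroup ↥(N ⊔ Subgroup.zpowers g) := N.subgroupOf (N ⊔ Subgroup.zpowers g)
    have hN'n : N'.Normal := Subgroup.Normal.subgroupOf hN _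
    let e : N' ≃* N := Subgroup.subgroupOfEquivOfLe hNH
    have hη := hcan g
    have hηN' : IsIrrCharacter N' (fun n : N' => can g n) := by
      have : (fun n : N' => can g n) = ϑ ∘ e := by
        funext n
        exact hη.2.2.1 (e n) _
      rw [this]
      exact isIrrCharacter_comp_equiv e hϑ
    have h3 := (coset_average_statement N' (can g) hη.2.1 hηN' (can g) hη.2.1 _ rfl).2.2 rfl
    have h4 : (Nat.card N' : ℂ)⁻¹ * ∑ n : N', can g ((n : ↥(N ⊔ Subgroup.zpowers g)) * ⟨g, hgmem g⟩)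
        * conj (can g ((n : ↥(N ⊔ Subgroup.zpowers g)) * ⟨g, hgmem g⟩)) = 1 :=
      congrFun h3 ⟨g, hgmem g⟩
    have hcard : Nat.card N' = Nat.card N := Nat.card_congr e.toEquiv
    have hsum : ∑ n : N', can g ((n : ↥(N ⊔ Subgroup.zpowers g)) * ⟨g, hgmem g⟩)
        * conj (can g ((n : ↥(N ⊔ Subgroup.zpowers g)) * ⟨g, hgmem g⟩))
        = ∑ n : N, χ ((n : G) * g) * conj (χ ((n : G) * g)) := by
      rw [← Equiv.sum_comp e.toEquiv (fun n : N => χ ((n : G) * g) * conj (χ ((n : G) * g)))]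
      apply Finset.sum_congr rfl
      intro n _
      have h5 := hcompat _ (can g) hη ((n : ↥(N ⊔ Subgroup.zpowers g)) * ⟨g, hgmem g⟩)
      rw [← h5]
      rfl
    rw [hsum, hcard, inv_mul_eq_iff_eq_mul₀ hNne, mul_one] at h4
    exact h4
  have hnorm : classInner χ χ = 1 := by
    have h1 : ∀ n : N, ∑ g : G, χ ((n : G) * g) * conj (χ ((n : G) * g))
        = ∑ g : G, χ g * conj (χ g) := by
      intro n
      exact Equiv.sum_comp (Equiv.mulLeft (n : G)) (fun g => χ g * conj (χ g))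
    have h2 : ∑ n : N, ∑ g : G, χ ((n : G) * g) * conj (χ ((n : G) * g))
        = (Nat.card N : ℂ) * ∑ g : G, χ g * conj (χ g) := by
      rw [Finset.sum_congr rfl (fun n _ => h1 n), Finset.sum_const, Finset.card_univ,
        nsmul_eq_mul, Nat.card_eq_fintype_card]
    have h3 : ∑ n : N, ∑ g : G, χ ((n : G) * g) * conj (χ ((n : G) * g))
        = (Nat.card G : ℂ) * (Nat.card N : ℂ) := by
      rw [Finset.sum_comm, Finset.sum_congr rfl (fun g _ => hcoset g), Finset.sum_const,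
        Finset.card_univ, nsmul_eq_mul, Nat.card_eq_fintype_card (α := G)]
    have h4 : ∑ g : G, χ g * conj (χ g) = (Nat.card G : ℂ) := by
      have h5 := h2.symm.trans h3
      apply mul_left_cancel₀ hNne
      rw [h5, mul_comm]
    unfold classInner
    rw [h4, inv_mul_cancel₀ hGne]
  have hpos : 0 < (χ 1).re := by
    have h1 : χ 1 = ϑ 1 := hχN 1
    obtain ⟨n, hn, hn1⟩ := isIrrCharacter_one hϑ
    rw [h1, hn1, Complex.natCast_re]
    exact_mod_cast hn
  exact ⟨χ, genChar_irr_of_norm_one hgen hnorm hpos, hχN⟩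

/-- Isaacs 8.15, statement form. -/
theorem ext_iff_det_ext {G : Type u} [Group G] [Finite G] (N : Subgroup G) [hN : N.Normal]
    (ϑ : N → ℂ) (hϑ : IsIrrCharacter N ϑ)
    (hinv : ∀ (g : G) (n : N), ϑ ⟨g * n * g⁻¹, hN.conj_mem (n : G) n.2 g⟩ = ϑ n) (d : ℕ)
    (hd : ϑ 1 = d) (hcop : Nat.Coprime N.index d) :
    (∃ χ : G → ℂ, IsIrrCharacter G χ ∧ (∀ n : N, χ n = ϑ n)) ↔
      ∃ μ : G → ℂ, IsCharacter G μ ∧ μ 1 = 1 ∧ ∀ n : N, μ n = detChar ϑ n := by
  constructor
  · rintro ⟨χ, hχ, hχN⟩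
    have hχc := isCharacter_of_isIrrCharacter hχ
    refine ⟨detChar χ, (detChar_linear hχc).1, (detChar_linear hχc).2, ?_⟩
    intro n
    have : ϑ = fun n : N => χ n := funext (fun n => (hχN n).symm)
    rw [this, detChar_restrict N hχc n]
  · rintro ⟨μ, hμc, hμ1, hμN⟩
    obtain ⟨f, hf⟩ := exists_hom_of_linear hμc hμ1
    exact ext_of_det_ext N ϑ hϑ hinv d hd hcop f (fun n => by rw [← hf, hμN n])

/-- Isaacs 8.16, statement form. -/
theorem ext_coprime_unique {G : Type u} [Group G] [Finite G] (N : Subgroup G) [hN : N.Normal]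
    (ϑ : N → ℂ) (hϑ : IsIrrCharacter N ϑ)
    (hinv : ∀ (g : G) (n : N), ϑ ⟨g * n * g⁻¹, hN.conj_mem (n : G) n.2 g⟩ = ϑ n) (d : ℕ)
    (hd : ϑ 1 = d) (hcop : Nat.Coprime N.index (detOrder ϑ * d)) :
    ∃ χ : G → ℂ, (IsIrrCharacter G χ ∧ (∀ n : N, χ n = ϑ n) ∧ detOrder χ = detOrder ϑ) ∧
      ∀ χ' : G → ℂ, IsIrrCharacter G χ' → (∀ n : N, χ' n = ϑ n) →
        Nat.Coprime N.index (detOrder χ') → χ' = χ := by
  have hϑc := isCharacter_of_isIrrCharacter hϑ
  obtain ⟨lam, hlam⟩ := exists_detHom hϑc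
  have hlaminv : ∀ (g : G) (n : N), lam ⟨g * n * g⁻¹, hN.conj_mem (n : G) n.2 g⟩ = lam n := by
    intro g n
    apply Units.ext
    rw [← hlam, ← hlam]
    have h1 : detChar (ϑ ∘ (MulAut.conjNormal g : N ≃* N)) n
        = detChar ϑ ((MulAut.conjNormal g : N ≃* N) n) :=
      detChar_comp_hom (MulAut.conjNormal g : N ≃* N).toMonoidHom hϑc n
    have h2 : ϑ ∘ (MulAut.conjNormal g : N ≃* N) = ϑ := by
      funext t
      have h3 : (MulAut.conjNormal g : N ≃* N) t
          = ⟨g * t * g⁻¹, hN.conj_mem (t : G) t.2 g⟩ := by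
        apply Subtype.ext
        simp
      show ϑ ((MulAut.conjNormal g : N ≃* N) t) = ϑ t
      rw [h3, hinv g t]
    rw [h2] at h1
    rw [h1]
    congr 1
  have hord : orderOf lam = detOrder ϑ := by
    have h1 : detChar ϑ = fun n => (lam n : ℂ) := funext hlam
    show _ = orderOf (detChar ϑ)
    rw [h1, orderOf_homToFun]
  have hcop1 : Nat.Coprime N.index (orderOf lam) := by
    rw [hord]
    exact Nat.Coprime.coprime_mul_right_right hcop
  have hcopd : Nat.Coprime N.index d := Nat.Coprime.coprime_mul_left_right hcop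
  obtain ⟨μ, hμN, hμord, hμuniq⟩ := linear_ext_coprime N lam hlaminv hcop1
  have hμ' : ∀ n : N, (μ n : ℂ) = detChar ϑ n := by
    intro n
    rw [hμN n, hlam n]
  obtain ⟨χ₀, hχ₀, hχ₀N⟩ := ext_of_det_ext N ϑ hϑ hinv d hd hcopd μ hμ'
  obtain ⟨χ, ⟨hχ, hχN, hχdet⟩, huniq⟩ := det_ext_unique N ϑ hϑ d hd hcopd ⟨χ₀, hχ₀, hχ₀N⟩
    (fun g => (μ g : ℂ)) (isCharacter_of_hom_linear μ) hμ'
  refine ⟨χ, ⟨hχ, hχN, ?_⟩, ?_⟩
  · show orderOf (detChar χ) = _
    rw [hχdet, orderOf_homToFun, hμord, hord]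
  · intro χ' hχ' hχ'N hcop'
    have hχ'c := isCharacter_of_isIrrCharacter hχ'
    obtain ⟨μ', hμ'd⟩ := exists_detHom hχ'c
    have h1 : ∀ n : N, μ' n = lam n := by
      intro n
      apply Units.ext
      rw [← hμ'd, ← hlam]
      have : ϑ = fun n : N => χ' n := funext (fun n => (hχ'N n).symm)
      rw [this, detChar_restrict N hχ'c n]
    have h2 : detChar χ' = fun g => (μ' g : ℂ) := funext hμ'd
    have h3 : Nat.Coprime N.index (orderOf μ') := by
      have : detOrder χ' = orderOf μ' := by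
        show orderOf (detChar χ') = _
        rw [h2, orderOf_homToFun]
      rw [← this]
      exact hcop'
    have h4 := hμuniq μ' h1 h3
    apply huniq
    refine ⟨hχ', hχ'N, ?_⟩
    rw [h2, h4]

end Cfsg.Agent.Lib.helper24
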