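import Cfsg.Agent.Lib.helper24.CharChief
import Cfsg.Agent.Lib.helper24.CharCodeg4
import Cfsg.Agent.Lib.helper24.CharLin
import Cfsg.Agent.Lib.helper24.CharKer
import Cfsg.Agent.Lib.helper24.CharOps
import Cfsg.Agent.Lib.helper24.CharDet
import Cfsg.Agent.Lib.helper23.CharSchur
import Cfsg.Prelude.Def_Transfer

set_option autoImplicit false

namespace Cfsg.Agent.Lib.helper24
open Cfsg
open scoped ComplexConjugate

universe u

variable {G : Type u} [Group G]

theorem exists_conj_eq_mul_central [Finite G] {p : ℕ} (hp : p.Prime)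
    (hcomm : commutator G = Subgroup.center G) (hZ : Nat.card (Subgroup.center G) = p)
    {x : G} (hx : x ∉ Subgroup.center G) {z : G} (hz : z ∈ Subgroup.center G) :
    ∃ g : G, g * x * g⁻¹ = x * z := by
  have hmem : ∀ g : G, g * x * g⁻¹ * x⁻¹ ∈ Subgroup.center G := by
    intro g
    rw [← hcomm, commutator_def]
    have := Subgroup.commutator_mem_commutator (Subgroup.mem_top g) (Subgroup.mem_top x)
    rwa [commutatorElement_def] at this
  let φ : G →* Subgroup.center G := MonoidHom.mk' (fun g => ⟨g * x * g⁻¹ * x⁻¹, hmem g⟩) (by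
    intro g h
    apply Subtype.ext
    show g * h * x * (g * h)⁻¹ * x⁻¹ = (g * x * g⁻¹ * x⁻¹) * (h * x * h⁻¹ * x⁻¹)
    have hc := Subgroup.mem_center_iff.1 (hmem h)
    calc g * h * x * (g * h)⁻¹ * x⁻¹ = g * (h * x * h⁻¹ * x⁻¹) * x * g⁻¹ * x⁻¹ := by group
      _ = (h * x * h⁻¹ * x⁻¹) * g * x * g⁻¹ * x⁻¹ := by rw [hc g]
      _ = (h * x * h⁻¹ * x⁻¹) * (g * x * g⁻¹ * x⁻¹) := by group
      _ = (g * x * g⁻¹ * x⁻¹) * (h * x * h⁻¹ * x⁻¹) := (hc _).symm)
  haveI : Fact (Nat.card (Subgroup.center G)).Prime := ⟨hZ ▸ hp⟩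
  rcases Subgroup.eq_bot_or_eq_top_of_prime_card φ.range with h | h
  · exfalso
    apply hx
    rw [Subgroup.mem_center_iff]
    intro g
    have h1 : φ g = 1 := by
      have : φ g ∈ φ.range := ⟨g, rfl⟩
      rw [h] at this
      exact Subgroup.mem_bot.1 this
    have h2 : g * x * g⁻¹ * x⁻¹ = 1 := congrArg Subtype.val h1
    calc g * x = (g * x * g⁻¹ * x⁻¹) * x * g := by group
      _ = x * g := by rw [h2, one_mul]
  · have : (⟨z, hz⟩ : Subgroup.center G) ∈ φ.range := by rw [h]; trivial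
    obtain ⟨g, hg⟩ := this
    have h2 : g * x * g⁻¹ * x⁻¹ = z := congrArg Subtype.val hg
    refine ⟨g, ?_⟩
    calc g * x * g⁻¹ = (g * x * g⁻¹ * x⁻¹) * x := by group
      _ = z * x := by rw [h2]
      _ = x * z := (Subgroup.mem_center_iff.1 hz x).symm

theorem vanish_off_center_of_twist [Finite G] {p : ℕ} (hp : p.Prime)
    (hcomm : commutator G = Subgroup.center G) (hZ : Nat.card (Subgroup.center G) = p)
    (f : G → ℂ) (hf : IsClassFunction G f) (a : G) (ha : a ∈ Subgroup.center G) (c : ℂ)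
    (hc : c ≠ 1) (hfa : ∀ x, f (x * a) = c * f x) (x : G) (hx : x ∉ Subgroup.center G) :
    f x = 0 := by
  obtain ⟨g, hg⟩ := exists_conj_eq_mul_central hp hcomm hZ hx ha
  have h1 : f (x * a) = f x := by rw [← hg]; exact hf x g
  rw [hfa] at h1
  have h2 : (c - 1) * f x = 0 := by rw [sub_mul, h1, one_mul, sub_self]
  rcases mul_eq_zero.1 h2 with h | h
  · exact absurd (sub_eq_zero.1 h) hc
  · exact h

theorem sum_eq_card_mul_of_support [Fintype G] (Z : Subgroup G) (F : G → ℂ) (C : ℂ)
    (h0 : ∀ g, g ∉ Z → F g = 0) (h1 : ∀ g ∈ Z, F g = C) :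
    ∑ g : G, F g = (Nat.card Z : ℂ) * C := by
  classical
  rw [← Finset.sum_filter_add_sum_filter_not Finset.univ (· ∈ Z)]
  rw [Finset.sum_congr rfl (fun g hg => h1 g (Finset.mem_filter.1 hg).2),
    Finset.sum_congr rfl (fun g hg => h0 g (Finset.mem_filter.1 hg).2)]
  rw [Finset.sum_const, Finset.sum_const_zero, add_zero, nsmul_eq_mul]
  congr 2
  rw [Nat.card_eq_fintype_card, Fintype.card_subtype]

/-- a nonlinear irreducible character of an extraspecial group vanishes off the centre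
and has degree `p ^ n`. -/
theorem extraspecial_nonlinear {P : Type u} [Group P] [Finite P] (p n : ℕ) [hp : Fact p.Prime]
    (hP : IsExtraspecial p P) (hcard : Nat.card P = p ^ (2 * n + 1)) (χ : IrrCharacter P)
    (hχ : χ.1 1 ≠ 1) : charDegree χ.1 = p ^ n := by
  classical
  haveI : Fintype P := Fintype.ofFinite P
  obtain ⟨⟨-, -, hcomm⟩, hZ⟩ := hP
  have h1 : ∃ a ∈ commutator P, χ.1 a ≠ χ.1 1 := by
    by_contra hcon
    push Not at hcon
    exact hχ (irr_linear_of_commutator_le_ker χ.2 hcon)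
  obtain ⟨a, ha, hane⟩ := h1
  rw [hcomm] at ha
  obtain ⟨c, hc, -⟩ := Cfsg.Agent.Lib.helper23.isIrrCharacter_central χ.2 a ha
  have hc1 : c ≠ 1 := by
    intro h
    apply hane
    have := hc 1
    rwa [mul_one, h, one_mul] at this
  have hvan : ∀ x : P, x ∉ Subgroup.center P → χ.1 x = 0 := by
    intro x hx
    refine vanish_off_center_of_twist hp.out hcomm hZ χ.1
      (isCharacter_conj_class (isCharacter_of_isIrrCharacter χ.2)) a ha c hc1 ?_ x hx
    intro y
    rw [← hc y, Subgroup.mem_center_iff.1 ha y]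
  have hd : (charDegree χ.1 : ℂ) = χ.1 1 := charDegree_cast χ
  have hsum : ∑ g : P, χ.1 g * conj (χ.1 g)
      = (Nat.card (Subgroup.center P) : ℂ) * ((charDegree χ.1 : ℂ) ^ 2) := by
    apply sum_eq_card_mul_of_support
    · intro g hg
      rw [hvan g hg, zero_mul]
    · intro g hg
      rw [Complex.mul_conj, Complex.normSq_eq_norm_sq, norm_irr_central χ g hg, ← hd]
      simp
  have hinner := irr_inner_self χ
  unfold classInner at hinner
  rw [hsum, hZ, hcard] at hinner
  have hp0 : (p : ℂ) ≠ 0 := by exact_mod_cast hp.out.ne_zero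
  have h2 : (p : ℂ) * (charDegree χ.1 : ℂ) ^ 2 = (p : ℂ) * ((p : ℂ) ^ n) ^ 2 := by
    have h3 : ((p ^ (2 * n + 1) : ℕ) : ℂ) ≠ 0 := by
      exact_mod_cast pow_ne_zero _ hp.out.ne_zero
    have h4 := (inv_mul_eq_one₀ h3).1 hinner
    rw [← h4]; push_cast; ring
  have h5 : ((charDegree χ.1 ^ 2 : ℕ) : ℂ) = (((p ^ n) ^ 2 : ℕ) : ℂ) := by
    push_cast
    exact mul_left_cancel₀ hp0 h2
  have h6 : charDegree χ.1 ^ 2 = (p ^ n) ^ 2 := by exact_mod_cast h5
  exact Nat.pow_left_injective (by norm_num) h6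

theorem extraspecial_degrees {P : Type u} [Group P] [Finite P] (p n : ℕ) [hp : Fact p.Prime]
    (hP : IsExtraspecial p P) (hcard : Nat.card P = p ^ (2 * n + 1)) :
    (∀ χ : IrrCharacter P, χ.1 1 = 1 ∨ χ.1 1 = (p : ℂ) ^ n) ∧
      Nat.card {χ : IrrCharacter P // χ.1 1 = (p : ℂ) ^ n} = p - 1 := by
  classical
  haveI : Fintype P := Fintype.ofFinite P
  haveI : Fintype (IrrCharacter P) := Fintype.ofFinite _
  have hdeg : ∀ χ : IrrCharacter P, χ.1 1 ≠ 1 → χ.1 1 = (p : ℂ) ^ n := by
    intro χ hχ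
    rw [← charDegree_cast χ, extraspecial_nonlinear p n hP hcard χ hχ]
    push_cast; rfl
  refine ⟨fun χ => ?_, ?_⟩
  · by_cases h : χ.1 1 = 1
    · exact Or.inl h
    · exact Or.inr (hdeg χ h)
  have hcomm := hP.1.2.2
  have hZ := hP.2
  have hp1 := hp.out.one_lt
  -- n ≠ 0
  have hn : n ≠ 0 := by
    rintro rfl
    have h1 : Subgroup.center P = ⊤ := by
      rw [← Subgroup.card_eq_iff_eq_top, hZ, hcard]; simp
    have h2 : commutator P = ⊥ := (commutator_eq_bot_iff_center_eq_top P).2 h1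
    rw [hcomm, h1] at h2
    have h3 : Nat.card P = 1 := by
      rw [← Subgroup.card_top (G := P), h2, Subgroup.card_bot]
    rw [hcard] at h3
    simp at h3
    omega
  have hpn : (p : ℂ) ^ n ≠ 1 := by
    have : p ^ n ≠ 1 := by
      have := Nat.one_lt_pow hn hp1
      omega
    exact_mod_cast this
  have hidx : (commutator P).index = p ^ (2 * n) := by
    have h1 := Subgroup.index_mul_card (commutator P)
    rw [hcomm, hZ, hcard] at h1
    have h2 : (Subgroup.center P).index * p = p ^ (2 * n) * p := by rw [h1]; ring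
    rw [hcomm]
    exact Nat.eq_of_mul_eq_mul_right hp.out.pos h2
  have hlin : (Finset.univ.filter (fun χ : IrrCharacter P => χ.1 1 = 1)).card = p ^ (2 * n) := by
    rw [← hidx, ← card_linear_irr, Nat.card_eq_fintype_card, Fintype.card_subtype]
  have hsum := sum_sq_charDegree (G := P)
  rw [← Finset.sum_filter_add_sum_filter_not Finset.univ (fun χ : IrrCharacter P => χ.1 1 = 1)]
    at hsum
  have hs1 : ∑ χ ∈ Finset.univ.filter (fun χ : IrrCharacter P => χ.1 1 = 1), charDegree χ.1 ^ 2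
      = p ^ (2 * n) := by
    rw [← hlin, Finset.card_eq_sum_ones]
    refine Finset.sum_congr rfl (fun χ hχ => ?_)
    have h1 : (charDegree χ.1 : ℂ) = 1 := by rw [charDegree_cast]; exact (Finset.mem_filter.1 hχ).2
    have h2 : charDegree χ.1 = 1 := by exact_mod_cast h1
    rw [h2]; norm_num
  have hs2 : ∑ χ ∈ Finset.univ.filter (fun χ : IrrCharacter P => ¬ χ.1 1 = 1), charDegree χ.1 ^ 2
      = (Finset.univ.filter (fun χ : IrrCharacter P => ¬ χ.1 1 = 1)).card * p ^ (2 * n) := by
    rw [Finset.card_eq_sum_ones, Finset.sum_mul]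
    refine Finset.sum_congr rfl (fun χ hχ => ?_)
    rw [extraspecial_nonlinear p n hP hcard χ (Finset.mem_filter.1 hχ).2]
    ring
  rw [hs1, hs2, hcard] at hsum
  have hk : (Finset.univ.filter (fun χ : IrrCharacter P => ¬ χ.1 1 = 1)).card + 1 = p := by
    have h2 : ((Finset.univ.filter (fun χ : IrrCharacter P => ¬ χ.1 1 = 1)).card + 1) * p ^ (2 * n)
        = p * p ^ (2 * n) := by
      rw [add_mul, one_mul, add_comm, hsum]; ring
    exact Nat.eq_of_mul_eq_mul_right (pow_pos hp.out.pos _) h2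
  have hfilt : (Finset.univ.filter (fun χ : IrrCharacter P => χ.1 1 = (p : ℂ) ^ n))
      = Finset.univ.filter (fun χ : IrrCharacter P => ¬ χ.1 1 = 1) := by
    ext χ
    simp only [Finset.mem_filter, Finset.mem_univ, true_and]
    constructor
    · intro h h1
      rw [h1] at h
      exact hpn h.symm
    · exact hdeg χ
  rw [Nat.card_eq_fintype_card, Fintype.card_subtype, hfilt]
  omega

theorem extraspecial_induced {P : Type u} [Group P] [Fintype P] (p n : ℕ) [hp : Fact p.Prime]
    (hP : IsExtraspecial p P) (hcard : Nat.card P = p ^ (2 * n + 1)) (A : Subgroup P)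
    (hA : Nat.card A = p ^ (n + 1)) (lam : A → ℂ) (hlam : IsCharacter A lam ∧ lam 1 = 1)
    (hZ : ∃ a : A, (a : P) ∈ Subgroup.center P ∧ lam a ≠ 1) :
    IsIrrCharacter P (indFun A lam) ∧ ∀ x : P, x ∉ Subgroup.center P → indFun A lam x = 0 := by
  classical
  obtain ⟨μ, hμ⟩ := exists_hom_of_linear hlam.1 hlam.2
  obtain ⟨a, hac, hla⟩ := hZ
  have hcomm := hP.1.2.2
  have hZc := hP.2
  have hp0 : (p : ℂ) ≠ 0 := by exact_mod_cast hp.out.ne_zero
  have hf : IsCharacter P (indFun A lam) := isCharacter_indFun A hlam.1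
  have hcl : IsClassFunction P (indFun A lam) := isCharacter_conj_class hf
  -- centre inside A
  have hZA : Subgroup.center P ≤ A := by
    intro z hz
    haveI : Fact (Nat.card (Subgroup.center P)).Prime := ⟨hZc ▸ hp.out⟩
    rcases Subgroup.eq_bot_or_eq_top_of_prime_card
      (Subgroup.zpowers (⟨(a : P), hac⟩ : Subgroup.center P)) with h | h
    · exfalso
      apply hla
      have h1 : (⟨(a : P), hac⟩ : Subgroup.center P) = 1 := Subgroup.zpowers_eq_bot.1 h
      have h2 : (a : P) = 1 := congrArg Subtype.val h1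
      have h3 : a = 1 := Subtype.ext h2
      rw [h3, hlam.2]
    · have : (⟨z, hz⟩ : Subgroup.center P) ∈ Subgroup.zpowers (⟨(a : P), hac⟩ : Subgroup.center P) := by
        rw [h]; trivial
      obtain ⟨k, hk⟩ := Subgroup.mem_zpowers_iff.1 this
      have h2 : (a : P) ^ k = z := by
        have := congrArg Subtype.val hk
        simpa using this
      rw [← h2]
      exact A.zpow_mem a.2 k
  have hext : ∀ w : P, extendByZero A lam (w * a) = lam a * extendByZero A lam w := by
    intro w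
    by_cases hw : w ∈ A
    · rw [extendByZero_apply_mem A lam (A.mul_mem hw a.2), extendByZero_apply_mem A lam hw]
      have : (⟨w * a, A.mul_mem hw a.2⟩ : A) = ⟨w, hw⟩ * a := rfl
      rw [this, hμ, hμ, hμ, map_mul]
      push_cast; ring
    · have hwa : w * a ∉ A := by
        intro h
        apply hw
        have := A.mul_mem h (A.inv_mem a.2)
        simpa using this
      rw [extendByZero_apply_not_mem A lam hwa, extendByZero_apply_not_mem A lam hw, mul_zero]
  have htw : ∀ x : P, indFun A lam (x * a) = lam a * indFun A lam x := by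
    intro x
    show (Nat.card A : ℂ)⁻¹ * ∑ y : P, extendByZero A lam (y⁻¹ * (x * a) * y)
      = lam a * ((Nat.card A : ℂ)⁻¹ * ∑ y : P, extendByZero A lam (y⁻¹ * x * y))
    have h1 : ∑ y : P, extendByZero A lam (y⁻¹ * (x * a) * y)
        = lam a * ∑ y : P, extendByZero A lam (y⁻¹ * x * y) := by
      rw [Finset.mul_sum]
      refine Finset.sum_congr rfl (fun y _ => ?_)
      rw [← hext]
      congr 1
      have := Subgroup.mem_center_iff.1 hac y
      calc y⁻¹ * (x * a) * y = y⁻¹ * x * (a * y) := by group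
        _ = y⁻¹ * x * (y * a) := by rw [this]
        _ = y⁻¹ * x * y * a := by group
    rw [h1]; ring
  have hvan : ∀ x : P, x ∉ Subgroup.center P → indFun A lam x = 0 := fun x hx =>
    vanish_off_center_of_twist hp.out hcomm hZc (indFun A lam) hcl a hac (lam a) hla htw x hx
  refine ⟨?_, hvan⟩
  apply isIrrCharacter_of_inner_self_eq_one hf
  have hval : ∀ z ∈ Subgroup.center P, indFun A lam z * conj (indFun A lam z)
      = ((p : ℂ) ^ n) ^ 2 := by
    intro z hz
    have hzA : z ∈ A := hZA hz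
    have h1 : indFun A lam z = (p : ℂ) ^ n * lam ⟨z, hzA⟩ := by
      unfold indFun
      have h2 : ∀ y : P, extendByZero A lam (y⁻¹ * z * y) = lam ⟨z, hzA⟩ := by
        intro y
        have : y⁻¹ * z * y = z := by
          rw [mul_assoc, ← Subgroup.mem_center_iff.1 hz y, ← mul_assoc, inv_mul_cancel, one_mul]
        rw [this, extendByZero_apply_mem A lam hzA]
      have h2' : ∑ y : P, extendByZero A lam (y⁻¹ * z * y) = ∑ _y : P, lam ⟨z, hzA⟩ :=
        Finset.sum_congr rfl (fun y _ => h2 y)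
      rw [h2', Finset.sum_const, Finset.card_univ,
        ← Nat.card_eq_fintype_card, hcard, hA, nsmul_eq_mul]
      have hpn : ((p ^ (n + 1) : ℕ) : ℂ) ≠ 0 := by exact_mod_cast pow_ne_zero _ hp.out.ne_zero
      rw [← mul_assoc]
      congr 1
      rw [inv_mul_eq_iff_eq_mul₀ hpn]
      push_cast; ring
    have h3 : ‖lam ⟨z, hzA⟩‖ = 1 := by
      rw [hμ]
      apply Complex.norm_eq_one_of_pow_eq_one (n := Nat.card A)
      · rw [← Units.val_pow_eq_pow_val, ← map_pow, pow_card_eq_one', map_one, Units.val_one]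
      · exact Nat.card_pos.ne'
    rw [Complex.mul_conj, Complex.normSq_eq_norm_sq, h1, norm_mul, h3, mul_one]
    simp
  unfold classInner
  rw [sum_eq_card_mul_of_support (Subgroup.center P) _ (((p : ℂ) ^ n) ^ 2)
    (fun g hg => by rw [hvan g hg, zero_mul]) hval, hZc, hcard]
  have hpn : ((p ^ (2 * n + 1) : ℕ) : ℂ) ≠ 0 := by exact_mod_cast pow_ne_zero _ hp.out.ne_zero
  rw [inv_mul_eq_one₀ hpn]
  push_cast; ring

end Cfsg.Agent.Lib.helper24
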