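import Cfsg.Agent.Lib.helper24.CharProj

set_option autoImplicit false

namespace Cfsg.Agent.Lib.helper24

open Cfsg
open scoped ComplexConjugate TensorProduct

universe u v w

section projRep

variable {G : Type u} [Group G] {V : Type v} [AddCommGroup V] [Module ℂ V]
  {U : Type w} [AddCommGroup U] [Module ℂ U]

/-- The projective group acts on `Hom(V, U)` by `f ↦ ρ(g) ∘ f ∘ P⁻¹`. -/
noncomputable def projHomRep (N : Subgroup G) [hN : N.Normal] (Y : Representation ℂ N V)
    (ρ : Representation ℂ G U) : Representation ℂ (projGroup N Y) (V →ₗ[ℂ] U) where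
  toFun γ :=
    { toFun := fun f => ρ γ.1.1 ∘ₗ f ∘ₗ ((γ.1.2⁻¹ : (Module.End ℂ V)ˣ) : Module.End ℂ V)
      map_add' := by
        intro f f'
        ext v
        simp
      map_smul' := by
        intro c f
        ext v
        simp }
  map_one' := by
    ext f v
    show ρ (1 : G) (f ((((1 : (Module.End ℂ V)ˣ)⁻¹ : (Module.End ℂ V)ˣ) : Module.End ℂ V) v)) = f v
    rw [map_one, inv_one, Units.val_one]
    rfl
  map_mul' := by
    intro γ γ'
    ext f v
    show ρ (γ.1.1 * γ'.1.1) (f ((((γ.1.2 * γ'.1.2)⁻¹ : (Module.End ℂ V)ˣ) : Module.End ℂ V) v))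
      = ρ γ.1.1 (ρ γ'.1.1 (f (((γ'.1.2⁻¹ : (Module.End ℂ V)ˣ) : Module.End ℂ V)
          (((γ.1.2⁻¹ : (Module.End ℂ V)ˣ) : Module.End ℂ V) v))))
    rw [map_mul, mul_inv_rev, Units.val_mul]
    rfl

theorem projHomRep_apply (N : Subgroup G) [hN : N.Normal] (Y : Representation ℂ N V)
    (ρ : Representation ℂ G U) (γ : projGroup N Y) (f : V →ₗ[ℂ] U) (v : V) :
    projHomRep N Y ρ γ f v
      = ρ γ.1.1 (f (((γ.1.2⁻¹ : (Module.End ℂ V)ˣ) : Module.End ℂ V) v)) := rfl

/-- The `N`-homomorphisms form a subrepresentation. -/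
noncomputable def projHomSub (N : Subgroup G) [hN : N.Normal] (Y : Representation ℂ N V)
    (ρ : Representation ℂ G U) : Subrepresentation (projHomRep N Y ρ) where
  toSubmodule :=
    { carrier := {f | ∀ n : N, f ∘ₗ Y n = ρ (n : G) ∘ₗ f}
      add_mem' := by
        intro f f' hf hf' n
        rw [LinearMap.add_comp, LinearMap.comp_add, hf n, hf' n]
      zero_mem' := by
        intro n
        simp
      smul_mem' := by
        intro c f hf n
        rw [LinearMap.smul_comp, LinearMap.comp_smul, hf n] }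
  apply_mem_toSubmodule := by
    intro γ f hf n
    ext v
    have h1 : ((γ.1.2⁻¹ : (Module.End ℂ V)ˣ) : Module.End ℂ V) (Y n v)
        = Y (MulAut.conjNormal γ.1.1⁻¹ n)
          (((γ.1.2⁻¹ : (Module.End ℂ V)ˣ) : Module.End ℂ V) v) :=
      LinearMap.congr_fun ((γ⁻¹).2.2 n) v
    have h2 : ∀ (m : N) (w : V), f (Y m w) = ρ (m : G) (f w) := fun m w =>
      LinearMap.congr_fun (hf m) w
    have h3 : ∀ u : U, ρ γ.1.1 (ρ ((MulAut.conjNormal γ.1.1⁻¹ n : N) : G) u)
        = ρ (n : G) (ρ γ.1.1 u) := by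
      intro u
      rw [← Module.End.mul_apply, ← Module.End.mul_apply, ← map_mul, ← map_mul]
      congr 2
      rw [MulAut.conjNormal_apply]
      group
    show ρ γ.1.1 (f (((γ.1.2⁻¹ : (Module.End ℂ V)ˣ) : Module.End ℂ V) (Y n v)))
      = ρ (n : G) (ρ γ.1.1 (f (((γ.1.2⁻¹ : (Module.End ℂ V)ˣ) : Module.End ℂ V) v)))
    rw [h1, h2, h3]

theorem mem_projHomSub (N : Subgroup G) [hN : N.Normal] (Y : Representation ℂ N V)
    (ρ : Representation ℂ G U) (f : V →ₗ[ℂ] U) :
    f ∈ (projHomSub N Y ρ).toSubmodule ↔ ∀ n : N, f ∘ₗ Y n = ρ (n : G) ∘ₗ f := Iff.rfl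

/-- Elements over `N` act on the `N`-homomorphisms by scalars. -/
theorem projHomRep_scalar [FiniteDimensional ℂ V] (N : Subgroup G) [hN : N.Normal]
    (Y : Representation ℂ N V) [Y.IsIrreducible] (ρ : Representation ℂ G U)
    (γ : projGroup N Y) (hγ : γ.1.1 ∈ N) :
    ∃ c : ℂ, ∀ f ∈ (projHomSub N Y ρ).toSubmodule, projHomRep N Y ρ γ f = c • f := by
  have hγ' : γ ∈ N.comap (projHom N Y) := hγ
  have h1 := projScalar_spec N Y N le_rfl Y (fun n => rfl) ⟨γ, hγ'⟩
  refine ⟨((projScalar N Y N le_rfl Y (fun n => rfl) ⟨γ, hγ'⟩ : ℂˣ) : ℂ)⁻¹, ?_⟩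
  intro f hf
  set a : ℂ := ((projScalar N Y N le_rfl Y (fun n => rfl) ⟨γ, hγ'⟩ : ℂˣ) : ℂ) with ha
  have ha0 : a ≠ 0 := Units.ne_zero _
  have h2 : f = a • projHomRep N Y ρ γ f := by
    ext v
    have h3 : v = ((γ.1.2 : (Module.End ℂ V)ˣ) : Module.End ℂ V)
        (((γ.1.2⁻¹ : (Module.End ℂ V)ˣ) : Module.End ℂ V) v) := by
      rw [← Module.End.mul_apply, Units.mul_inv]
      rfl
    have h4 : f (Y ⟨γ.1.1, hγ⟩ (((γ.1.2⁻¹ : (Module.End ℂ V)ˣ) : Module.End ℂ V) v))
        = ρ γ.1.1 (f (((γ.1.2⁻¹ : (Module.End ℂ V)ˣ) : Module.End ℂ V) v)) :=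
      LinearMap.congr_fun (hf ⟨γ.1.1, hγ⟩) _
    conv_lhs => rw [h3, h1]
    rw [LinearMap.smul_apply, map_smul, LinearMap.smul_apply, projHomRep_apply]
    congr 1
  conv_rhs => rw [h2]
  rw [smul_smul, inv_mul_cancel₀ ha0, one_smul]

end projRep

/-- A variant of Ito's theorem: the degree of an irreducible representation divides the index
of any normal subgroup acting by scalars. -/
theorem finrank_dvd_index_of_scalar {Γ : Type u} [Group Γ] [Finite Γ] {W : Type v}
    [AddCommGroup W] [Module ℂ W] [FiniteDimensional ℂ W] (σ : Representation ℂ Γ W)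
    [hσ : σ.IsIrreducible] (A : Subgroup Γ) [hA : A.Normal]
    (hsc : ∀ a ∈ A, ∃ c : ℂ, σ a = c • (1 : Module.End ℂ W)) :
    Module.finrank ℂ W ∣ A.index := by
  let K : Subgroup Γ := MonoidHom.ker σ
  let σ' : Representation ℂ (Γ ⧸ K) W := QuotientGroup.lift K σ (le_refl _)
  have hcomp : (σ'.comp (QuotientGroup.mk' K) : Representation ℂ Γ W) = σ :=
    MonoidHom.ext (fun γ => rfl)
  have h3 : Representation.IsIrreducible (σ'.comp (QuotientGroup.mk' K) : Representation ℂ Γ W) := by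
    rw [hcomp]
    exact hσ
  haveI hirr : σ'.IsIrreducible := isIrreducible_of_comp σ' (QuotientGroup.mk' K) h3
  haveI hAn : (A.map (QuotientGroup.mk' K)).Normal :=
    Subgroup.Normal.map hA _ (QuotientGroup.mk'_surjective K)
  have hab : ∀ x ∈ A.map (QuotientGroup.mk' K), ∀ y ∈ A.map (QuotientGroup.mk' K),
      x * y = y * x := by
    rintro x ⟨a, ha, rfl⟩ y ⟨b, hb, rfl⟩
    rw [← map_mul, ← map_mul]
    show ((a * b : Γ) : Γ ⧸ K) = ((b * a : Γ) : Γ ⧸ K)
    rw [QuotientGroup.eq]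
    show σ ((a * b)⁻¹ * (b * a)) = 1
    obtain ⟨c, hc⟩ := hsc a ha
    obtain ⟨c', hc'⟩ := hsc b hb
    have h4 : σ (b * a) = σ (a * b) := by
      rw [map_mul, map_mul, hc, hc', smul_mul_smul_comm, smul_mul_smul_comm, mul_comm c c']
    rw [map_mul, h4, ← map_mul, inv_mul_cancel, map_one]
  have h5 := Cfsg.Agent.Lib.helper23.ito_degree_dvd_index σ' (A.map (QuotientGroup.mk' K)) hab
  exact h5.trans (Subgroup.index_map_dvd A (QuotientGroup.mk'_surjective K))

section projIrr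

variable {G : Type u} [Group G] {V : Type v} [AddCommGroup V] [Module ℂ V]
  {U : Type w} [AddCommGroup U] [Module ℂ U]

theorem projHomSub_irreducible [Finite G] [FiniteDimensional ℂ V] [FiniteDimensional ℂ U]
    (N : Subgroup G) [hN : N.Normal] (Y : Representation ℂ N V) [Y.IsIrreducible]
    (hinv : ∀ (g : G) (n : N), Y.character (MulAut.conjNormal g n) = Y.character n)
    (ρ : Representation ℂ G U) [hρ : ρ.IsIrreducible]
    (hdim : Module.finrank ℂ (projHomSub N Y ρ).toSubmodule * Module.finrank ℂ V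
      ≤ Module.finrank ℂ U)
    (hne : (projHomSub N Y ρ).toSubmodule ≠ ⊥) :
    (projHomSub N Y ρ).toRepresentation.IsIrreducible := by
  have hVpos : 0 < Module.finrank ℂ V :=
    Nat.pos_of_ne_zero (Cfsg.Agent.Lib.helper23.genrep_finrank_ne_zero Y)
  have key : ∀ S : Subrepresentation (projHomSub N Y ρ).toRepresentation,
      S.toSubmodule ≠ ⊥ → S.toSubmodule = ⊤ := by
    intro S hS
    obtain ⟨f, hfS, hf0⟩ := (Submodule.ne_bot_iff _).mp hS
    let Usp : Submodule ℂ U :=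
      Submodule.span ℂ {u | ∃ f ∈ S.toSubmodule, ∃ v : V, (f : V →ₗ[ℂ] U) v = u}
    have hinvU : ∀ (g : G) ⦃u : U⦄, u ∈ Usp → ρ g u ∈ Usp := by
      intro g
      have hle : Usp ≤ Usp.comap (ρ g) := by
        apply Submodule.span_le.mpr
        rintro u ⟨f, hf, v, rfl⟩
        obtain ⟨x, hx, hx1⟩ := projGroup_surj N Y hinv g
        show ρ g ((f : V →ₗ[ℂ] U) v) ∈ Usp
        apply Submodule.subset_span
        refine ⟨(projHomSub N Y ρ).toRepresentation ⟨x, hx⟩ f,
          S.apply_mem_toSubmodule ⟨x, hx⟩ hf, ((x.2 : (Module.End ℂ V)ˣ) : Module.End ℂ V) v, ?_⟩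
        show ρ x.1 ((f : V →ₗ[ℂ] U) (((x.2⁻¹ : (Module.End ℂ V)ˣ) : Module.End ℂ V)
          (((x.2 : (Module.End ℂ V)ˣ) : Module.End ℂ V) v))) = ρ g ((f : V →ₗ[ℂ] U) v)
        rw [← Module.End.mul_apply, Units.inv_mul, hx1]
        rfl
      intro u hu
      exact hle hu
    let Usub : Subrepresentation ρ := ⟨Usp, hinvU⟩
    have hUne : Usub ≠ ⊥ := by
      intro h
      have h1 : Usp = ⊥ := congrArg Subrepresentation.toSubmodule h
      have h2 : (f : V →ₗ[ℂ] U) ≠ 0 := fun h0 => hf0 (Subtype.ext h0)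
      obtain ⟨v, hv⟩ : ∃ v, (f : V →ₗ[ℂ] U) v ≠ 0 := by
        by_contra hcon
        push Not at hcon
        exact h2 (LinearMap.ext hcon)
      have h3 : (f : V →ₗ[ℂ] U) v ∈ Usp := Submodule.subset_span ⟨f, hfS, v, rfl⟩
      rw [h1, Submodule.mem_bot] at h3
      exact hv h3
    have hUtop : Usub = ⊤ := (IsSimpleOrder.eq_bot_or_eq_top Usub).resolve_left hUne
    have hUsp : Usp = ⊤ := congrArg Subrepresentation.toSubmodule hUtop
    let S'' : Submodule ℂ (V →ₗ[ℂ] U) :=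
      S.toSubmodule.map (projHomSub N Y ρ).toSubmodule.subtype
    have hS''le : S'' ≤ (projHomSub N Y ρ).toSubmodule := by
      rintro _ ⟨f', -, rfl⟩
      exact f'.2
    let Φ : (S'' ⊗[ℂ] V) →ₗ[ℂ] U := TensorProduct.lift S''.subtype
    have hrange : Usp ≤ LinearMap.range Φ := by
      apply Submodule.span_le.mpr
      rintro u ⟨f, hf, v, rfl⟩
      have hf'' : (f : V →ₗ[ℂ] U) ∈ S'' := Submodule.mem_map_of_mem hf
      exact ⟨(⟨(f : V →ₗ[ℂ] U), hf''⟩ : S'') ⊗ₜ[ℂ] v, by simp [Φ]⟩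
    have h1 : Module.finrank ℂ U ≤ Module.finrank ℂ S'' * Module.finrank ℂ V := by
      have h2 : LinearMap.range Φ = ⊤ := top_le_iff.mp (hUsp ▸ hrange)
      have h3 := LinearMap.finrank_range_le Φ
      rw [h2, finrank_top, Module.finrank_tensorProduct] at h3
      exact h3
    have h4 : Module.finrank ℂ (projHomSub N Y ρ).toSubmodule ≤ Module.finrank ℂ S'' :=
      Nat.le_of_mul_le_mul_right (hdim.trans h1) hVpos
    have hS''eq : S'' = (projHomSub N Y ρ).toSubmodule :=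
      Submodule.eq_of_le_of_finrank_le hS''le h4
    rw [Submodule.eq_top_iff']
    intro f
    have h5 : (f : V →ₗ[ℂ] U) ∈ S'' := by
      rw [hS''eq]
      exact f.2
    obtain ⟨f', hf', hff'⟩ := h5
    have h6 : f' = f := Subtype.ext hff'
    rw [← h6]
    exact hf'
  haveI : Nontrivial (Subrepresentation (projHomSub N Y ρ).toRepresentation) := by
    refine ⟨⟨⊥, ⊤, ?_⟩⟩
    intro h
    have h1 : (⊥ : Submodule ℂ (projHomSub N Y ρ).toSubmodule) = ⊤ :=
      congrArg Subrepresentation.toSubmodule h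
    apply hne
    rw [Submodule.eq_bot_iff]
    intro f hf
    have h2 : (⟨f, hf⟩ : (projHomSub N Y ρ).toSubmodule)
        ∈ (⊥ : Submodule ℂ (projHomSub N Y ρ).toSubmodule) := by
      rw [h1]
      trivial
    rw [Submodule.mem_bot] at h2
    exact congrArg Subtype.val h2
  refine ⟨fun S => ?_⟩
  by_cases hS : S.toSubmodule = ⊥
  · left
    exact Subrepresentation.toSubmodule_injective hS
  · right
    exact Subrepresentation.toSubmodule_injective (key S hS)

end projIrr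

/-- Isaacs 11.29 for an invariant character. -/
theorem degree_ratio_invariant {G : Type u} [Group G] [Fintype G] (N : Subgroup G)
    [hN : N.Normal] [Fintype N] (χ : G → ℂ) (hχ : IsIrrCharacter G χ) (ϑ : N → ℂ)
    (hϑ : IsIrrCharacter N ϑ)
    (hinv : ∀ (g : G) (n : N), ϑ ⟨g * n * g⁻¹, hN.conj_mem (n : G) n.2 g⟩ = ϑ n)
    (hcon : classInner (fun n : N => χ n) ϑ ≠ 0) (c d : ℕ) (hc : χ 1 = c) (hd : ϑ 1 = d) :
    ∃ e : ℕ, c = e * d ∧ e ∣ N.index := by
  obtain ⟨c', ρ, hρ, rfl⟩ := hχ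
  obtain ⟨d', Y, hY, rfl⟩ := hϑ
  haveI := hρ
  haveI := hY
  have hinv' : ∀ (g : G) (n : N), Y.character (MulAut.conjNormal g n) = Y.character n := by
    intro g n
    have h := hinv g n
    have h2 : MulAut.conjNormal g n = ⟨g * n * g⁻¹, hN.conj_mem (n : G) n.2 g⟩ := by
      apply Subtype.ext
      simp
    rw [h2]
    exact h
  have hc' : c' = c := by
    have h1 : ρ.character 1 = (c' : ℂ) := by
      simp [Representation.character]
    rw [h1] at hc
    exact_mod_cast hc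
  have hd' : d' = d := by
    have h1 : Y.character 1 = (d' : ℂ) := by
      simp [Representation.character]
    rw [h1] at hd
    exact_mod_cast hd
  subst hc'
  subst hd'
  let ρN : Representation ℂ N (Fin c' → ℂ) := ρ.comp N.subtype
  let E : (projHomSub N Y ρ).toSubmodule ≃ₗ[ℂ] Representation.IntertwiningMap Y ρN :=
    { toFun := fun f => ⟨f.1, f.2⟩
      map_add' := fun _ _ => rfl
      map_smul' := fun _ _ => rfl
      invFun := fun φ => ⟨φ.toLinearMap, φ.isIntertwining'⟩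
      left_inv := fun _ => rfl
      right_inv := fun _ => rfl }
  have he : (Module.finrank ℂ (projHomSub N Y ρ).toSubmodule : ℂ)
      = classInner (fun n : N => ρ.character n) Y.character := by
    rw [E.finrank_eq]
    exact (classInner_char_eq_finrank_intertwining Y ρN).symm
  have hres := restrict_eq_smul_of_invariant N ρ.character ⟨c', ρ, hρ, rfl⟩ Y.character
    ⟨d', Y, hY, rfl⟩ hcon hinv
  have hced : c' = Module.finrank ℂ (projHomSub N Y ρ).toSubmodule * d' := by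
    have h1 := congrFun hres 1
    have h2 : ρ.character ((1 : N) : G) = (c' : ℂ) := hc
    rw [← he] at h1
    simp only [Pi.smul_apply, smul_eq_mul] at h1
    rw [h2, hd] at h1
    exact_mod_cast h1
  have he0 : Module.finrank ℂ (projHomSub N Y ρ).toSubmodule ≠ 0 := by
    intro h0
    apply hcon
    rw [← he, h0]
    simp
  have hfinU : Module.finrank ℂ (Fin c' → ℂ) = c' := by simp
  have hfinV : Module.finrank ℂ (Fin d' → ℂ) = d' := by simp
  have hdim : Module.finrank ℂ (projHomSub N Y ρ).toSubmodule * Module.finrank ℂ (Fin d' → ℂ)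
      ≤ Module.finrank ℂ (Fin c' → ℂ) := by
    rw [hfinU, hfinV, ← hced]
  have hne : (projHomSub N Y ρ).toSubmodule ≠ ⊥ := by
    intro h
    apply he0
    rw [h]
    simp
  haveI hirr := projHomSub_irreducible N Y hinv' ρ hdim hne
  haveI hfin : Finite (projGroup N Y) := projGroup_finite N Y hinv'
  have hπ := projHom_surjective N Y hinv'
  haveI : (N.comap (projHom N Y)).Normal := Subgroup.Normal.comap hN _
  have hsc : ∀ γ ∈ N.comap (projHom N Y), ∃ c₀ : ℂ,
      (projHomSub N Y ρ).toRepresentation γ = c₀ • (1 : Module.End ℂ _) := by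
    intro γ hγ
    obtain ⟨c₀, hc₀⟩ := projHomRep_scalar N Y ρ γ hγ
    refine ⟨c₀, ?_⟩
    apply LinearMap.ext
    intro f
    apply Subtype.ext
    exact hc₀ f.1 f.2
  have h7 := @finrank_dvd_index_of_scalar (projGroup N Y) _ _ ↥(projHomSub N Y ρ).toSubmodule _ _ _
    (projHomSub N Y ρ).toRepresentation hirr (N.comap (projHom N Y)) _ hsc
  rw [Subgroup.index_comap_of_surjective N hπ] at h7
  exact ⟨_, hced, h7⟩

/-- Isaacs 11.29: `χ(1)/ϑ(1)` divides the index of `N`. -/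
theorem degree_ratio_dvd_index {G : Type u} [Group G] [Fintype G] (N : Subgroup G)
    [hN : N.Normal] [Fintype N] (χ : G → ℂ) (hχ : IsIrrCharacter G χ) (ϑ : N → ℂ)
    (hϑ : IsIrrCharacter N ϑ) (hcon : classInner (fun n : N => χ n) ϑ ≠ 0) (c d : ℕ)
    (hc : χ 1 = c) (hd : ϑ 1 = d) : d ∣ c ∧ c / d ∣ N.index := by
  classical
  have hT : ∀ g : G, g ∈ conjStab N ϑ ↔
      ∀ n : N, ϑ ⟨g * n * g⁻¹, hN.conj_mem (n : G) n.2 g⟩ = ϑ n := by
    intro g
    rw [mem_conjStab]
    constructor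
    · intro h n
      exact congrFun h n
    · intro h
      funext n
      exact h n
  have hNT : N ≤ conjStab N ϑ := by
    intro n₀ hn₀
    rw [hT]
    intro n
    exact isCharacter_conj_class (isCharacter_of_isIrrCharacter hϑ) n ⟨n₀, hn₀⟩
  obtain ⟨ψ, hψ, hψind, hψcon⟩ :=
    clifford_correspondence_surj N ϑ hϑ (conjStab N ϑ) hT hNT χ hχ hcon
  have hNn : (N.subgroupOf (conjStab N ϑ)).Normal := Subgroup.Normal.subgroupOf hN _
  let e : N.subgroupOf (conjStab N ϑ) ≃* N := Subgroup.subgroupOfEquivOfLe hNT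
  have hϑ' : IsIrrCharacter (N.subgroupOf (conjStab N ϑ)) (ϑ ∘ e) :=
    isIrrCharacter_comp_equiv e hϑ
  have hinv' : ∀ (t : conjStab N ϑ) (n : N.subgroupOf (conjStab N ϑ)),
      (ϑ ∘ e) ⟨t * n * t⁻¹, hNn.conj_mem (n : conjStab N ϑ) n.2 t⟩ = (ϑ ∘ e) n := by
    intro t n
    exact (hT (t : G)).mp t.2 (e n)
  obtain ⟨c₁, hc₁pos, hc₁⟩ := isIrrCharacter_one hψ
  have hcon' : classInner (fun n : N.subgroupOf (conjStab N ϑ) => ψ n) (ϑ ∘ e) ≠ 0 := by
    have h1 : classInner (fun n : N.subgroupOf (conjStab N ϑ) => ψ n) (ϑ ∘ e)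
        = classInner (fun n : N => ψ ⟨(n : G), hNT n.2⟩) ϑ := by
      unfold classInner
      rw [Nat.card_congr e.toEquiv]
      congr 1
      exact Equiv.sum_comp e.toEquiv (fun n : N => ψ ⟨(n : G), hNT n.2⟩ * conj (ϑ n))
    rw [h1, hψcon]
    exact hcon
  have hd' : (ϑ ∘ e) 1 = d := by
    show ϑ (e 1) = d
    rw [map_one]
    exact hd
  obtain ⟨e₁, hce, he₁⟩ := degree_ratio_invariant (N.subgroupOf (conjStab N ϑ)) ψ hψ (ϑ ∘ e)
    hϑ' hinv' hcon' c₁ d hc₁ hd'
  have hidx : (N.subgroupOf (conjStab N ϑ)).index * (conjStab N ϑ).index = N.index :=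
    Subgroup.relIndex_mul_index hNT
  have hcT : c = (conjStab N ϑ).index * c₁ := by
    have h1 := indFun_one (conjStab N ϑ) ψ
    rw [hψind, hc, hc₁] at h1
    exact_mod_cast h1
  have hdpos : 0 < d := by
    obtain ⟨d₀, hd₀, hd₀'⟩ := isIrrCharacter_one hϑ
    rw [hd] at hd₀'
    have : d = d₀ := by exact_mod_cast hd₀'
    omega
  have hcd : c = (conjStab N ϑ).index * e₁ * d := by
    rw [hcT, hce, mul_assoc]
  refine ⟨⟨(conjStab N ϑ).index * e₁, by rw [hcd]; ring⟩, ?_⟩
  rw [hcd, Nat.mul_div_cancel _ hdpos, ← hidx, mul_comm]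
  exact Nat.mul_dvd_mul_right he₁ _

end Cfsg.Agent.Lib.helper24
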