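import Cfsg.Agent.S4456
import Cfsg.Agent.Lib.helper24.CharProj2
import Cfsg.Agent.Lib.helper24.CharMGroup
import Cfsg.Agent.Lib.helper24.CharLin
import Cfsg.Agent.Lib.helper24.CharKer
import Cfsg.Agent.Lib.helper23.Ito
import Cfsg.Agent.Lib.helper23.CharInt

set_option autoImplicit false

namespace Cfsg.Agent.Lib.helper24
open Cfsg
open scoped commutatorElement

universe u

/-- all irreducible characters linear ⇒ commutative -/
theorem comm_of_all_linear {G : Type u} [Group G] [Finite G]
    (h : ∀ χ : IrrCharacter G, χ.1 1 = 1) : ∀ a b : G, a * b = b * a := by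
  classical
  haveI : Fintype (IrrCharacter G) := Fintype.ofFinite _
  have h1 := sum_sq_charDegree (G := G)
  have h2 : ∀ χ : IrrCharacter G, charDegree χ.1 = 1 := by
    intro χ
    have : (charDegree χ.1 : ℂ) = 1 := by rw [charDegree_cast]; exact h χ
    exact_mod_cast this
  have h3 : Fintype.card (IrrCharacter G) = Nat.card G := by
    rw [← h1]; simp [h2]
  have h4 := card_linear_irr (G := G)
  have h5 : Nat.card {χ : IrrCharacter G // χ.1 1 = 1} = Nat.card (IrrCharacter G) :=
    Nat.card_congr (Equiv.subtypeUnivEquiv h)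
  rw [h5, Nat.card_eq_fintype_card, h3] at h4
  have h6 : commutator G = ⊥ := by
    have h7 := Subgroup.index_mul_card (commutator G)
    rw [← h4] at h7
    have hpos : 0 < Nat.card G := Nat.card_pos
    have h8 : Nat.card (commutator G) = 1 :=
      Nat.eq_of_mul_eq_mul_left hpos (h7.trans (mul_one _).symm)
    exact Subgroup.card_eq_one.1 h8
  intro a b
  have h9 : ⁅a, b⁆ ∈ commutator G := by
    rw [commutator_def]
    exact Subgroup.commutator_mem_commutator (Subgroup.mem_top a) (Subgroup.mem_top b)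
  rw [h6, Subgroup.mem_bot] at h9
  exact commutatorElement_eq_one_iff_mul_comm.1 h9

theorem ppower_degrees_iff {G : Type u} [Group G] [Finite G] (p : ℕ) (hp : p.Prime) :
    (∀ χ : IrrCharacter G, ∃ k : ℕ, χ.1 1 = (p : ℂ) ^ k) ↔
      ∃ A : Subgroup G, A.Normal ∧ (∀ a ∈ A, ∀ b ∈ A, a * b = b * a) ∧
        Nat.Coprime (Nat.card A) p ∧ ∃ k : ℕ, A.index = p ^ k := by
  classical
  haveI : Fintype G := Fintype.ofFinite G
  constructor
  · intro hall
    have hdeg : ∀ χ : IrrCharacter G, charDegree χ.1 ≠ 1 → p ∣ charDegree χ.1 := by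
      intro χ hχ
      obtain ⟨k, hk⟩ := hall χ
      have h1 : charDegree χ.1 = p ^ k := by
        have : (charDegree χ.1 : ℂ) = ((p ^ k : ℕ) : ℂ) := by
          rw [charDegree_cast, hk]; push_cast; rfl
        exact_mod_cast this
      rw [h1] at hχ ⊢
      rcases Nat.eq_zero_or_pos k with rfl | hkpos
      · simp at hχ
      · exact dvd_pow_self p hkpos.ne'
    obtain ⟨N, hNn, hcop, k, hk⟩ := Cfsg.Agent.S4456.result p hp hdeg
    refine ⟨N, hNn, ?_, hcop, k, hk⟩
    haveI := hNn
    have hlin : ∀ θ : IrrCharacter N, θ.1 1 = 1 := by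
      intro θ
      obtain ⟨d, hd, hdvd⟩ := irr_degree_dvd_card θ
      have hind : IsCharacter G (indFun N θ.1) :=
        isCharacter_indFun N (isCharacter_of_isIrrCharacter θ.2)
      have hind1 : indFun N θ.1 1 ≠ 0 := by
        rw [indFun_one]
        exact mul_ne_zero (by exact_mod_cast Subgroup.index_ne_zero_of_finite) (irr_one_ne_zero θ)
      obtain ⟨ψ, hψ⟩ := exists_constituent hind hind1
      rw [frobenius_reciprocity N θ.1 (isCharacter_conj_class (isCharacter_of_isIrrCharacter ψ.2))]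
        at hψ
      have hcon : classInner (fun n : N => ψ.1 n) θ.1 ≠ 0 := by
        rw [classInner_conj_symm]
        simpa using hψ
      obtain ⟨j, hj⟩ := hall ψ
      have hdv := (degree_ratio_dvd_index N ψ.1 ψ.2 θ.1 θ.2 hcon (p ^ j) d
        (by rw [hj]; push_cast; rfl) hd).1
      have hd1 : d = 1 := by
        have h1 : Nat.Coprime d p := Nat.Coprime.coprime_dvd_left hdvd hcop
        have h2 : Nat.Coprime d (p ^ j) := Nat.Coprime.pow_right j h1
        exact Nat.Coprime.eq_one_of_dvd h2 hdv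
      rw [hd, hd1]; simp
    have hcomm := comm_of_all_linear hlin
    intro a ha b hb
    have := hcomm ⟨a, ha⟩ ⟨b, hb⟩
    exact congrArg Subtype.val this
  · rintro ⟨A, hAn, hab, -, k, hk⟩ χ
    haveI := hAn
    obtain ⟨n, ρ, hρ, hχ⟩ := χ.2
    haveI := hρ
    have h1 := Cfsg.Agent.Lib.helper23.ito_degree_dvd_index ρ A hab
    rw [hk, Module.finrank_fin_fun] at h1
    obtain ⟨j, -, hj⟩ := (Nat.dvd_prime_pow hp).1 h1
    refine ⟨j, ?_⟩
    rw [← hχ, Cfsg.Agent.Lib.helper23.rep_char_one, hj]; push_cast; rfl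

end Cfsg.Agent.Lib.helper24
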