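import Cfsg.Agent.Lib.helper24.CharOps

set_option autoImplicit false

namespace Cfsg.Agent.Lib.helper24

open Representation
open scoped ComplexConjugate

universe u v w

variable {G : Type u} [Group G] {H : Type w} [Group H]

section Prod

theorem classInner_prod [Fintype G] [Fintype H] (a c : G → ℂ) (b d : H → ℂ) :
    classInner (fun x : G × H => a x.1 * b x.2) (fun x : G × H => c x.1 * d x.2)
      = classInner a c * classInner b d := by
  unfold classInner
  rw [Fintype.sum_prod_type, Nat.card_prod]
  have : ∀ g : G, ∑ h : H, a g * b h * conj (c g * d h)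
      = (a g * conj (c g)) * ∑ h : H, b h * conj (d h) := by
    intro g
    rw [Finset.mul_sum]
    apply Finset.sum_congr rfl
    intro h _
    rw [map_mul]
    ring
  simp only [this]
  rw [← Finset.sum_mul]
  push_cast
  rw [mul_inv]
  ring

theorem isIrrCharacter_prod [Finite G] [Finite H] {φ : G → ℂ} {ψ : H → ℂ}
    (hφ : IsIrrCharacter G φ) (hψ : IsIrrCharacter H ψ) :
    IsIrrCharacter (G × H) (fun x => φ x.1 * ψ x.2) := by
  classical
  have := Fintype.ofFinite G
  have := Fintype.ofFinite H
  have hc : IsCharacter (G × H) (fun x => φ x.1 * ψ x.2) :=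
    isCharacter_mul (isCharacter_comp (MonoidHom.fst G H) (isCharacter_of_isIrrCharacter hφ))
      (isCharacter_comp (MonoidHom.snd G H) (isCharacter_of_isIrrCharacter hψ))
  apply isIrrCharacter_of_inner_self_eq_one hc
  rw [classInner_prod, isIrrCharacter_inner_self hφ, isIrrCharacter_inner_self hψ, one_mul]

theorem exists_of_isIrrCharacter_prod [Finite G] [Finite H] {θ : G × H → ℂ}
    (hθ : IsIrrCharacter (G × H) θ) :
    ∃ (φ : G → ℂ) (ψ : H → ℂ), IsIrrCharacter G φ ∧ IsIrrCharacter H ψ ∧
      θ = fun x => φ x.1 * ψ x.2 := by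
  classical
  have := Fintype.ofFinite G
  have := Fintype.ofFinite H
  by_contra hcon
  push Not at hcon
  have hG : (Nat.card G : ℂ) ≠ 0 := NeZero.ne _
  have hH : (Nat.card H : ℂ) ≠ 0 := NeZero.ne _
  have hcf : IsClassFunction (G × H) θ := isCharacter_conj_class (isCharacter_of_isIrrCharacter hθ)
  have h0 : ∀ (φ : IrrCharacter G) (ψ : IrrCharacter H),
      ∑ h : H, (∑ g : G, θ (g, h) * conj (φ.1 g)) * conj (ψ.1 h) = 0 := by
    intro φ ψ
    have hne : (⟨θ, hθ⟩ : IrrCharacter (G × H))
        ≠ ⟨fun x => φ.1 x.1 * ψ.1 x.2, isIrrCharacter_prod φ.2 ψ.2⟩ := by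
      intro h
      exact hcon φ.1 ψ.1 φ.2 ψ.2 (congrArg Subtype.val h)
    have h1 := irr_inner_ne hne
    unfold classInner at h1
    rw [Fintype.sum_prod_type, Finset.sum_comm] at h1
    have h2 : (Nat.card (G × H) : ℂ) ≠ 0 := NeZero.ne _
    have h3 := (mul_eq_zero.mp h1).resolve_left (inv_ne_zero h2)
    rw [← h3]
    apply Finset.sum_congr rfl
    intro h _
    rw [Finset.sum_mul]
    apply Finset.sum_congr rfl
    intro g _
    simp only [map_mul]
    ring
  have h1 : ∀ (φ : IrrCharacter G) (h : H), ∑ g : G, θ (g, h) * conj (φ.1 g) = 0 := by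
    intro φ
    have hcf' : IsClassFunction H (fun h => ∑ g : G, θ (g, h) * conj (φ.1 g)) := by
      intro h h'
      apply Finset.sum_congr rfl
      intro g _
      have := hcf (g, h) (1, h')
      simp only [Prod.mk_mul_mk, Prod.inv_mk, one_mul, inv_one, mul_one] at this
      rw [this]
    have := classFunction_eq_zero_of_inner hcf' (fun ψ => by
      unfold classInner
      rw [h0 φ ψ, mul_zero])
    intro h
    exact congrFun this h
  have h2 : ∀ (h : H) (g : G), θ (g, h) = 0 := by
    intro h
    have hcf' : IsClassFunction G (fun g => θ (g, h)) := by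
      intro g g'
      have := hcf (g, h) (g', 1)
      simp only [Prod.mk_mul_mk, Prod.inv_mk, one_mul, inv_one, mul_one] at this
      exact this
    have := classFunction_eq_zero_of_inner hcf' (fun φ => by
      unfold classInner
      rw [h1 φ h, mul_zero])
    intro g
    exact congrFun this g
  obtain ⟨n, hn, h⟩ := isIrrCharacter_one hθ
  have : θ 1 = 0 := h2 1 1
  rw [h] at this
  have : n = 0 := by exact_mod_cast this
  omega

theorem isIrrCharacter_prod_iff [Finite G] [Finite H] (θ : G × H → ℂ) :
    IsIrrCharacter (G × H) θ ↔ ∃ (φ : G → ℂ) (ψ : H → ℂ),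
      IsIrrCharacter G φ ∧ IsIrrCharacter H ψ ∧ θ = fun x => φ x.1 * ψ x.2 := by
  constructor
  · exact exists_of_isIrrCharacter_prod
  · rintro ⟨φ, ψ, hφ, hψ, rfl⟩
    exact isIrrCharacter_prod hφ hψ

end Prod

end Cfsg.Agent.Lib.helper24
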