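import Cfsg.Agent.Lib.helper24.CharClifford
import Cfsg.Agent.Lib.helper24.CharRamified
import Cfsg.Agent.Lib.helper24.CharMGroup
import Cfsg.Agent.Lib.helper24.CharChief
import Cfsg.Agent.Lib.helper24.CharDet
import Cfsg.Agent.Lib.helper24.CharComplete
import Cfsg.Agent.Lib.helper1.Solv
import Cfsg.Agent.Lib.helper23.CharInt
import Cfsg.Agent.Lib.helper23.RepScalar

set_option autoImplicit false

namespace Cfsg.Agent.Lib.helper24
open Cfsg
open scoped ComplexConjugate commutatorElement

universe u

/-- a character of degree zero vanishes -/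
theorem isCharacter_eq_zero_of_one {G : Type u} [Group G] {f : G → ℂ} (hf : IsCharacter G f)
    (h1 : f 1 = 0) : f = 0 := by
  obtain ⟨n, ρ, rfl⟩ := hf
  rw [Cfsg.Agent.Lib.helper23.rep_char_one] at h1
  have hn : n = 0 := by exact_mod_cast h1
  subst hn
  funext g
  have h2 : ρ g = 0 := Subsingleton.elim _ _
  simp [Representation.character, h2]

/-- removing an irreducible constituent from a character leaves a character -/
theorem isCharacter_sub_irr {G : Type u} [Group G] [Fintype G] {α : G → ℂ} (hα : IsCharacter G α)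
    (θ : IrrCharacter G) (hcon : classInner α θ.1 ≠ 0) : IsCharacter G (α - θ.1) := by
  classical
  apply isCharacter_of_nat_inner
    (isClassFunction_sub (isCharacter_conj_class hα) (isClassFunction_irr θ))
  intro μ
  obtain ⟨b, hb⟩ := isCharacter_inner_irr_nat hα μ
  rw [classInner_sub_left, hb, classInner_irr_fun θ.2 μ.2]
  by_cases h : θ.1 = μ.1
  · have hθμ : θ = μ := Subtype.ext h
    subst hθμ
    rw [if_pos rfl]
    have hb0 : b ≠ 0 := by
      rintro rfl
      apply hcon
      rw [hb]; simp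
    refine ⟨b - 1, ?_⟩
    rw [Nat.cast_sub (Nat.one_le_iff_ne_zero.2 hb0)]
    simp
  · rw [if_neg h]
    exact ⟨b, by simp⟩

/-- an irreducible character is not a sum of two characters unless one vanishes -/
theorem eq_zero_of_irr_eq_add {G : Type u} [Group G] [Fintype G] {φ α β : G → ℂ}
    (hφ : IsIrrCharacter G φ) (hα : IsCharacter G α) (hβ : IsCharacter G β) (h : φ = α + β)
    (hα1 : α 1 ≠ 0) : β = 0 := by
  classical
  obtain ⟨μ, hμ⟩ := exists_constituent hα hα1
  obtain ⟨a, ha⟩ := isCharacter_inner_irr_nat hα μ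
  have hφμ : φ = μ.1 := by
    by_contra hne
    have h1 := classInner_irr_fun hφ μ.2
    rw [if_neg hne, h, classInner_add_left, ha] at h1
    obtain ⟨b, hb⟩ := isCharacter_inner_irr_nat hβ μ
    rw [hb] at h1
    have h2 : a + b = 0 := by exact_mod_cast h1
    have ha0 : a = 0 := by omega
    apply hμ
    rw [ha, ha0]; simp
  apply classFunction_eq_zero_of_inner (isCharacter_conj_class hβ)
  intro ν
  obtain ⟨b, hb⟩ := isCharacter_inner_irr_nat hβ ν
  obtain ⟨a', ha'⟩ := isCharacter_inner_irr_nat hα ν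
  have h1 := classInner_irr_fun hφ ν.2
  rw [h, classInner_add_left, ha', hb] at h1
  rw [hb]
  by_cases hν : α + β = ν.1
  · rw [if_pos hν] at h1
    have hνμ : ν = μ := Subtype.ext (by rw [← hν, ← h, hφμ])
    subst hνμ
    rw [ha] at ha'
    have haa : a = a' := by exact_mod_cast ha'
    have ha0 : a ≠ 0 := by
      rintro rfl
      apply hμ
      rw [ha]; simp
    have h2 : a' + b = 1 := by exact_mod_cast h1
    have hb0 : b = 0 := by omega
    rw [hb0]; simp
  · rw [if_neg hν] at h1
    have h2 : a' + b = 0 := by exact_mod_cast h1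
    have hb0 : b = 0 := by omega
    rw [hb0]; simp

/-- finite nilpotent group with abelian Sylow subgroups is abelian -/
theorem comm_of_nilpotent_of_sylow_comm {K : Type*} [Group K] [Finite K]
    (hnil : Group.IsNilpotent K)
    (hab : ∀ (p : ℕ) [Fact p.Prime] (P : Sylow p K), ∀ a ∈ P, ∀ b ∈ P, a * b = b * a) :
    ∀ a b : K, a * b = b * a := by
  obtain ⟨e⟩ := ((Group.isNilpotent_of_finite_tfae (G := K)).out 0 4).1 hnil
  intro a b
  have h : ∀ x y : (∀ p : (Nat.card K).primeFactors, ∀ P : Sylow p K, (↑P : Subgroup K)),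
      x * y = y * x := by
    intro x y
    funext p P
    apply Subtype.ext
    haveI : Fact (p : ℕ).Prime := ⟨Nat.prime_of_mem_primeFactors p.2⟩
    exact hab p P (x p P).1 (x p P).2 (y p P).1 (y p P).2
  have h2 := h (e.symm a) (e.symm b)
  calc a * b = e (e.symm a * e.symm b) := by simp
    _ = e (e.symm b * e.symm a) := by rw [h2]
    _ = b * a := by simp

/-- every `p`-subgroup inside `N` is abelian -/
def AbSyl {H : Type u} [Group H] (N : Subgroup H) : Prop :=
  ∀ (p : ℕ), p.Prime → ∀ Q : Subgroup H, Q ≤ N → IsPGroup p Q → ∀ a ∈ Q, ∀ b ∈ Q, a * b = b * a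

theorem abSyl_subgroupOf {H : Type u} [Group H] (N T : Subgroup H) (h : AbSyl N) :
    AbSyl (N.subgroupOf T) := by
  intro p hp Q hQ hQp a ha b hb
  have h1 : Q.map T.subtype ≤ N := by
    rintro _ ⟨x, hx, rfl⟩
    exact Subgroup.mem_subgroupOf.1 (hQ hx)
  have h2 := h p hp (Q.map T.subtype) h1 (hQp.map _) (a : H) ⟨a, ha, rfl⟩ (b : H) ⟨b, hb, rfl⟩
  exact Subtype.ext h2

theorem abSyl_of_sylow {G : Type u} [Group G] [Finite G] (N : Subgroup G)
    (hab : ∀ (p : ℕ) [Fact p.Prime] (P : Sylow p N), ∀ a ∈ P, ∀ b ∈ P, a * b = b * a) :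
    AbSyl N := by
  intro p hp Q hQ hQp a ha b hb
  haveI : Fact p.Prime := ⟨hp⟩
  have h1 : IsPGroup p (Q.subgroupOf N) := hQp.comap_subtype
  obtain ⟨P, hP⟩ := h1.exists_le_sylow
  have h2 := hab p P ⟨a, hQ ha⟩ (hP (Subgroup.mem_subgroupOf.2 ha)) ⟨b, hQ hb⟩
    (hP (Subgroup.mem_subgroupOf.2 hb))
  exact congrArg Subtype.val h2

/-- swap the two `subgroupOf`s -/
def subgroupOfSwap {H : Type u} [Group H] (N T : Subgroup H) :
    ↥(N.subgroupOf T) ≃* ↥(T.subgroupOf N) where
  toFun x := ⟨⟨((x : T) : H), Subgroup.mem_subgroupOf.1 x.2⟩, Subgroup.mem_subgroupOf.2 (x : T).2⟩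
  invFun y := ⟨⟨((y : N) : H), Subgroup.mem_subgroupOf.1 y.2⟩, Subgroup.mem_subgroupOf.2 (y : N).2⟩
  left_inv _ := rfl
  right_inv _ := rfl
  map_mul' _ _ := rfl

/-- if a character induced from `T` restricts irreducibly to the normal subgroup `N`, then the
inducing character restricts irreducibly to `T ∩ N`. -/
theorem restrict_irr_of_induced_restrict_irr {H : Type u} [Group H] [Fintype H] (N : Subgroup H)
    [hN : N.Normal] (T : Subgroup H) (ξ : T → ℂ) (hξ : IsIrrCharacter T ξ)
    (hψN : IsIrrCharacter N (fun n : N => indFun T ξ n)) :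
    IsIrrCharacter (N.subgroupOf T) (fun x : N.subgroupOf T => ξ x) := by
  classical
  set R' : Subgroup N := T.subgroupOf N with hR'
  set ξ' : R' → ℂ := fun x => ξ ⟨((x : N) : H), Subgroup.mem_subgroupOf.mp x.2⟩ with hξ'
  set β : N → ℂ := indFun R' ξ' with hβ
  set φ : N → ℂ := fun n : N => indFun T ξ n with hφ
  have hψ : IsCharacter H (indFun T ξ) := isCharacter_indFun T (isCharacter_of_isIrrCharacter hξ)
  have hcl : IsClassFunction H (indFun T ξ) := isCharacter_conj_class hψ
  have hξ'char : IsCharacter R' ξ' := by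
    let f : R' →* T := (N.subtype.comp R'.subtype).codRestrict T
      (fun x => Subgroup.mem_subgroupOf.mp x.2)
    exact isCharacter_comp f (isCharacter_of_isIrrCharacter hξ)
  have hβchar : IsCharacter N β := isCharacter_indFun R' hξ'char
  have hcT : (Nat.card T : ℂ) ≠ 0 := by exact_mod_cast Nat.card_pos.ne'
  have hcR : (Nat.card R' : ℂ) ≠ 0 := by exact_mod_cast Nat.card_pos.ne'
  have hcH : (Nat.card H : ℂ) ≠ 0 := by exact_mod_cast Nat.card_pos.ne'
  -- key identity
  have hkey : ∀ n : N, ∑ h : H, conjFun N β h n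
      = (Nat.card R' : ℂ)⁻¹ * ((Nat.card N : ℂ) * ((Nat.card T : ℂ) * indFun T ξ n)) := by
    intro n
    have h1 : ∀ h : H, conjFun N β h n
        = (Nat.card R' : ℂ)⁻¹ * ∑ y : N, extendByZero T ξ ((y : H)⁻¹ * (h * n * h⁻¹) * y) := by
      intro h
      rw [conjFun_apply]
      show (Nat.card R' : ℂ)⁻¹ * ∑ y : N, extendByZero R' ξ'
        (y⁻¹ * ⟨h * n * h⁻¹, hN.conj_mem n n.2 h⟩ * y) = _
      congr 1
      refine Finset.sum_congr rfl (fun y _ => ?_)
      rw [extendByZero_subgroupOf T N ξ]
      rfl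
    rw [Finset.sum_congr rfl (fun h _ => h1 h), ← Finset.mul_sum, Finset.sum_comm]
    congr 1
    have h2 : ∀ y : N, ∑ h : H, extendByZero T ξ ((y : H)⁻¹ * (h * n * h⁻¹) * y)
        = (Nat.card T : ℂ) * indFun T ξ n := by
      intro y
      have h3 : (Nat.card T : ℂ) * indFun T ξ n = ∑ g : H, extendByZero T ξ (g⁻¹ * n * g) := by
        unfold indFun
        rw [← mul_assoc, mul_inv_cancel₀ hcT, one_mul]
      rw [h3]
      refine Fintype.sum_equiv ((Equiv.inv H).trans (Equiv.mulRight (y : H))) _ _ (fun h => ?_)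
      congr 1
      simp only [Equiv.trans_apply, Equiv.inv_apply, Equiv.coe_mulRight]
      group
    rw [Finset.sum_congr rfl (fun y _ => h2 y), Finset.sum_const, Finset.card_univ, nsmul_eq_mul,
      ← Nat.card_eq_fintype_card]
  have hsumfun : ∑ h : H, conjFun N β h
      = ((Nat.card R' : ℂ)⁻¹ * ((Nat.card N : ℂ) * (Nat.card T : ℂ))) • φ := by
    funext n
    rw [Finset.sum_apply, hkey n]
    simp only [Pi.smul_apply, smul_eq_mul, hφ]
    ring
  have hinv : ∀ h : H, conjFun N φ h = φ := by
    intro h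
    funext n
    rw [conjFun_apply]
    exact hcl n h
  have hinner : (Nat.card H : ℂ) * classInner φ β
      = (Nat.card R' : ℂ)⁻¹ * ((Nat.card N : ℂ) * (Nat.card T : ℂ)) := by
    have h1 : classInner φ (∑ h : H, conjFun N β h) = ∑ h : H, classInner φ (conjFun N β h) :=
      classInner_sum_right _ _ _
    rw [hsumfun, classInner_smul_right, isIrrCharacter_inner_self hψN, mul_one,
      Finset.sum_congr rfl (fun h _ => classInner_conjFun_of_invariant N φ β h (hinv h)),
      Finset.sum_const, Finset.card_univ, nsmul_eq_mul, ← Nat.card_eq_fintype_card] at h1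
    rw [← h1]
    simp [map_mul, map_inv₀]
  obtain ⟨m, hm⟩ := isCharacter_inner_nat (isCharacter_restrict N hψ) hβchar
  rw [show (fun h : N => indFun T ξ h) = φ from rfl] at hm
  rw [hm] at hinner
  have harith : m * Nat.card H * Nat.card R' = Nat.card N * Nat.card T := by
    have h1 : ((m * Nat.card H * Nat.card R' : ℕ) : ℂ) = ((Nat.card N * Nat.card T : ℕ) : ℂ) := by
      push_cast
      have h2 : (Nat.card H : ℂ) * (m : ℂ) * (Nat.card R' : ℂ)
          = (Nat.card R' : ℂ)⁻¹ * ((Nat.card N : ℂ) * (Nat.card T : ℂ)) * (Nat.card R' : ℂ) := by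
        rw [hinner]
      rw [inv_mul_eq_div, div_mul_cancel₀ _ hcR] at h2
      rw [← h2]; ring
    exact_mod_cast h1
  have hq1 : T.relIndex N * Nat.card R' = Nat.card N := Subgroup.index_mul_card R'
  have hq2 : T.relIndex N ≤ T.index := by
    have h1 := Subgroup.relIndex_le_of_le_right (H := T) (le_top : N ≤ ⊤)
      (by rw [Subgroup.relIndex_top_right]; exact Subgroup.index_ne_zero_of_finite)
    rwa [Subgroup.relIndex_top_right] at h1
  have hTi : T.index * Nat.card T = Nat.card H := Subgroup.index_mul_card T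
  have hRpos : 0 < Nat.card R' := Nat.card_pos
  have hTpos : 0 < Nat.card T := Nat.card_pos
  have hNpos : 0 < Nat.card N := Nat.card_pos
  have hmq : m * T.index = T.relIndex N := by
    rw [← hTi, ← hq1] at harith
    have h1 : (m * T.index) * (Nat.card T * Nat.card R')
        = T.relIndex N * (Nat.card T * Nat.card R') := by
      rw [show m * T.index * (Nat.card T * Nat.card R') = m * (T.index * Nat.card T) * Nat.card R'
        by ring, harith]; ring
    exact Nat.eq_of_mul_eq_mul_right (Nat.mul_pos hTpos hRpos) h1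
  have hqpos : 0 < T.relIndex N := by
    rcases Nat.eq_zero_or_pos (T.relIndex N) with h | h
    · rw [h, zero_mul] at hq1; omega
    · exact h
  have hTipos : 0 < T.index := Nat.pos_of_ne_zero Subgroup.index_ne_zero_of_finite
  have hm1 : m = 1 := by
    have h1 : m * T.index ≤ 1 * T.index := by rw [hmq, one_mul]; exact hq2
    have h2 : m ≤ 1 := Nat.le_of_mul_le_mul_right h1 hTipos
    have h3 : m ≠ 0 := by
      rintro rfl
      rw [zero_mul] at hmq
      omega
    omega
  have hqT : T.relIndex N = T.index := by rw [← hmq, hm1, one_mul]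
  -- β = φ
  have hβφ : β = φ := by
    have hcon' : classInner β φ ≠ 0 := by
      rw [classInner_conj_symm, hm, hm1]; simp
    have hΔ := isCharacter_sub_irr hβchar (⟨φ, hψN⟩ : IrrCharacter N) hcon'
    have hΔ1 : (β - φ) 1 = 0 := by
      show indFun R' ξ' 1 - indFun T ξ ((1 : N) : H) = 0
      rw [indFun_one, OneMemClass.coe_one, indFun_one]
      have : R'.index = T.index := hqT
      rw [this]
      show (T.index : ℂ) * ξ 1 - (T.index : ℂ) * ξ 1 = 0
      ring
    exact sub_eq_zero.1 (isCharacter_eq_zero_of_one hΔ hΔ1)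
  -- ξ' irreducible
  have hξ'irr : IsIrrCharacter R' ξ' := by
    have hξ'1 : ξ' 1 ≠ 0 := irr_one_ne_zero (⟨ξ, hξ⟩ : IrrCharacter T)
    obtain ⟨θ, hθ⟩ := exists_constituent hξ'char hξ'1
    have hΔ' := isCharacter_sub_irr hξ'char θ hθ
    have hsplit : φ = indFun R' θ.1 + indFun R' (ξ' - θ.1) := by
      rw [← indFun_add, add_sub_cancel, ← hβφ]
    have hRi : (R'.index : ℂ) ≠ 0 := by exact_mod_cast Subgroup.index_ne_zero_of_finite
    have hα1 : indFun R' θ.1 1 ≠ 0 := by
      rw [indFun_one]
      exact mul_ne_zero hRi (irr_one_ne_zero θ)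
    have h0 := eq_zero_of_irr_eq_add hψN
      (isCharacter_indFun R' (isCharacter_of_isIrrCharacter θ.2)) (isCharacter_indFun R' hΔ')
      hsplit hα1
    have h1 : indFun R' (ξ' - θ.1) 1 = 0 := by rw [h0]; rfl
    rw [indFun_one] at h1
    have h2 : (ξ' - θ.1) 1 = 0 := (mul_eq_zero.1 h1).resolve_left hRi
    have h3 : ξ' = θ.1 := sub_eq_zero.1 (isCharacter_eq_zero_of_one hΔ' h2)
    rw [h3]; exact θ.2
  exact isIrrCharacter_comp_equiv (subgroupOfSwap N T) hξ'irr

theorem scalar_of_quasiprimitive {H : Type u} [Group H] [Fintype H] [Group.IsSolvable H]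
    (N : Subgroup H) (hAS : AbSyl N) (n : ℕ) (ρ : Representation ℂ H (Fin n → ℂ))
    (hρ : ρ.IsIrreducible)
    (hB : ∀ (M : Subgroup H) (hM : M.Normal) [Fintype M], M ≤ N → ∀ lam : M → ℂ,
      IsIrrCharacter M lam →
      classInner (fun x : M => ρ.character x) lam ≠ 0 →
      ∀ (g : H) (x : M), lam ⟨g * x * g⁻¹, hM.conj_mem x x.2 g⟩ = lam x) :
    ∀ (k : ℕ) (B : Subgroup H), Nat.card B ≤ k → B.Normal → B ≤ N →
      ∀ b ∈ B, ∃ c : ℂ, ρ b = c • LinearMap.id := by
  classical
  have hψ : IsIrrCharacter H ρ.character := ⟨n, ρ, hρ, rfl⟩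
  intro k
  induction k with
  | zero =>
    intro B hB0
    exact absurd hB0 (by have := Nat.card_pos (α := B); omega)
  | succ k ih =>
    intro B hBk hBn hBN b hb
    by_cases hbot : B = ⊥
    · subst hbot
      rw [Subgroup.mem_bot] at hb
      subst hb
      exact ⟨1, by rw [map_one, one_smul]; rfl⟩
    have hC : ⁅B, B⁆ < B := Group.IsSolvable.commutator_lt_of_ne_bot hbot
    have hCn : (⁅B, B⁆ : Subgroup H).Normal := Subgroup.commutator_normal B B
    have hCcard : Nat.card ↥⁅B, B⁆ ≤ k := by
      have h1 : Nat.card ↥⁅B, B⁆ < Nat.card B := by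
        by_contra h
        push Not at h
        exact hC.ne (Subgroup.eq_of_le_of_card_ge hC.le h)
      omega
    have hCs := ih ⁅B, B⁆ hCcard hCn (hC.le.trans hBN)
    let f : ↥B →* (Module.End ℂ (Fin n → ℂ))ˣ := (MonoidHom.toHomUnits ρ).comp B.subtype
    have hfval : ∀ x : B,
        ((f x : (Module.End ℂ (Fin n → ℂ))ˣ) : Module.End ℂ (Fin n → ℂ)) = ρ x := fun x => rfl
    have hcommK : ∀ a b : f.range, a * b = b * a := by
      apply comm_of_nilpotent_of_sylow_comm
      · apply Cfsg.Agent.Lib.helper1.isNilpotent_of_commutator_central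
        rintro _ ⟨x, rfl⟩ _ ⟨y, rfl⟩ c _
        have h1 : ⁅f x, f y⁆ = f ⁅x, y⁆ := (map_commutatorElement f x y).symm
        rw [h1]
        have h2 : ((⁅x, y⁆ : B) : H) ∈ ⁅B, B⁆ := Subgroup.commutator_mem_commutator x.2 y.2
        obtain ⟨s, hs⟩ := hCs _ h2
        apply Units.ext
        rw [Units.val_mul, Units.val_mul, hfval, hs]
        ext v
        simp
      · intro p _ P a ha b hb
        obtain ⟨P₀, hP₀⟩ := Sylow.mapSurjective_surjective f.rangeRestrict_surjective p P
        have hPeq : (P : Subgroup f.range) = (P₀ : Subgroup B).map f.rangeRestrict := by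
          rw [← hP₀]; rfl
        have ha' : a ∈ (P : Subgroup f.range) := ha
        have hb' : b ∈ (P : Subgroup f.range) := hb
        rw [hPeq] at ha' hb'
        obtain ⟨x, hx, rfl⟩ := ha'
        obtain ⟨y, hy, rfl⟩ := hb'
        have hQ : ((P₀ : Subgroup B).map B.subtype) ≤ N := by
          rintro _ ⟨z, -, rfl⟩
          exact hBN z.2
        have h3 := hAS p Fact.out _ hQ (P₀.isPGroup'.map _) (x : H) ⟨x, hx, rfl⟩ (y : H)
          ⟨y, hy, rfl⟩
        have hxy : x * y = y * x := Subtype.ext h3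
        rw [← map_mul, ← map_mul, hxy]
    have hcomm : ∀ x y : B, f x * f y = f y * f x := by
      intro x y
      have := hcommK ⟨f x, x, rfl⟩ ⟨f y, y, rfl⟩
      exact congrArg Subtype.val this
    have hψB : IsCharacter B (fun x : B => ρ.character x) :=
      isCharacter_restrict B (isCharacter_of_isIrrCharacter hψ)
    have hψ1 : (fun x : B => ρ.character x) 1 ≠ 0 :=
      irr_one_ne_zero (⟨ρ.character, hψ⟩ : IrrCharacter H)
    obtain ⟨θ, hθ⟩ := exists_constituent hψB hψ1
    have hinvθ := hB B hBn hBN θ.1 θ.2 hθ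
    haveI := hBn
    have hres := restrict_eq_smul_of_invariant B ρ.character hψ θ.1 θ.2 hθ hinvθ
    have hθlin : θ.1 1 = 1 := by
      apply irr_linear_of_commutator_le_ker θ.2
      intro c hc
      have hker : commutator B ≤ f.ker := by
        rw [commutator_eq_closure, Subgroup.closure_le]
        rintro _ ⟨x, y, rfl⟩
        show f ⁅x, y⁆ = 1
        rw [map_commutatorElement]
        exact commutatorElement_eq_one_iff_mul_comm.2 (hcomm x y)
      have h1 : f c = 1 := hker hc
      have h2 : ρ (c : H) = 1 := by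
        have := congrArg Units.val h1
        rw [hfval] at this
        exact this
      have h3 : ρ.character (c : H) = ρ.character ((1 : B) : H) := by
        unfold Representation.character
        rw [h2, OneMemClass.coe_one, map_one ρ]
      have h4 := congrFun hres c
      have h5 := congrFun hres 1
      simp only [Pi.smul_apply, smul_eq_mul] at h4 h5
      rw [h3, h5] at h4
      exact (mul_left_cancel₀ hθ h4).symm
    obtain ⟨μ, hμ⟩ := exists_hom_of_linear (isCharacter_of_isIrrCharacter θ.2) hθlin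
    have h5 := congrFun hres ⟨b, hb⟩
    have h6 := congrFun hres 1
    simp only [Pi.smul_apply, smul_eq_mul] at h5 h6
    rw [hθlin, mul_one, OneMemClass.coe_one, Cfsg.Agent.Lib.helper23.rep_char_one] at h6
    have hnorm : ‖ρ.character b‖ = (Module.finrank ℂ (Fin n → ℂ) : ℝ) := by
      rw [h5, norm_mul, ← h6, hμ, Module.finrank_fin_fun]
      have h7 : ‖((μ ⟨b, hb⟩ : ℂˣ) : ℂ)‖ = 1 := by
        apply Complex.norm_eq_one_of_pow_eq_one (n := Nat.card B)
        · rw [← Units.val_pow_eq_pow_val, ← map_pow, pow_card_eq_one', map_one, Units.val_one]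
        · exact Nat.card_pos.ne'
      rw [h7, mul_one]
      simp
    exact Cfsg.Agent.Lib.helper23.genrep_scalar_of_norm_eq ρ b (isOfFinOrder_of_finite b) hnorm

theorem monomial_of_restrict_irr : ∀ (k : ℕ) (H : Type u) [Group H] [Fintype H]
    [Group.IsSolvable H], Nat.card H ≤ k → ∀ (N : Subgroup H) [N.Normal], AbSyl N →
    ∀ ψ : H → ℂ, IsIrrCharacter H ψ → IsIrrCharacter N (fun n : N => ψ n) →
    ∃ (U : Subgroup H) (lam : U → ℂ), IsCharacter U lam ∧ lam 1 = 1 ∧ indFun U lam = ψ := by
  intro k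
  induction k with
  | zero =>
    intro H _ _ _ hH
    exact absurd hH (by have := Nat.card_pos (α := H); omega)
  | succ k ih =>
    intro H _ _ _ hHk N hNn hAS ψ hψ hψN
    classical
    by_cases hA : ∃ (M : Subgroup H) (hM : M.Normal) (lam : M → ℂ), M ≤ N ∧
        IsIrrCharacter M lam ∧ classInner (fun x : M => ψ x) lam ≠ 0 ∧
        ∃ (g : H) (x : M), lam ⟨g * x * g⁻¹, hM.conj_mem x x.2 g⟩ ≠ lam x
    · obtain ⟨M, hM, lam, hMN, hlam, hcon, g₀, x₀, hne⟩ := hA
      haveI := hM
      set T : Subgroup H := conjStab M lam with hTdef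
      have hT : ∀ g : H, g ∈ T ↔
          ∀ x : M, lam ⟨g * x * g⁻¹, hM.conj_mem (x : H) x.2 g⟩ = lam x := by
        intro g
        rw [hTdef, mem_conjStab]
        constructor
        · intro h x
          have h1 := congrFun h x
          rw [conjFun_apply] at h1
          exact h1
        · intro h
          funext x
          rw [conjFun_apply]; exact h x
      have hMT : M ≤ T := by
        intro g hg
        rw [hT]
        intro x
        exact isCharacter_conj_class (isCharacter_of_isIrrCharacter hlam) x ⟨g, hg⟩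
      have hTne : T ≠ ⊤ := by
        intro h
        have : g₀ ∈ T := by rw [h]; trivial
        exact hne ((hT g₀).1 this x₀)
      obtain ⟨ξ, hξ, hind, -⟩ := clifford_correspondence_surj M lam hlam T hT hMT ψ hψ hcon
      have hξN : IsIrrCharacter (N.subgroupOf T) (fun x : N.subgroupOf T => ξ x) := by
        apply restrict_irr_of_induced_restrict_irr N T ξ hξ
        rw [hind]; exact hψN
      have hcardT : Nat.card T ≤ k := by
        have := card_lt_of_ne_top T hTne
        omega
      haveI : (N.subgroupOf T).Normal := Subgroup.Normal.subgroupOf hNn T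
      obtain ⟨U, μ, hμ, hμ1, hUind⟩ :=
        ih T hcardT (N.subgroupOf T) (abSyl_subgroupOf N T hAS) ξ hξ hξN
      refine ⟨U.map T.subtype, fun y => μ ((Subgroup.equivMapOfInjective U T.subtype
        T.subtype_injective).symm y), ?_, ?_, ?_⟩
      · exact isCharacter_comp (Subgroup.equivMapOfInjective U T.subtype
          T.subtype_injective).symm.toMonoidHom hμ
      · show μ ((Subgroup.equivMapOfInjective U T.subtype T.subtype_injective).symm 1) = 1
        rw [map_one]; exact hμ1
      · rw [← indFun_map_subtype, hUind, hind]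
    · push Not at hA
      obtain ⟨n, ρ, hρ, rfl⟩ := hψ
      have hsc := scalar_of_quasiprimitive N hAS n ρ hρ
        (fun M hM _ hMN lam hlam hcon g x => hA M hM lam hMN hlam (by convert hcon) g x)
        (Nat.card N) N le_rfl
        hNn le_rfl
      have hnorm : ∀ b : N, ρ.character b * conj (ρ.character b) = (n : ℂ) ^ 2 := by
        intro b
        obtain ⟨ω, hω⟩ := hsc b b.2
        have h1 := Cfsg.Agent.Lib.helper23.genrep_norm_eq_of_scalar ρ b (isOfFinOrder_of_finite _)
          ω hω
        rw [Module.finrank_fin_fun] at h1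
        rw [Complex.mul_conj, Complex.normSq_eq_norm_sq, h1]
        push_cast; rfl
      have hin := isIrrCharacter_inner_self hψN
      unfold classInner at hin
      have hcN : (Nat.card N : ℂ) ≠ 0 := by exact_mod_cast Nat.card_pos.ne'
      rw [Finset.sum_congr rfl (fun b _ => hnorm b), Finset.sum_const, Finset.card_univ,
        nsmul_eq_mul, ← Nat.card_eq_fintype_card, ← mul_assoc, inv_mul_cancel₀ hcN, one_mul] at hin
      have hn1 : n = 1 := by
        have h2 : ((n ^ 2 : ℕ) : ℂ) = ((1 : ℕ) : ℂ) := by push_cast; exact hin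
        have h3 : n ^ 2 = 1 := by exact_mod_cast h2
        exact (Nat.pow_eq_one.1 h3).resolve_right (by norm_num)
      have hch : IsCharacter H ρ.character := ⟨n, ρ, rfl⟩
      refine ⟨⊤, fun h => ρ.character h, isCharacter_restrict ⊤ hch, ?_,
        indFun_top (isCharacter_conj_class hch)⟩
      show ρ.character ((1 : (⊤ : Subgroup H)) : H) = 1
      rw [OneMemClass.coe_one, Cfsg.Agent.Lib.helper23.rep_char_one, hn1]
      simp

theorem m_group_of_relative {G : Type u} [Group G] [Fintype G] [Group.IsSolvable G]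
    (N : Subgroup G) [hNn : N.Normal]
    (hab : ∀ (p : ℕ) [Fact p.Prime] (P : Sylow p N), ∀ a ∈ P, ∀ b ∈ P, a * b = b * a)
    (hrel : ∀ χ : G → ℂ, IsIrrCharacter G χ → ∃ (H : Subgroup G) (hNH : N ≤ H) (ψ : H → ℂ),
      IsIrrCharacter H ψ ∧ indFun H ψ = χ ∧
        IsIrrCharacter N (fun n : N => ψ ⟨(n : G), hNH n.2⟩))
    (χ : G → ℂ) (hχ : IsIrrCharacter G χ) :
    ∃ (U : Subgroup G) (lam : U → ℂ), IsCharacter U lam ∧ lam 1 = 1 ∧ indFun U lam = χ := by
  classical
  obtain ⟨H, hNH, ψ, hψ, hind, hψN⟩ := hrel χ hχ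
  haveI : (N.subgroupOf H).Normal := Subgroup.Normal.subgroupOf hNn H
  have hAS : AbSyl (N.subgroupOf H) := abSyl_subgroupOf N H (abSyl_of_sylow N hab)
  have hψN' : IsIrrCharacter (N.subgroupOf H) (fun x : N.subgroupOf H => ψ x) :=
    isIrrCharacter_comp_equiv (Subgroup.subgroupOfEquivOfLe hNH) hψN
  obtain ⟨U, μ, hμ, hμ1, hUind⟩ :=
    monomial_of_restrict_irr (Nat.card H) H le_rfl (N.subgroupOf H) hAS ψ hψ hψN'
  refine ⟨U.map H.subtype, fun y => μ ((Subgroup.equivMapOfInjective U H.subtype
    H.subtype_injective).symm y), ?_, ?_, ?_⟩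
  · exact isCharacter_comp (Subgroup.equivMapOfInjective U H.subtype
      H.subtype_injective).symm.toMonoidHom hμ
  · show μ ((Subgroup.equivMapOfInjective U H.subtype H.subtype_injective).symm 1) = 1
    rw [map_one]; exact hμ1
  · rw [← indFun_map_subtype, hUind, hind]

end Cfsg.Agent.Lib.helper24
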