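import Cfsg.Agent.Lib.helper24.CharMisc

set_option autoImplicit false

namespace Cfsg.Agent.Lib.helper24

open Representation
open scoped ComplexConjugate

universe u v w

variable {G : Type u} [Group G]

section TwoTrans

theorem sum_card_fixedBy [Fintype G] (X : Type v) [MulAction G X] [Finite X] :
    ∑ g : G, (Nat.card (MulAction.fixedBy X g) : ℂ)
      = (Nat.card (MulAction.orbitRel.Quotient G X) : ℂ) * (Nat.card G : ℂ) := by
  classical
  have := Fintype.ofFinite X
  have := Fintype.ofFinite (MulAction.orbitRel.Quotient G X)
  have h := MulAction.sum_card_fixedBy_eq_card_orbits_mul_card_group G X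
  simp only [Nat.card_eq_fintype_card]
  exact_mod_cast h

/-- Fixed points on ordered pairs of distinct points. -/
def fixedByEmbEquiv (X : Type v) [MulAction G X] (g : G) :
    MulAction.fixedBy (Fin 2 ↪ X) g ≃ (Fin 2 ↪ MulAction.fixedBy X g) where
  toFun e := ⟨fun i => ⟨e.1 i, by
      have := congrArg (fun f : Fin 2 ↪ X => f i) e.2
      exact this⟩, fun i j hij => e.1.injective (congrArg Subtype.val hij)⟩
  invFun f := ⟨⟨fun i => (f i).1, fun i j hij => f.injective (Subtype.ext hij)⟩, by
      ext i
      exact (f i).2⟩
  left_inv e := by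
    apply Subtype.ext
    ext i
    rfl
  right_inv f := by
    ext i
    rfl

theorem card_fixedBy_embedding (X : Type v) [MulAction G X] [Finite X] (g : G) :
    (Nat.card (MulAction.fixedBy (Fin 2 ↪ X) g) : ℂ)
      = (Nat.card (MulAction.fixedBy X g) : ℂ) * ((Nat.card (MulAction.fixedBy X g) : ℂ) - 1) := by
  classical
  have := Fintype.ofFinite X
  rw [Nat.card_congr (fixedByEmbEquiv X g), Nat.card_eq_fintype_card, Fintype.card_embedding_eq,
    Fintype.card_fin, ← Nat.card_eq_fintype_card]
  generalize Nat.card (MulAction.fixedBy X g) = n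
  cases n with
  | zero => simp
  | succ m =>
    simp [Nat.descFactorial]
    ring

theorem permChar_isCharacter [Finite G] (X : Type v) [MulAction G X] [Finite X] :
    IsCharacter G (fun g : G => (Nat.card (MulAction.fixedBy X g) : ℂ)) := by
  have h := isCharacter_of_rep (Representation.ofMulAction ℂ G X)
  convert h using 1
  funext g
  rw [ofMulAction_character]
  rfl

theorem card_orbits_of_pretransitive (X : Type v) [MulAction G X] [MulAction.IsPretransitive G X]
    [Nonempty X] : Nat.card (MulAction.orbitRel.Quotient G X) = 1 := by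
  obtain ⟨hu⟩ := (MulAction.pretransitive_iff_unique_quotient_of_nonempty G X).mp inferInstance
  exact Nat.card_unique

theorem pretransitive_iff_card_orbits (X : Type v) [MulAction G X] [Nonempty X] [Finite X] :
    MulAction.IsPretransitive G X ↔ Nat.card (MulAction.orbitRel.Quotient G X) = 1 := by
  constructor
  · intro h
    exact card_orbits_of_pretransitive X
  · intro h
    rw [MulAction.pretransitive_iff_subsingleton_quotient]
    exact (Nat.card_eq_one_iff_unique.mp h).1

/-- For a transitive action, `π - 1` is irreducible iff the action is doubly transitive. -/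
theorem perm_sub_one_irr_iff [Finite G] (X : Type v) [MulAction G X] [Finite X]
    [MulAction.IsPretransitive G X] (hX : 2 ≤ Nat.card X) :
    IsIrrCharacter G (fun g => (Nat.card (MulAction.fixedBy X g) : ℂ) - 1)
      ↔ MulAction.IsMultiplyPretransitive G X 2 := by
  classical
  have := Fintype.ofFinite G
  have := Fintype.ofFinite X
  have hG : (Nat.card G : ℂ) ≠ 0 := NeZero.ne _
  have hne : Nonempty X := by
    have : 0 < Nat.card X := by omega
    exact (Nat.card_pos_iff.mp this).1
  have hneE : Nonempty (Fin 2 ↪ X) := by
    apply Function.Embedding.nonempty_of_card_le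
    rw [Fintype.card_fin, ← Nat.card_eq_fintype_card]
    exact hX
  have hπ := permChar_isCharacter (G := G) X
  have hsum1 : ∑ g : G, (Nat.card (MulAction.fixedBy X g) : ℂ) = (Nat.card G : ℂ) := by
    rw [sum_card_fixedBy, card_orbits_of_pretransitive X]
    simp
  have h1 : classInner (fun g : G => (Nat.card (MulAction.fixedBy X g) : ℂ)) (trivIrr G).1 = 1 := by
    rw [classInner_trivIrr, hsum1, inv_mul_cancel₀ hG]
  have hθ : (fun g : G => (Nat.card (MulAction.fixedBy X g) : ℂ) - 1)
      = (fun g : G => (Nat.card (MulAction.fixedBy X g) : ℂ)) - (trivIrr G).1 := by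
    funext g
    rfl
  have hchar : IsCharacter G (fun g : G => (Nat.card (MulAction.fixedBy X g) : ℂ) - 1) := by
    apply isCharacter_of_nat_inner
    · rw [hθ]
      exact isClassFunction_sub (isCharacter_conj_class hπ) (isClassFunction_irr _)
    · intro ψ
      rw [hθ, classInner_sub_left]
      by_cases hψ : ψ = trivIrr G
      · subst hψ
        rw [h1, irr_inner_self]
        exact ⟨0, by simp⟩
      · obtain ⟨n, hn⟩ := isCharacter_inner_irr_nat hπ ψ
        rw [hn, irr_inner_ne (fun h => hψ h.symm)]
        exact ⟨n, by simp⟩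
  have hnorm : classInner (fun g : G => (Nat.card (MulAction.fixedBy X g) : ℂ) - 1)
      (fun g : G => (Nat.card (MulAction.fixedBy X g) : ℂ) - 1)
      = (Nat.card (MulAction.orbitRel.Quotient G (Fin 2 ↪ X)) : ℂ) := by
    unfold classInner
    have hterm : ∀ g : G, ((Nat.card (MulAction.fixedBy X g) : ℂ) - 1)
        * conj ((Nat.card (MulAction.fixedBy X g) : ℂ) - 1)
        = (Nat.card (MulAction.fixedBy (Fin 2 ↪ X) g) : ℂ)
          - (Nat.card (MulAction.fixedBy X g) : ℂ) + 1 := by
      intro g
      rw [card_fixedBy_embedding, map_sub, Complex.conj_natCast, map_one]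
      ring
    simp only [hterm]
    rw [Finset.sum_add_distrib, Finset.sum_sub_distrib, sum_card_fixedBy, hsum1]
    simp only [Finset.sum_const, Finset.card_univ, nsmul_eq_mul, mul_one,
      ← Nat.card_eq_fintype_card]
    field_simp
    ring
  rw [isIrrCharacter_iff_inner_self, hnorm]
  unfold MulAction.IsMultiplyPretransitive
  rw [pretransitive_iff_card_orbits (G := G) (Fin 2 ↪ X)]
  constructor
  · rintro ⟨_, h⟩
    exact_mod_cast h
  · intro h
    refine ⟨hchar, ?_⟩
    rw [h]
    simp

end TwoTrans

end Cfsg.Agent.Lib.helper24
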