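import Mathlib

set_option autoImplicit false

namespace Cfsg.Agent.Lib.helper24

/-- Integers `m i` (indexed by a finite type of size `n`) with `n ∑ m² - (∑ m)² ≤ n - 1` are
all equal, or all equal but one which differs by one. -/
theorem comb_variance {ι : Type*} [Fintype ι] (m : ι → ℤ)
    (h : (Fintype.card ι : ℤ) * ∑ i, m i ^ 2 - (∑ i, m i) ^ 2 ≤ (Fintype.card ι : ℤ) - 1) :
    ∃ a : ℤ, (∀ i, m i = a) ∨
      (∃ i₀, (m i₀ = a + 1 ∨ m i₀ = a - 1) ∧ ∀ i, i ≠ i₀ → m i = a) := by
  classical
  have hne : Nonempty ι := by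
    by_contra hemp
    rw [not_nonempty_iff] at hemp
    simp at h
  obtain ⟨i₁, hi₁⟩ := Finite.exists_min m
  set a := m i₁ with ha
  set n : ℤ := (Fintype.card ι : ℤ) with hn
  have hnpos : 0 < n := by
    have : 0 < Fintype.card ι := Fintype.card_pos
    omega
  let k : ι → ℤ := fun i => m i - a
  have hkdef : ∀ i, k i = m i - a := fun i => rfl
  have hk0 : ∀ i, 0 ≤ k i := fun i => sub_nonneg.mpr (hi₁ i)
  have hk1 : k i₁ = 0 := sub_self _
  set r := ∑ i, k i with hr
  set Q := ∑ i, k i ^ 2 with hQ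
  have hident : n * Q - r ^ 2 = n * ∑ i, m i ^ 2 - (∑ i, m i) ^ 2 := by
    have e1 : r = ∑ i, m i - n * a := by
      simp only [hr, hkdef, Finset.sum_sub_distrib, Finset.sum_const, Finset.card_univ,
        nsmul_eq_mul, hn]
    have e2 : Q = ∑ i, m i ^ 2 - 2 * a * ∑ i, m i + n * a ^ 2 := by
      have : ∀ i, k i ^ 2 = m i ^ 2 - 2 * a * m i + a ^ 2 := fun i => by rw [hkdef]; ring
      simp only [hQ, this, Finset.sum_add_distrib, Finset.sum_sub_distrib, ← Finset.mul_sum,
        Finset.sum_const, Finset.card_univ, nsmul_eq_mul, hn]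
    rw [e1, e2]; ring
  have hmain : n * Q - r ^ 2 ≤ n - 1 := by rw [hident]; exact h
  have hrQ : r ≤ Q := Finset.sum_le_sum (fun i _ => Int.le_self_sq (k i))
  have hCS : r ^ 2 ≤ (n - 1) * Q := by
    have h1 : r = ∑ i ∈ Finset.univ.erase i₁, k i := by
      rw [hr, ← Finset.add_sum_erase _ _ (Finset.mem_univ i₁), hk1, zero_add]
    have h2 : Q = ∑ i ∈ Finset.univ.erase i₁, k i ^ 2 := by
      rw [hQ, ← Finset.add_sum_erase _ _ (Finset.mem_univ i₁), hk1]; simp
    have h3 := sq_sum_le_card_mul_sum_sq (s := Finset.univ.erase i₁) (f := k)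
    rw [Finset.card_erase_of_mem (Finset.mem_univ i₁), Finset.card_univ] at h3
    have h4 : ((Fintype.card ι - 1 : ℕ) : ℤ) = n - 1 := by
      rw [Nat.cast_sub Fintype.card_pos]; simp [hn]
    rw [h4] at h3
    rw [h1, h2]
    exact h3
  have hQ0 : 0 ≤ Q := Finset.sum_nonneg (fun i _ => sq_nonneg _)
  have hQn : Q ≤ n - 1 := by nlinarith
  have hr0 : 0 ≤ r := Finset.sum_nonneg (fun i _ => hk0 i)
  have hrn : r ≤ n - 1 := le_trans hrQ hQn
  by_cases hrz : r = 0
  · refine ⟨a, Or.inl fun i => ?_⟩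
    have := (Finset.sum_eq_zero_iff_of_nonneg (fun i _ => hk0 i)).mp hrz i (Finset.mem_univ i)
    exact sub_eq_zero.mp this
  · have hr1 : 1 ≤ r := by omega
    have hprod : (r - 1) * (n - 1 - r) = 0 := by
      have h1 : 0 ≤ (r - 1) * (n - 1 - r) := mul_nonneg (by omega) (by omega)
      have h2 : n * r ≤ n * Q := by nlinarith
      nlinarith
    have hQr : Q = r := by
      have h1 : n * Q ≤ n * r := by nlinarith
      have h2 : Q ≤ r := le_of_mul_le_mul_left h1 hnpos
      omega
    have hk01 : ∀ i, k i = 0 ∨ k i = 1 := by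
      intro i
      have hsum : ∑ i, (k i ^ 2 - k i) = 0 := by
        rw [Finset.sum_sub_distrib]; omega
      have h1 := (Finset.sum_eq_zero_iff_of_nonneg
        (fun i _ => sub_nonneg.mpr (Int.le_self_sq (k i)))).mp hsum i (Finset.mem_univ i)
      have h2 : k i * (k i - 1) = 0 := by nlinarith
      rcases mul_eq_zero.mp h2 with h | h
      · left; exact h
      · right; omega
    rcases mul_eq_zero.mp hprod with h1 | h1
    · have hr1' : r = 1 := by omega
      have hex : ∃ i₀, k i₀ = 1 := by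
        by_contra hno
        push Not at hno
        have : r = 0 := Finset.sum_eq_zero (fun i _ => (hk01 i).resolve_right (hno i))
        omega
      obtain ⟨i₀, hi₀⟩ := hex
      refine ⟨a, Or.inr ⟨i₀, Or.inl (by have := hkdef i₀; omega), fun i hi => ?_⟩⟩
      have h2 : ∑ j ∈ Finset.univ.erase i₀, k j = 0 := by
        have := Finset.add_sum_erase Finset.univ k (Finset.mem_univ i₀)
        rw [hi₀] at this; omega
      have := (Finset.sum_eq_zero_iff_of_nonneg (fun j _ => hk0 j)).mp h2 i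
        (Finset.mem_erase.mpr ⟨hi, Finset.mem_univ i⟩)
      have := hkdef i; omega
    · have hrn' : r = n - 1 := by omega
      have hs : ∑ i, (1 - k i) = 1 := by
        rw [Finset.sum_sub_distrib, Finset.sum_const, Finset.card_univ, nsmul_eq_mul, mul_one]
        omega
      refine ⟨a + 1, Or.inr ⟨i₁, Or.inr (by omega), fun i hi => ?_⟩⟩
      have h2 : ∑ j ∈ Finset.univ.erase i₁, (1 - k j) = 0 := by
        have := Finset.add_sum_erase Finset.univ (fun j => 1 - k j) (Finset.mem_univ i₁)
        simp only [hk1] at this; omega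
      have hnn : ∀ j ∈ Finset.univ.erase i₁, 0 ≤ 1 - k j := fun j _ => by
        rcases hk01 j with h | h <;> omega
      have := (Finset.sum_eq_zero_iff_of_nonneg hnn).mp h2 i
        (Finset.mem_erase.mpr ⟨hi, Finset.mem_univ i⟩)
      have := hkdef i; omega

end Cfsg.Agent.Lib.helper24
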