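import Cfsg.Agent.Lib.helper8.CoprimeAction
import Cfsg.Prelude.Def_Characters

set_option autoImplicit false

namespace Cfsg.Agent.Lib.helper24

open Cfsg

universe u

/-- Type synonym of a group carrying its conjugation action. -/
def CjS (Γ : Type u) : Type u := Γ

theorem cjs_aux1 {Γ : Type u} [Group Γ] (x : Γ) : (1 : Γ) * x * (1 : Γ)⁻¹ = x := by simp

theorem cjs_aux2 {Γ : Type u} [Group Γ] (g h x : Γ) :
    (g * h) * x * (g * h)⁻¹ = g * (h * x * h⁻¹) * g⁻¹ := by group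

instance cjsAction (Γ : Type u) [Group Γ] : MulAction Γ (CjS Γ) where
  smul g x := (g * (show Γ from x) * g⁻¹ : Γ)
  one_smul x := cjs_aux1 (show Γ from x)
  mul_smul g h x := cjs_aux2 g h (show Γ from x)

theorem conj_fix_of_coprime {Γ : Type u} [Group Γ] [Finite Γ] (G S : Subgroup Γ) [hG : G.Normal]
    (hcop : (Nat.card G).Coprime (Nat.card S)) (hsolv : Group.IsSolvable S ∨ Group.IsSolvable G) (y : Γ)
    (hy : ∀ a ∈ S, ∃ k ∈ G, a * y * a⁻¹ = k * y * k⁻¹) :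
    ∃ k ∈ G, ∀ a ∈ S, a * (k * y * k⁻¹) * a⁻¹ = k * y * k⁻¹ := by
  have hSG : S ≤ Subgroup.normalizer (G : Set Γ) := by
    rw [Subgroup.normalizer_eq_top]
    exact le_top
  exact Cfsg.Agent.Lib.helper8.fix_internal (X := CjS Γ) S G hSG hcop.symm hsolv
    (show CjS Γ from y) hy

theorem coset_conj_centralizer {Γ : Type u} [Group Γ] [Finite Γ] (G S : Subgroup Γ)
    [hG : G.Normal] (hcop : (Nat.card G).Coprime (Nat.card S)) (s : Γ)
    (hs : Subgroup.zpowers s = S) (g : Γ) (hg : g ∈ G) :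
    ∃ k ∈ G, ∃ c ∈ G ⊓ Subgroup.centralizer (S : Set Γ), k * (g * s) * k⁻¹ = c * s := by
  have hsS : s ∈ S := hs ▸ Subgroup.mem_zpowers s
  have hcomm : ∀ a ∈ S, a * s = s * a := by
    intro a ha
    rw [← hs] at ha
    obtain ⟨i, rfl⟩ := Subgroup.mem_zpowers_iff.mp ha
    exact ((Commute.refl s).zpow_left i).eq
  have hsolv : Group.IsSolvable S ∨ Group.IsSolvable G := by
    left
    apply Group.isSolvable_of_comm
    rintro ⟨a, ha⟩ ⟨b, hb⟩
    apply Subtype.ext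
    rw [← hs] at ha hb
    obtain ⟨i, rfl⟩ := Subgroup.mem_zpowers_iff.mp ha
    obtain ⟨j, rfl⟩ := Subgroup.mem_zpowers_iff.mp hb
    exact ((Commute.refl s).zpow_zpow i j).eq
  set y := g * s with hy
  have horb : ∀ a ∈ S, ∃ k ∈ G, a * y * a⁻¹ = k * y * k⁻¹ := by
    intro a ha
    have hyM : y ∈ G ⊔ Subgroup.zpowers y :=
      (le_sup_right : Subgroup.zpowers y ≤ _) (Subgroup.mem_zpowers y)
    have hgM : g ∈ G ⊔ Subgroup.zpowers y := (le_sup_left : G ≤ _) hg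
    have hsM : s ∈ G ⊔ Subgroup.zpowers y := by
      have : s = g⁻¹ * y := by rw [hy]; group
      rw [this]; exact Subgroup.mul_mem _ (Subgroup.inv_mem _ hgM) hyM
    have haM : a ∈ G ⊔ Subgroup.zpowers y := by
      have h1 : Subgroup.zpowers s ≤ G ⊔ Subgroup.zpowers y := (Subgroup.zpowers_le).mpr hsM
      exact h1 (hs ▸ ha)
    have h2 : (a : Γ) ∈ ((G ⊔ Subgroup.zpowers y : Subgroup Γ) : Set Γ) := haM
    rw [Subgroup.normal_mul] at h2
    obtain ⟨k, hk, z, hz, rfl⟩ := Set.mem_mul.mp h2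
    refine ⟨k, hk, ?_⟩
    obtain ⟨i, rfl⟩ := Subgroup.mem_zpowers_iff.mp hz
    have h3 : y ^ i * y * (y ^ i)⁻¹ = y := by
      have := ((Commute.refl y).zpow_left i).eq
      rw [this, mul_inv_cancel_right]
    calc k * y ^ i * y * (k * y ^ i)⁻¹ = k * (y ^ i * y * (y ^ i)⁻¹) * k⁻¹ := by group
      _ = k * y * k⁻¹ := by rw [h3]
  obtain ⟨k, hk, hfix⟩ := conj_fix_of_coprime G S hcop hsolv y horb
  refine ⟨k, hk, k * y * k⁻¹ * s⁻¹, Subgroup.mem_inf.mpr ⟨?_, ?_⟩, by group⟩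
  · have : k * y * k⁻¹ * s⁻¹ = k * g * (s * k⁻¹ * s⁻¹) := by rw [hy]; group
    rw [this]
    exact G.mul_mem (G.mul_mem hk hg) (hG.conj_mem _ (G.inv_mem hk) s)
  · apply Subgroup.mem_centralizer_iff.mpr
    intro a ha
    have h1 := hfix a ha
    have h2 := hcomm a ha
    have h1' : a * (k * y * k⁻¹) = (k * y * k⁻¹) * a := by
      rw [← mul_inv_eq_iff_eq_mul]
      exact h1
    have h2' : a * s⁻¹ = s⁻¹ * a := (Commute.inv_right (show Commute a s from h2)).eq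
    calc a * (k * y * k⁻¹ * s⁻¹) = (a * (k * y * k⁻¹)) * s⁻¹ := by group
      _ = (k * y * k⁻¹) * a * s⁻¹ := by rw [h1']
      _ = (k * y * k⁻¹) * (a * s⁻¹) := by group
      _ = (k * y * k⁻¹) * (s⁻¹ * a) := by rw [h2']
      _ = k * y * k⁻¹ * s⁻¹ * a := by group

theorem coset_sum_eq {Γ : Type u} [Group Γ] [Finite Γ] (G S : Subgroup Γ) [hG : G.Normal]
    (hcop : (Nat.card G).Coprime (Nat.card S)) (s : Γ) (hs : Subgroup.zpowers s = S)
    (C : Subgroup Γ) (hC : C = G ⊓ Subgroup.centralizer (S : Set Γ)) [Fintype G] [Fintype C]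
    (F : Γ → ℂ) (hF : IsClassFunction Γ F) :
    (Nat.card C : ℂ) * ∑ g : G, F ((g : Γ) * s) = (Nat.card G : ℂ) * ∑ c : C, F ((c : Γ) * s) := by
  classical
  have hCG : C ≤ G := hC ▸ inf_le_left
  have hCS : ∀ z ∈ C, ∀ a ∈ S, a * z = z * a := by
    intro z hz a ha
    rw [hC] at hz
    exact Subgroup.mem_centralizer_iff.mp hz.2 a ha
  have hsS : s ∈ S := hs ▸ Subgroup.mem_zpowers s
  have hex : ∀ g : G, ∃ k : G, ∃ c : C,
      (k : Γ) * ((g : Γ) * s) * (k : Γ)⁻¹ = (c : Γ) * s := by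
    intro g
    obtain ⟨k, hk, c, hc, h⟩ := coset_conj_centralizer G S hcop s hs g g.2
    exact ⟨⟨k, hk⟩, ⟨c, hC ▸ hc⟩, h⟩
  choose k₀ c₀ h₀ using hex
  let e : G × C → G × C := fun p => (⟨p.2, hCG p.2.2⟩ * k₀ p.1, p.2 * c₀ p.1 * p.2⁻¹)
  have he : ∀ p : G × C,
      ((e p).1 : Γ)⁻¹ * ((e p).2 : Γ) * s * ((e p).1 : Γ) = (p.1 : Γ) * s := by
    rintro ⟨g, z⟩
    show ((z : Γ) * (k₀ g : Γ))⁻¹ * ((z : Γ) * (c₀ g : Γ) * (z : Γ)⁻¹) * s
      * ((z : Γ) * (k₀ g : Γ)) = (g : Γ) * s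
    have h1 : (z : Γ)⁻¹ * s * (z : Γ) = s := by
      have := hCS z z.2 s hsS
      rw [mul_assoc, this, inv_mul_cancel_left]
    have h2 := h₀ g
    calc ((z : Γ) * (k₀ g : Γ))⁻¹ * ((z : Γ) * (c₀ g : Γ) * (z : Γ)⁻¹) * s
          * ((z : Γ) * (k₀ g : Γ))
        = (k₀ g : Γ)⁻¹ * (c₀ g : Γ) * ((z : Γ)⁻¹ * s * (z : Γ)) * (k₀ g : Γ) := by group
      _ = (k₀ g : Γ)⁻¹ * ((c₀ g : Γ) * s) * (k₀ g : Γ) := by rw [h1]; group
      _ = (g : Γ) * s := by rw [← h2]; group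
  have hinj : Function.Injective e := by
    rintro ⟨g, z⟩ ⟨g', z'⟩ h
    have h1 := he (g, z)
    have h2 := he (g', z')
    rw [h] at h1
    have h3 : (g : Γ) = g' := by
      have : (g : Γ) * s = (g' : Γ) * s := h1.symm.trans h2
      exact mul_right_cancel this
    have hg : g = g' := Subtype.ext h3
    subst hg
    have h4 : (e (g, z)).1 = (e (g, z')).1 := by rw [h]
    have h5 : (⟨z, hCG z.2⟩ : G) * k₀ g = ⟨z', hCG z'.2⟩ * k₀ g := h4
    have h6 := mul_right_cancel h5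
    have h7 : (z : Γ) = z' := congrArg (fun t : G => (t : Γ)) h6
    rw [Subtype.ext h7]
  have hbij : Function.Bijective e := Finite.injective_iff_bijective.mp hinj
  have hsum1 : ∑ p : G × C, F ((p.1 : Γ)⁻¹ * (p.2 : Γ) * s * (p.1 : Γ))
      = (Nat.card G : ℂ) * ∑ c : C, F ((c : Γ) * s) := by
    rw [Fintype.sum_prod_type]
    have : ∀ (k : G), ∑ c : C, F ((k : Γ)⁻¹ * (c : Γ) * s * (k : Γ))
        = ∑ c : C, F ((c : Γ) * s) := by
      intro k
      apply Finset.sum_congr rfl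
      intro c _
      have := hF ((c : Γ) * s) (k : Γ)⁻¹
      rw [← this]; congr 1; group
    rw [Finset.sum_congr rfl (fun k _ => this k), Finset.sum_const, Finset.card_univ,
      nsmul_eq_mul, Nat.card_eq_fintype_card]
  have hsum2 : ∑ p : G × C, F ((p.1 : Γ)⁻¹ * (p.2 : Γ) * s * (p.1 : Γ))
      = (Nat.card C : ℂ) * ∑ g : G, F ((g : Γ) * s) := by
    rw [← Fintype.sum_bijective e hbij (fun p => F ((p.1 : Γ) * s)) _ (fun p => by rw [he p])]
    rw [Fintype.sum_prod_type]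
    simp only [Finset.sum_const, Finset.card_univ, nsmul_eq_mul]
    rw [← Finset.mul_sum, Nat.card_eq_fintype_card]
  rw [← hsum2, hsum1]

end Cfsg.Agent.Lib.helper24
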