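import Cfsg.Agent.Lib.helper24.CycMain

set_option autoImplicit false

namespace Cfsg.Agent.Lib.helper24

open Cfsg
open scoped ComplexConjugate

universe u

/-- Isaacs 13.6: values of the canonical extension on `C s` for a cyclic coprime action. -/
theorem cyc_canonical_values {Γ : Type u} [Group Γ] [Fintype Γ] (G S : Subgroup Γ) [Fintype G] (hnorm : ∀ s ∈ S, ∀ g ∈ G, s * g * s⁻¹ ∈ G) (hcop : (Nat.card G).Coprime (Nat.card S)) (htop : G ⊔ S = ⊤) (hcyc : IsCyclic S) (C : Subgroup Γ) [Fintype C] (hC : C = G ⊓ Subgroup.centralizer (S : Set Γ)) (hCG : C ≤ G) : (∀ (χ : IrrCharacter G) (χh : IrrCharacter Γ), (∀ s ∈ S, ∀ g g' : G, (g' : Γ) = s * g * s⁻¹ → (χ : G → ℂ) g' = (χ : G → ℂ) g) → (∀ g : G, (χh : Γ → ℂ) g = (χ : G → ℂ) g) → (detOrder (χh : Γ → ℂ)).Coprime (Nat.card S) → (∃! βε : IrrCharacter C × ℤ, (βε.2 = 1 ∨ βε.2 = -1) ∧ ∀ c : C, ∀ s : Γ, Subgroup.zpowers s = S → (χh :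 Γ → ℂ) ((c : Γ) * s) = (βε.2 : ℂ) * (βε.1 : C → ℂ) c) ∧ ∀ β : IrrCharacter C, ∀ ε : ℤ, (ε = 1 ∨ ε = -1) → (∀ c : C, ∀ s : Γ, Subgroup.zpowers s = S → (χh : Γ → ℂ) ((c : Γ) * s) = (ε : ℂ) * (β : C → ℂ) c) → classInner (fun c : C => (χ : G → ℂ) ⟨c, hCG c.2⟩) (β : C → ℂ) ≠ 0) ∧ (∀ (χ χ' : IrrCharacter G) (χh χh' : IrrCharacter Γ), (∀ s ∈ S, ∀ g g' : G, (g' : Γ) = s * g * s⁻¹ → (χ : G → ℂ) g' = (χ : G → ℂ) g) → (∀ s ∈ S, ∀ g g' : G, (g' : Γ) = s * g * s⁻¹ → (χ' : G → ℂ) g' = (χ' : G → ℂ) g) → (∀ g : G, (χh : Γ → ℂ) g = (χ : G → ℂ) g) → (∀ g : G, (χh' : Γ → ℂ) g = (χ' : G → ℂ) g) → (detOrder (χh : Γ → ℂ)).Coprime (Nat.card S) → (detOrder (χh' : Γ → ℂ)).Coprime (Nat.card S) → ∀ β : IrrCharacter C, ∀ ε ε' : ℤ, (ε = 1 ∨ ε = -1) → (ε' = 1 ∨ ε' = -1) → (∀ c : C, ∀ s : Γ, Subgroup.zpowers s = S → (χh : Γ → ℂ) ((c : Γ) * s) = (ε : ℂ) * (β : C → ℂ) c) → (∀ c : C, ∀ s : Γ, Subgroup.zpowers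 s = S → (χh' : Γ → ℂ) ((c : Γ) * s) = (ε' : ℂ) * (β : C → ℂ) c) → χ = χ') ∧ (∀ β : IrrCharacter C, ∃ (χ : IrrCharacter G) (χh : IrrCharacter Γ) (ε : ℤ), (∀ s ∈ S, ∀ g g' : G, (g' : Γ) = s * g * s⁻¹ → (χ : G → ℂ) g' = (χ : G → ℂ) g) ∧ (∀ g : G, (χh : Γ → ℂ) g = (χ : G → ℂ) g) ∧ (detOrder (χh : Γ → ℂ)).Coprime (Nat.card S) ∧ (ε = 1 ∨ ε = -1) ∧ ∀ c : C, ∀ s : Γ, Subgroup.zpowers s = S → (χh : Γ → ℂ) ((c : Γ) * s) = (ε : ℂ) * (β : C → ℂ) c) := by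
  classical
  haveI hG : G.Normal := normal_of_sup_top G S hnorm htop
  obtain ⟨s₀, hs₀⟩ := hcyc.exists_generator
  have hs : Subgroup.zpowers (s₀ : Γ) = S :=
    (zpowers_coe_eq_iff S s₀).mp ((Subgroup.eq_top_iff' _).mpr hs₀)
  generalize (s₀ : Γ) = s at hs
  have hidx : G.index = Nat.card S := index_eq_card_of_sup_coprime G S hcop htop
  have hG0 : (Nat.card G : ℂ) ≠ 0 := by exact_mod_cast Nat.card_pos.ne'
  have hC0 : (Nat.card C : ℂ) ≠ 0 := by exact_mod_cast Nat.card_pos.ne'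
  have key : ∀ (χ : IrrCharacter G) (χh : IrrCharacter Γ), (∀ g : G, χh.1 g = χ.1 g) →
      (detOrder χh.1).Coprime (Nat.card S) →
      ∃ (β : IrrCharacter C) (ε : ℤ), (ε = 1 ∨ ε = -1) ∧
        (∀ c : C, ∀ s' : Γ, Subgroup.zpowers s' = S →
          χh.1 ((c : Γ) * s') = (ε : ℂ) * β.1 c) ∧
        classInner (fun c : C => χ.1 ⟨c, hCG c.2⟩) β.1 ≠ 0 := by
    intro χ χh hext hdet
    have hχ : IsIrrCharacter G (fun g : G => χh.1 g) := by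
      have : (fun g : G => χh.1 g) = χ.1 := funext hext
      rw [this]; exact χ.2
    obtain ⟨β, ε, hε, hval, hcons⟩ := canon_slice G S hcop htop C hC χh.1 χh.2 hχ hdet s hs
    refine ⟨β, ε, hε, ?_, ?_⟩
    · intro c s' hs'
      rw [← hval c]
      exact canon_gen_indep G S hcop htop χh.1 χh.2 hχ hdet s s' hs hs' c (hC ▸ c.2)
    · have : (fun c : C => χ.1 ⟨c, hCG c.2⟩) = (fun c : C => χh.1 c) := by
        funext c; exact (hext ⟨c, hCG c.2⟩).symm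
      rw [this]; exact hcons
  have uniq : ∀ (β β' : IrrCharacter C) (ε ε' : ℤ), (ε = 1 ∨ ε = -1) → (ε' = 1 ∨ ε' = -1) →
      (∀ c : C, (ε : ℂ) * β.1 c = (ε' : ℂ) * β'.1 c) → β = β' ∧ ε = ε' := by
    intro β β' ε ε' hε hε' h
    have h1 : (ε : ℂ) • β.1 = (ε' : ℂ) • β'.1 := funext h
    have h2 : (ε : ℂ) * classInner β.1 β'.1 = (ε' : ℂ) := by
      rw [← classInner_smul_left, h1, classInner_smul_left, irr_inner_self, mul_one]
    have hε'0 : (ε' : ℂ) ≠ 0 := by rcases hε' with h | h <;> simp [h]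
    have h3 : classInner β.1 β'.1 ≠ 0 := by
      intro h0; rw [h0, mul_zero] at h2; exact hε'0 h2.symm
    have hβ := irr_eq_of_inner_ne_zero h3
    subst hβ
    rw [irr_inner_self, mul_one] at h2
    exact ⟨rfl, by exact_mod_cast h2⟩
  have hinj : (∀ (χ χ' : IrrCharacter G) (χh χh' : IrrCharacter Γ), (∀ s ∈ S, ∀ g g' : G, (g' : Γ) = s * g * s⁻¹ → (χ : G → ℂ) g' = (χ : G → ℂ) g) → (∀ s ∈ S, ∀ g g' : G, (g' : Γ) = s * g * s⁻¹ → (χ' : G → ℂ) g' = (χ' : G → ℂ) g) → (∀ g : G, (χh : Γ → ℂ) g = (χ : G → ℂ) g) → (∀ g : G, (χh' : Γ → ℂ) g = (χ' : G → ℂ) g) → (detOrder (χh : Γ → ℂ)).Coprime (Nat.card S) → (detOrder (χh' : Γ → ℂ)).Coprime (Nat.card S) → ∀ β : IrrCharacter C, ∀ ε ε' : ℤ, (ε = 1 ∨ ε = -1) → (ε' = 1 ∨ ε' = -1) → (∀ c : C, ∀ s : Γ, Subgroup.zpowers s = S → (χh : Γ → ℂ) ((c : Γ) * s) = (ε : ℂ) * (β : C → ℂ) c) → (∀ c : C, ∀ s : Γ, Subgroup.zpowers s = S → (χh' : Γ → ℂ)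 ((c : Γ) * s) = (ε' : ℂ) * (β : C → ℂ) c) → χ = χ') := by
    intro χ χ' χh χh' hinv hinv' hext hext' hdet hdet' β ε ε' hε hε' hval hval'
    by_contra hne
    have e1 : (fun g : G => χh.1 g) = χ.1 := funext hext
    have e2 : (fun g : G => χh'.1 g) = χ'.1 := funext hext'
    have hχ : IsIrrCharacter G (fun g : G => χh.1 g) := by rw [e1]; exact χ.2
    have hχ' : IsIrrCharacter G (fun g : G => χh'.1 g) := by rw [e2]; exact χ'.2
    have hne' : (fun g : G => χh.1 g) ≠ (fun g : G => χh'.1 g) := by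
      intro h
      apply hne
      apply Subtype.ext
      rw [← e1, ← e2, h]
    have horth := canon_slice_orth G S hcop C hC χh.1 χh'.1 χh.2 χh'.2 hχ hχ' hne' s hs
    have h1 : ∑ c : C, χh'.1 ((c : Γ) * s) * conj (χh.1 ((c : Γ) * s))
        = (ε' : ℂ) * (ε : ℂ) * (Nat.card C : ℂ) := by
      have h2 := irr_inner_self β
      unfold classInner at h2
      have h3 : ∑ c : C, β.1 c * conj (β.1 c) = (Nat.card C : ℂ) :=
        ((inv_mul_eq_one₀ hC0).mp h2).symm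
      rw [← h3, Finset.mul_sum]
      apply Finset.sum_congr rfl
      intro c _
      rw [hval c s hs, hval' c s hs, map_mul, map_intCast]
      ring
    rw [horth] at h1
    have hε0 : (ε : ℂ) ≠ 0 := by rcases hε with h | h <;> simp [h]
    have hε'0 : (ε' : ℂ) ≠ 0 := by rcases hε' with h | h <;> simp [h]
    exact mul_ne_zero (mul_ne_zero hε'0 hε0) hC0 h1.symm
  refine ⟨?_, hinj, ?_⟩
  · intro χ χh hinv hext hdet
    obtain ⟨β, ε, hε, hval, hcons⟩ := key χ χh hext hdet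
    refine ⟨⟨(β, ε), ⟨hε, hval⟩, ?_⟩, ?_⟩
    · rintro ⟨β', ε'⟩ ⟨hε', hval'⟩
      have := uniq β' β ε' ε hε' hε (fun c => by rw [← hval' c s hs, ← hval c s hs])
      exact Prod.ext this.1 this.2
    · intro β' ε' hε' hval'
      have := uniq β' β ε' ε hε' hε (fun c => by rw [← hval' c s hs, ← hval c s hs])
      rw [this.1]; exact hcons
  · intro β
    have hdata : ∀ χ : {χ : IrrCharacter G // ∀ s ∈ S, ∀ g g' : G, (g' : Γ) = s * g * s⁻¹ →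
          χ.1 g' = χ.1 g},
        ∃ (χh : IrrCharacter Γ) (β : IrrCharacter C) (ε : ℤ), (∀ g : G, χh.1 g = χ.1.1 g) ∧
          (detOrder χh.1).Coprime (Nat.card S) ∧ (ε = 1 ∨ ε = -1) ∧
          ∀ c : C, ∀ s : Γ, Subgroup.zpowers s = S → χh.1 ((c : Γ) * s) = (ε : ℂ) * β.1 c := by
      rintro ⟨χ, hinv⟩
      have hcl := isCharacter_conj_class (isCharacter_of_isIrrCharacter χ.2)
      have hinvΓ : ∀ (γ : Γ) (n : G),
          χ.1 ⟨γ * n * γ⁻¹, hG.conj_mem (n : Γ) n.2 γ⟩ = χ.1 n := by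
        intro γ n
        have hγ : γ ∈ ((G ⊔ S : Subgroup Γ) : Set Γ) := by rw [htop]; trivial
        rw [Subgroup.normal_mul] at hγ
        obtain ⟨g₀, hg₀, x, hx, rfl⟩ := Set.mem_mul.mp hγ
        have h1 := hinv x hx n ⟨x * n * x⁻¹, hnorm x hx n n.2⟩ rfl
        have h2 := hcl ⟨x * n * x⁻¹, hnorm x hx n n.2⟩ ⟨g₀, hg₀⟩
        rw [← h1, ← h2]
        refine congrArg χ.1 (Subtype.ext ?_)
        show g₀ * x * n * (g₀ * x)⁻¹ = g₀ * (x * n * x⁻¹) * g₀⁻¹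
        group
      obtain ⟨d, hd, hddvd⟩ := irr_degree_dvd_card χ
      have hdo : detOrder χ.1 ∣ Nat.card G :=
        detOrder_dvd_card (isCharacter_of_isIrrCharacter χ.2)
      have hcop' : Nat.Coprime G.index (detOrder χ.1 * d) := by
        rw [hidx]
        exact Nat.Coprime.mul_right (Nat.Coprime.coprime_dvd_left hdo hcop).symm
          (Nat.Coprime.coprime_dvd_left hddvd hcop).symm
      obtain ⟨χh, ⟨hχh, hres, hdo'⟩, -⟩ := ext_coprime_unique G χ.1 χ.2 hinvΓ d hd hcop'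
      have hdet : (detOrder χh).Coprime (Nat.card S) := by
        rw [hdo']; exact Nat.Coprime.coprime_dvd_left hdo hcop
      obtain ⟨β, ε, hε, hval, -⟩ := key χ ⟨χh, hχh⟩ hres hdet
      exact ⟨⟨χh, hχh⟩, β, ε, hres, hdet, hε, hval⟩
    choose χhf βf εf h1 h2 h3 h4 using hdata
    have hβinj : Function.Injective βf := by
      intro χ χ' h
      apply Subtype.ext
      exact hinj χ.1 χ'.1 (χhf χ) (χhf χ') χ.2 χ'.2 (h1 χ) (h1 χ') (h2 χ) (h2 χ') (βf χ)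
        (εf χ) (εf χ') (h3 χ) (h3 χ') (h4 χ) (by rw [h]; exact h4 χ')
    have hcard : Nat.card (IrrCharacter C) ≤ Nat.card {χ : IrrCharacter G //
        ∀ s ∈ S, ∀ g g' : G, (g' : Γ) = s * g * s⁻¹ → χ.1 g' = χ.1 g} := by
      have e1 : Nat.card {χ : IrrCharacter G //
          ∀ s ∈ S, ∀ g g' : G, (g' : Γ) = s * g * s⁻¹ → χ.1 g' = χ.1 g}
          = Nat.card {χ : IrrCharacter G // IsInvFun (conjAct G S hnorm) χ.1} :=
        Nat.card_congr (Equiv.subtypeEquivRight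
          (fun χ => (isInvFun_conjAct_iff G S hnorm χ.1).symm))
      have hsolvS : Group.IsSolvable S := by
        apply Group.isSolvable_of_comm
        rintro ⟨a, ha⟩ ⟨b, hb⟩
        exact Subtype.ext (comm_of_zpowers_eq hs a ha b hb)
      have e2 := count_fix hsolvS hcop (conjAct G S hnorm)
      have e3 : Nat.card (IrrCharacter C)
          = Nat.card (IrrCharacter (fixSub (conjAct G S hnorm))) :=
        Nat.card_congr (irrCongr (fixEquiv G S hnorm C hC hCG)).symm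
      rw [e1, e2, ← card_irr_eq_card_conjClasses, e3]
    have hsurj := (hβinj.bijective_of_nat_card_le hcard).2
    obtain ⟨χ, rfl⟩ := hsurj β
    exact ⟨χ.1, χhf χ, εf χ, χ.2, h1 χ, h2 χ, h3 χ, h4 χ⟩

end Cfsg.Agent.Lib.helper24
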