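import Cfsg.Agent.Lib.helper24.CycFinal
import Cfsg.Agent.Lib.helper24.CombVar

set_option autoImplicit false

namespace Cfsg.Agent.Lib.helper24

open Cfsg
open scoped ComplexConjugate

universe u

theorem exists_coprime_lift (t n j : ℕ) (ht : t ∣ n) (hn : 0 < n) (hj : j.Coprime t) :
    ∃ j' : ℕ, j'.Coprime n ∧ j' ≡ j [MOD t] := by
  haveI : NeZero n := ⟨hn.ne'⟩
  obtain ⟨u, hu⟩ := ZMod.unitsMap_surjective ht (ZMod.unitOfCoprime j hj)
  refine ⟨(u : ZMod n).val, ZMod.val_coe_unit_coprime u, ?_⟩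
  have h1 := congrArg (fun v : (ZMod t)ˣ => (v : ZMod t)) hu
  simp only [ZMod.unitsMap_def, Units.coe_map, ZMod.coe_unitOfCoprime] at h1
  rw [← ZMod.natCast_eq_natCast_iff, ← h1]
  conv_rhs => rw [← ZMod.natCast_zmod_val (u : ZMod n)]
  simp

/-- Generator independence inside any cyclic subgroup `⟨x⟩ ≤ S`. -/
theorem canon_gen_indep_sub {Γ : Type u} [Group Γ] [Finite Γ] (G S : Subgroup Γ) [hG : G.Normal]
    (hcop : (Nat.card G).Coprime (Nat.card S)) (htop : G ⊔ S = ⊤)
    (hcomm : ∀ a ∈ S, ∀ b ∈ S, a * b = b * a)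
    (χh : Γ → ℂ) (hχh : IsIrrCharacter Γ χh) (hχ : IsIrrCharacter G (fun g : G => χh g))
    (hdet : (detOrder χh).Coprime (Nat.card S)) (x x' : Γ) (hx : x ∈ S)
    (hxx' : Subgroup.zpowers x' = Subgroup.zpowers x)
    (c : Γ) (hc : c ∈ G ⊓ Subgroup.centralizer (S : Set Γ)) : χh (c * x') = χh (c * x) := by
  have hx'mem : x' ∈ Subgroup.zpowers x := by rw [← hxx']; exact Subgroup.mem_zpowers x'
  rw [← mem_powers_iff_mem_zpowers] at hx'mem
  obtain ⟨j, rfl⟩ := (Submonoid.mem_powers_iff _ _).mp hx'mem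
  have hj : j.Coprime (orderOf x) := by
    have h1 := orderOf_pow (n := j) x
    have h2 : orderOf (x ^ j) = orderOf x := by
      rw [← Nat.card_zpowers, ← Nat.card_zpowers, hxx']
    rw [h2] at h1
    have hpos : 0 < orderOf x := orderOf_pos x
    rcases Nat.div_eq_self.mp h1.symm with h | h
    · omega
    · rw [Nat.coprime_comm]; exact h
  have hdvd : orderOf x ∣ Nat.card S := Subgroup.orderOf_dvd_natCard S hx
  obtain ⟨j', hj', hjj'⟩ := exists_coprime_lift (orderOf x) (Nat.card S) j hdvd Nat.card_pos hj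
  obtain ⟨k, hk1, hkj⟩ := Nat.chineseRemainder hcop 1 j'
  have hk : k.Coprime (Nat.card S) := by
    have : Nat.gcd k (Nat.card S) = Nat.gcd j' (Nat.card S) := Nat.ModEq.gcd_eq hkj
    rw [Nat.Coprime, this]; exact hj'
  have hcs : Commute c x := (Subgroup.mem_centralizer_iff.mp hc.2 x hx).symm
  have hpow : (c * x) ^ k = c * x ^ j := by
    rw [hcs.mul_pow, pow_eq_of_modEq_card hc.1 hk1, pow_one, pow_eq_of_modEq_card hx hkj]
    congr 1
    exact pow_eq_pow_iff_modEq.mpr hjj'
  rw [← hpow]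
  exact canon_pow_inv G S hcop htop hcomm χh hχh hχ hdet k hk1 hk (c * x)

/-- A character of a finite abelian group whose values off the identity are integers of absolute
value at most one is a multiple of the regular character, possibly plus or minus a linear
character. -/
theorem char_small_off_identity {S : Type u} [Group S] [Fintype S]
    (hcomm : ∀ a b : S, a * b = b * a) {f : S → ℂ} (hf : IsCharacter S f)
    (hsmall : ∀ x : S, x ≠ 1 → ∃ z : ℤ, f x = z ∧ z ^ 2 ≤ 1) :
    ∃ a : ℕ, (f 1 = (a : ℂ) * (Nat.card S : ℂ) ∧ ∀ x : S, x ≠ 1 → f x = 0) ∨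
      (∃ (ε : ℤ) (lam : S →* ℂˣ), (ε = 1 ∨ ε = -1) ∧
        f 1 = (a : ℂ) * (Nat.card S : ℂ) + ε ∧ ∀ x : S, x ≠ 1 → f x = ε * (lam x : ℂ)) := by
  classical
  haveI : IsMulCommutative S := ⟨⟨hcomm⟩⟩
  have := Fintype.ofFinite (IrrCharacter S)
  have hcomm0 : ∀ k ∈ commutator S, k = 1 := by
    have : commutator S ≤ ⊥ := by
      rw [commutator_def, Subgroup.commutator_le]
      intro a _ b _
      rw [Subgroup.mem_bot, commutatorElement_def, hcomm a b]
      group
    intro k hk
    exact Subgroup.mem_bot.mp (this hk)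
  have hlin : ∀ lam : IrrCharacter S, lam.1 1 = 1 := by
    intro lam
    exact irr_linear_of_commutator_le_ker lam.2 (fun k hk => by rw [hcomm0 k hk])
  have hcardI : Fintype.card (IrrCharacter S) = Nat.card S := by
    rw [← Nat.card_eq_fintype_card, card_irr_eq_card_conjClasses]
    symm
    apply Nat.card_congr
    refine Equiv.ofBijective ConjClasses.mk ⟨?_, ConjClasses.mk_surjective⟩
    intro a b hab
    obtain ⟨c, hc⟩ := isConj_iff.mp (ConjClasses.mk_eq_mk_iff_isConj.mp hab)
    rw [← hc, hcomm c a, mul_inv_cancel_right]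
  choose m hm using (fun lam : IrrCharacter S => isCharacter_inner_irr_nat hf lam)
  have hcl := isCharacter_conj_class hf
  have hexp : ∀ x, f x = ∑ lam : IrrCharacter S, (m lam : ℂ) * lam.1 x := by
    intro x
    rw [classFunction_expansion_apply hcl x]
    apply Finset.sum_congr rfl
    intro lam _
    rw [hm lam]
  have hsum1 : f 1 = ((∑ lam : IrrCharacter S, m lam : ℕ) : ℂ) := by
    rw [hexp 1]
    push_cast
    apply Finset.sum_congr rfl
    intro lam _
    rw [hlin lam, mul_one]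
  have hreg : ∀ x : S, ∑ lam : IrrCharacter S, lam.1 x
      = if x = 1 then (Nat.card S : ℂ) else 0 := by
    intro x
    have := second_orth_comm x (1 : S)
    simp only [hlin, map_one, mul_one] at this
    exact this
  by_cases hn1 : Nat.card S = 1
  · refine ⟨∑ lam : IrrCharacter S, m lam, Or.inl ⟨?_, ?_⟩⟩
    · rw [hsum1, hn1]; simp
    · intro x hx
      have : Subsingleton S := (Nat.card_eq_one_iff_unique.mp hn1).1
      exact absurd (Subsingleton.elim x 1) hx
  have hn2 : 2 ≤ Nat.card S := by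
    have : 0 < Nat.card S := Nat.card_pos
    omega
  let zz : S → ℤ := fun x => if h : x = 1 then 0 else Classical.choose (hsmall x h)
  have hzz : ∀ x : S, x ≠ 1 → f x = (zz x : ℂ) ∧ zz x ^ 2 ≤ 1 := by
    intro x hx
    have := Classical.choose_spec (hsmall x hx)
    simp only [zz, dif_neg hx]
    exact this
  have hpars : classInner f f = ∑ lam : IrrCharacter S, ((m lam : ℂ)) ^ 2 := by
    have hexp' := classFunction_expansion hcl
    conv_lhs => rhs; rw [hexp']
    rw [classInner_sum_right]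
    apply Finset.sum_congr rfl
    intro lam _
    rw [classInner_smul_right, hm lam, Complex.conj_natCast]
    ring
  have hS0 : (Nat.card S : ℂ) ≠ 0 := by exact_mod_cast Nat.card_pos.ne'
  have hnormC : (Nat.card S : ℂ) * ∑ lam : IrrCharacter S, ((m lam : ℂ)) ^ 2
      = (((∑ lam : IrrCharacter S, m lam : ℕ) : ℂ)) ^ 2
        + ((∑ x ∈ Finset.univ.erase (1 : S), zz x ^ 2 : ℤ) : ℂ) := by
    rw [← hpars]
    unfold classInner
    rw [mul_inv_cancel_left₀ hS0, ← Finset.add_sum_erase _ _ (Finset.mem_univ (1 : S)), hsum1,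
      Complex.conj_natCast]
    congr 1
    · ring
    · push_cast
      apply Finset.sum_congr rfl
      intro x hx
      rw [(hzz x (Finset.ne_of_mem_erase hx)).1, map_intCast]
      ring
  have hZ : ∑ x ∈ Finset.univ.erase (1 : S), zz x ^ 2 ≤ (Nat.card S : ℤ) - 1 := by
    have h1 : ∑ x ∈ Finset.univ.erase (1 : S), zz x ^ 2
        ≤ ∑ x ∈ Finset.univ.erase (1 : S), (1 : ℤ) :=
      Finset.sum_le_sum (fun x hx => (hzz x (Finset.ne_of_mem_erase hx)).2)
    rw [Finset.sum_const, Finset.card_erase_of_mem (Finset.mem_univ _), Finset.card_univ,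
      ← Nat.card_eq_fintype_card] at h1
    have h2 : ((Nat.card S - 1 : ℕ) : ℤ) = (Nat.card S : ℤ) - 1 := by
      rw [Nat.cast_sub (by omega)]; simp
    simp only [nsmul_eq_mul, mul_one, h2] at h1
    exact h1
  have hnormZ : (Nat.card S : ℤ) * ∑ lam : IrrCharacter S, ((m lam : ℤ)) ^ 2
      = (∑ lam : IrrCharacter S, (m lam : ℤ)) ^ 2
        + ∑ x ∈ Finset.univ.erase (1 : S), zz x ^ 2 := by
    have : (((Nat.card S : ℤ) * ∑ lam : IrrCharacter S, ((m lam : ℤ)) ^ 2 : ℤ) : ℂ)
        = (((∑ lam : IrrCharacter S, (m lam : ℤ)) ^ 2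
          + ∑ x ∈ Finset.univ.erase (1 : S), zz x ^ 2 : ℤ) : ℂ) := by
      push_cast
      push_cast at hnormC
      exact hnormC
    exact_mod_cast this
  have hcomb := comb_variance (fun lam : IrrCharacter S => (m lam : ℤ)) (by
    rw [hcardI, hnormZ]; omega)
  obtain ⟨b, hb | ⟨lam₀, hlam₀, hrest⟩⟩ := hcomb
  · have hne : Nonempty (IrrCharacter S) := by
      rw [← Fintype.card_pos_iff, hcardI]; omega
    obtain ⟨lam₁⟩ := hne
    have hb0 : 0 ≤ b := by rw [← hb lam₁]; positivity
    refine ⟨b.toNat, Or.inl ?_⟩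
    have hbC : ((b.toNat : ℕ) : ℂ) = (b : ℂ) := by
      have : ((b.toNat : ℕ) : ℤ) = b := Int.toNat_of_nonneg hb0
      exact_mod_cast this
    have hfx : ∀ x : S, f x = (b : ℂ) * ∑ lam : IrrCharacter S, lam.1 x := by
      intro x
      rw [hexp x, Finset.mul_sum]
      apply Finset.sum_congr rfl
      intro lam _
      have := hb lam
      have h' : (m lam : ℂ) = (b : ℂ) := by exact_mod_cast this
      rw [h']
    constructor
    · rw [hfx 1, hreg 1, if_pos rfl, hbC]
    · intro x hx
      rw [hfx x, hreg x, if_neg hx, mul_zero]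
  · have hcard2 : 1 < Fintype.card (IrrCharacter S) := by rw [hcardI]; omega
    obtain ⟨lam₁, hlam₁⟩ := Fintype.exists_ne_of_one_lt_card hcard2 lam₀
    have hb0 : 0 ≤ b := by rw [← hrest lam₁ hlam₁]; positivity
    have hbC : ((b.toNat : ℕ) : ℂ) = (b : ℂ) := by
      have : ((b.toNat : ℕ) : ℤ) = b := Int.toNat_of_nonneg hb0
      exact_mod_cast this
    obtain ⟨lamh, hlamh⟩ := exists_hom_of_linear (isCharacter_of_isIrrCharacter lam₀.2)
      (hlin lam₀)
    have hfx : ∀ x : S, f x = (b : ℂ) * (∑ lam : IrrCharacter S, lam.1 x)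
        + (((m lam₀ : ℤ) - b : ℤ) : ℂ) * lam₀.1 x := by
      intro x
      rw [hexp x, Finset.mul_sum, ← Finset.add_sum_erase _ _ (Finset.mem_univ lam₀),
        ← Finset.add_sum_erase (Finset.univ) (fun lam : IrrCharacter S => (b : ℂ) * lam.1 x)
          (Finset.mem_univ lam₀)]
      have hrest' : ∑ lam ∈ Finset.univ.erase lam₀, (m lam : ℂ) * lam.1 x
          = ∑ lam ∈ Finset.univ.erase lam₀, (b : ℂ) * lam.1 x := by
        apply Finset.sum_congr rfl
        intro lam hl
        have := hrest lam (Finset.ne_of_mem_erase hl)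
        have h' : (m lam : ℂ) = (b : ℂ) := by exact_mod_cast this
        rw [h']
      rw [hrest']
      push_cast
      ring
    refine ⟨b.toNat, Or.inr ⟨(m lam₀ : ℤ) - b, lamh, ?_, ?_, ?_⟩⟩
    · rcases hlam₀ with h | h
      · left; omega
      · right; omega
    · rw [hfx 1, hreg 1, if_pos rfl, hlin lam₀, mul_one, hbC]
    · intro x hx
      rw [hfx x, hreg x, if_neg hx, mul_zero, zero_add, hlamh x]

end Cfsg.Agent.Lib.helper24
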