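import Cfsg.Agent.Lib.helper24.CharExt815
import Cfsg.Agent.Lib.helper24.CharOdd
import Cfsg.Agent.Lib.helper23.GalConj

set_option autoImplicit false

namespace Cfsg.Agent.Lib.helper24

open Cfsg
open scoped ComplexConjugate

universe u

theorem pow_eq_of_modEq_card {Γ : Type u} [Group Γ] {H : Subgroup Γ} {x : Γ} (hx : x ∈ H)
    {a b : ℕ} (h : a ≡ b [MOD Nat.card H]) : x ^ a = x ^ b :=
  pow_eq_pow_iff_modEq.mpr (h.of_dvd (Subgroup.orderOf_dvd_natCard H hx))

theorem isComplement'_of_sup_coprime {Γ : Type u} [Group Γ] [Finite Γ] (G S : Subgroup Γ)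
    [hG : G.Normal] (hcop : (Nat.card G).Coprime (Nat.card S)) (htop : G ⊔ S = ⊤) :
    Subgroup.IsComplement' G S := by
  apply Subgroup.isComplement'_of_disjoint_and_mul_eq_univ
  · exact Subgroup.disjoint_of_coprime_natCard hcop
  · rw [← Subgroup.normal_mul, htop]
    rfl

theorem index_eq_card_of_sup_coprime {Γ : Type u} [Group Γ] [Finite Γ] (G S : Subgroup Γ)
    [hG : G.Normal] (hcop : (Nat.card G).Coprime (Nat.card S)) (htop : G ⊔ S = ⊤) :
    G.index = Nat.card S :=
  (isComplement'_of_sup_coprime G S hcop htop).symm.index_eq_card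

theorem detOrder_dvd_card {Γ : Type u} [Group Γ] [Finite Γ] {χ : Γ → ℂ} (hχ : IsCharacter Γ χ) :
    detOrder χ ∣ Nat.card Γ := by
  obtain ⟨f, hf⟩ := exists_detHom hχ
  have h1 : detChar χ = fun g => (f g : ℂ) := funext hf
  unfold detOrder
  rw [h1, orderOf_homToFun]
  exact orderOf_dvd_of_pow_eq_one (hom_pow_card_eq_one f)

theorem detChar_trivial_on {Γ : Type u} [Group Γ] [Finite Γ] (S : Subgroup Γ) {χ : Γ → ℂ}
    (hχ : IsCharacter Γ χ) (hdet : (detOrder χ).Coprime (Nat.card S)) (f : Γ →* ℂˣ)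
    (hf : ∀ g, detChar χ g = (f g : ℂ)) (x : Γ) (hx : x ∈ S) : f x = 1 := by
  have h1 : detChar χ = fun g => (f g : ℂ) := funext hf
  have h2 : detOrder χ = orderOf f := by
    unfold detOrder
    rw [h1, orderOf_homToFun]
  have h3 : f x ^ orderOf f = 1 := by
    have h4 : (f ^ orderOf f) x = (1 : Γ →* ℂˣ) x := by rw [pow_orderOf_eq_one]
    rwa [MonoidHom.pow_apply, MonoidHom.one_apply] at h4
  have h5 : f x ^ Nat.card S = 1 := by
    rw [← map_pow]
    have : x ^ Nat.card S = 1 := by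
      have h6 : (⟨x, hx⟩ : S) ^ Nat.card S = 1 := pow_card_eq_one'
      have h7 : (((⟨x, hx⟩ : S) ^ Nat.card S : S) : Γ) = ((1 : S) : Γ) := by rw [h6]
      exact h7
    rw [this, map_one]
  have h8 : orderOf (f x) ∣ Nat.gcd (orderOf f) (Nat.card S) :=
    Nat.dvd_gcd (orderOf_dvd_of_pow_eq_one h3) (orderOf_dvd_of_pow_eq_one h5)
  rw [← h2, hdet.gcd_eq_one] at h8
  exact orderOf_eq_one_iff.mp (Nat.dvd_one.mp h8)

/-- The canonical extension is invariant under power maps `x ↦ x ^ k` with `k ≡ 1` modulo `|G|`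
and `k` coprime to `|S|`. -/
theorem canon_pow_inv {Γ : Type u} [Group Γ] [Finite Γ] (G S : Subgroup Γ) [hG : G.Normal]
    (hcop : (Nat.card G).Coprime (Nat.card S)) (htop : G ⊔ S = ⊤)
    (hcomm : ∀ a ∈ S, ∀ b ∈ S, a * b = b * a)
    (χh : Γ → ℂ) (hχh : IsIrrCharacter Γ χh) (hχ : IsIrrCharacter G (fun g : G => χh g))
    (hdet : (detOrder χh).Coprime (Nat.card S)) (k : ℕ) (hk1 : k ≡ 1 [MOD Nat.card G])
    (hk : k.Coprime (Nat.card S)) (x : Γ) : χh (x ^ k) = χh x := by
  classical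
  have hχhc := isCharacter_of_isIrrCharacter hχh
  have hcompl := isComplement'_of_sup_coprime G S hcop htop
  have hcard : Nat.card Γ = Nat.card G * Nat.card S := hcompl.card_mul_card.symm
  have hidx : G.index = Nat.card S := index_eq_card_of_sup_coprime G S hcop htop
  have hkΓ : k.Coprime (Nat.card Γ) := by
    rw [hcard]
    apply Nat.Coprime.mul_right _ hk
    have : Nat.gcd k (Nat.card G) = Nat.gcd 1 (Nat.card G) := Nat.ModEq.gcd_eq hk1
    simpa [Nat.Coprime] using this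
  set Ψ : Γ → ℂ := fun y => χh (y ^ k) with hΨ
  have hΨirr : IsIrrCharacter Γ Ψ :=
    Cfsg.Agent.Lib.helper23.isIrrCharacter_pow_coprime hχh k hkΓ
  have hΨc := isCharacter_of_isIrrCharacter hΨirr
  have hΨG : ∀ n : G, Ψ n = χh n := by
    intro n
    show χh ((n : Γ) ^ k) = χh n
    rw [pow_eq_of_modEq_card n.2 hk1, pow_one]
  obtain ⟨d, hd, hddvd⟩ := irr_degree_dvd_card ⟨_, hχ⟩
  have hcopd : Nat.Coprime G.index d := by
    rw [hidx]; exact (Nat.Coprime.coprime_dvd_left hddvd hcop).symm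
  obtain ⟨μ₁, hμ₁⟩ := exists_detHom hχhc
  obtain ⟨μ₂, hμ₂⟩ := exists_detHom hΨc
  have hμS : ∀ x ∈ S, μ₁ x = 1 := detChar_trivial_on S hχhc hdet μ₁ hμ₁
  have hμeq : μ₂ = μ₁ := by
    have hle : G ⊔ S ≤ MonoidHom.eqLocus μ₂ μ₁ := by
      apply sup_le
      · intro n hn
        show μ₂ n = μ₁ n
        apply Units.ext
        rw [← hμ₂, ← hμ₁]
        have h1 := detChar_restrict G hΨc ⟨n, hn⟩
        have h2 := detChar_restrict G hχhc ⟨n, hn⟩
        have h3 : (fun m : G => Ψ m) = (fun m : G => χh m) := funext hΨG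
        rw [h3] at h1
        exact h1.symm.trans h2
      · intro y hy
        show μ₂ y = μ₁ y
        rw [hμS y hy]
        apply Units.ext
        rw [← hμ₂]
        let pk : S →* S :=
          { toFun := fun a => a ^ k
            map_one' := one_pow k
            map_mul' := fun a b =>
              (show Commute a b from Subtype.ext (hcomm a a.2 b b.2)).mul_pow k }
        have h1 := detChar_restrict S hΨc ⟨y, hy⟩
        have h2 : (fun n : S => Ψ n) = (fun n : S => χh n) ∘ pk := by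
          funext n; rfl
        have h3 := detChar_comp_hom pk
          (Cfsg.Agent.Lib.helper24.isCharacter_restrict S hχhc) ⟨y, hy⟩
        have h4 := detChar_restrict S hχhc (pk ⟨y, hy⟩)
        rw [← h1, h2, h3, h4, hμ₁, hμS _ (pk ⟨y, hy⟩).2]
    rw [htop] at hle
    exact MonoidHom.ext fun y => hle (Subgroup.mem_top y)
  have hμ := detChar_linear hχhc
  have hμN : ∀ n : G, detChar χh n = detChar (fun g : G => χh g) n :=
    fun n => (detChar_restrict G hχhc n).symm
  obtain ⟨χ₀, -, huniq⟩ := det_ext_unique G (fun g : G => χh g) hχ d hd hcopd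
    ⟨χh, hχh, fun n => rfl⟩ (detChar χh) hμ hμN
  have e1 : χh = χ₀ := huniq χh ⟨hχh, fun n => rfl, rfl⟩
  have e2 : Ψ = χ₀ := huniq Ψ ⟨hΨirr, hΨG, by funext y; rw [hμ₂, hμ₁, hμeq]⟩
  have : Ψ x = χh x := by rw [e2, ← e1]
  exact this

end Cfsg.Agent.Lib.helper24
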