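import Cfsg.Agent.Lib.helper24.CharArtin
import Cfsg.Agent.Lib.helper24.CharProd
import Cfsg.Agent.Lib.helper24.CharExt815
import Cfsg.Agent.Lib.helper23.CharInt
import Cfsg.Agent.Lib.helper23.CharMod

set_option autoImplicit false

namespace Cfsg.Agent.Lib.helper24

open Cfsg
open scoped ComplexConjugate
open Cfsg.Agent.Lib.helper23

universe u

/-- For a character `Ψ` of `C × S` and `β ∈ Irr(C)`, the multiplicity function
`x ↦ [Ψ(·,x), β]` is a character of `S`. -/
theorem slice_isCharacter {C S : Type u} [Group C] [Group S] [Fintype C] [Fintype S]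
    {Ψ : C × S → ℂ} (hΨ : IsCharacter (C × S) Ψ) (β : IrrCharacter C) :
    IsCharacter S (fun x => classInner (fun c => Ψ (c, x)) β.1) := by
  classical
  have := Fintype.ofFinite (IrrCharacter S)
  set f : S → ℂ := fun x => classInner (fun c => Ψ (c, x)) β.1 with hf
  have hΨc := isCharacter_conj_class hΨ
  have hcl : IsClassFunction S f := by
    intro x y
    show classInner (fun c => Ψ (c, y * x * y⁻¹)) β.1 = classInner (fun c => Ψ (c, x)) β.1
    congr 1
    funext c
    have := hΨc (c, x) (1, y)
    simpa using this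
  have hexp := classFunction_expansion hcl
  have hcoef : ∀ lam : IrrCharacter S, ∃ n : ℕ, classInner f lam.1 = n := by
    intro lam
    obtain ⟨n, hn⟩ := isCharacter_inner_irr_nat hΨ ⟨_, isIrrCharacter_prod β.2 lam.2⟩
    refine ⟨n, ?_⟩
    rw [← hn]
    simp only [hf, classInner]
    rw [Nat.card_prod, Fintype.sum_prod_type_right]
    rw [Finset.mul_sum, Finset.mul_sum]
    apply Finset.sum_congr rfl
    intro x _
    simp only [Finset.mul_sum, Finset.sum_mul]
    apply Finset.sum_congr rfl
    intro c _
    rw [map_mul]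
    push_cast
    ring
  choose n hn using hcoef
  have h2 : f = ∑ lam : IrrCharacter S, n lam • lam.1 := by
    conv_lhs => rw [hexp]
    apply Finset.sum_congr rfl
    intro lam _
    rw [hn lam, Nat.cast_smul_eq_nsmul]
  rw [h2]
  apply isCharacter_finset_sum
  intro lam _
  exact isCharacter_nsmul (n lam) (isCharacter_of_isIrrCharacter lam.2)

/-- If `Ψ(c, ·)` is constant on the generators of `S`, then the slice at a generator has
integer multiplicities. -/
theorem slice_int {C S : Type u} [Group C] [Group S] [Fintype C] [Fintype S]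
    {Ψ : C × S → ℂ} (hΨ : IsCharacter (C × S) Ψ) (s : S) (hs : Subgroup.zpowers s = ⊤)
    (hgen : ∀ s' : S, Subgroup.zpowers s' = ⊤ → ∀ c, Ψ (c, s') = Ψ (c, s)) (β : IrrCharacter C) :
    ∃ z : ℤ, classInner (fun c => Ψ (c, s)) β.1 = z := by
  classical
  have hf := slice_isCharacter hΨ β
  set f : S → ℂ := fun x => classInner (fun c => Ψ (c, x)) β.1 with hfdef
  obtain ⟨z, hz⟩ := sum_generators_int hf (Nat.card S) ⊤ (by simp)
  have hconst : ∀ a ∈ Finset.univ.filter (fun a : S => Subgroup.zpowers a = ⊤), f a = f s := by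
    intro a ha
    rw [Finset.mem_filter] at ha
    show classInner _ _ = classInner _ _
    congr 1
    funext c
    exact hgen a ha.2 c
  rw [Finset.sum_congr rfl hconst, Finset.sum_const, nsmul_eq_mul] at hz
  set N := (Finset.univ.filter (fun a : S => Subgroup.zpowers a = ⊤)).card with hNdef
  have hN : 0 < N := Finset.card_pos.mpr ⟨s, by simp [hs]⟩
  have hN' : (N : ℂ) ≠ 0 := by exact_mod_cast hN.ne'
  have hq : f s = (((z : ℚ) / (N : ℚ) : ℚ) : ℂ) := by
    push_cast
    rw [eq_div_iff hN', mul_comm]
    exact hz.symm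
  have hint : IsIntegral ℤ (f s) := isCharacter_isIntegral hf s
  rw [hq] at hint
  obtain ⟨z', hz'⟩ := rat_of_isIntegral_complex hint
  refine ⟨z', ?_⟩
  show f s = z'
  rw [hq, ← hz']
  push_cast
  rfl

/-- A class function with integer multiplicities and norm one is `±` an irreducible character. -/
theorem pm_irr_of_norm_one {C : Type u} [Group C] [Fintype C] {F : C → ℂ}
    (hcl : IsClassFunction C F) (hc : ∀ φ : IrrCharacter C, ∃ z : ℤ, classInner F φ.1 = z)
    (h1 : classInner F F = 1) :
    ∃ (β : IrrCharacter C) (ε : ℤ), (ε = 1 ∨ ε = -1) ∧ F = (ε : ℂ) • β.1 := by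
  classical
  have := Fintype.ofFinite (IrrCharacter C)
  choose c hc using hc
  have hexp := classFunction_expansion hcl
  have hnorm : ∑ φ : IrrCharacter C, c φ ^ 2 = 1 := by
    have : classInner F F = ((∑ φ : IrrCharacter C, c φ ^ 2 : ℤ) : ℂ) := by
      conv_lhs => rhs; rw [hexp]
      rw [classInner_sum_right]
      push_cast
      apply Finset.sum_congr rfl
      intro φ _
      rw [classInner_smul_right, hc]
      simp
      ring
    rw [this] at h1
    exact_mod_cast h1
  have hex : ∃ a, c a ≠ 0 := by
    by_contra hne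
    push Not at hne
    rw [Finset.sum_eq_zero (fun i _ => by rw [hne i]; ring)] at hnorm
    exact zero_ne_one hnorm
  obtain ⟨a, ha⟩ := hex
  have hrest : ∀ i, i ≠ a → c i = 0 := by
    intro i hia
    by_contra h0
    have h2 : c a ^ 2 + c i ^ 2 ≤ ∑ φ, c φ ^ 2 := by
      have h5 : ∑ φ ∈ ({a, i} : Finset (IrrCharacter C)), c φ ^ 2 = c a ^ 2 + c i ^ 2 :=
        Finset.sum_pair hia.symm
      rw [← h5]
      apply Finset.sum_le_sum_of_subset_of_nonneg (Finset.subset_univ _)
      intro j _ _
      positivity
    have h3 : 0 < c a ^ 2 := by positivity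
    have h4 : 0 < c i ^ 2 := by positivity
    omega
  have hca : c a ^ 2 = 1 := by
    rw [← hnorm]
    symm
    apply Finset.sum_eq_single a
    · intro b _ hb
      rw [hrest b hb]
      ring
    · intro h
      exact absurd (Finset.mem_univ a) h
  have hτ : F = (c a : ℂ) • a.1 := by
    conv_lhs => rw [hexp]
    rw [Finset.sum_eq_single a]
    · rw [hc]
    · intro b _ hb
      rw [hc, hrest b hb]
      simp
    · intro h
      exact absurd (Finset.mem_univ a) h
  have hca' : c a = 1 ∨ c a = -1 := by
    have : (c a - 1) * (c a + 1) = 0 := by nlinarith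
    rcases mul_eq_zero.mp this with h | h
    · left; omega
    · right; omega
  exact ⟨a, c a, hca', hτ⟩

end Cfsg.Agent.Lib.helper24
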