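import Cfsg.Agent.Lib.helper24.GlaubExt
import Cfsg.Agent.Lib.helper24.CycSlice
import Cfsg.Agent.Lib.helper24.CycConj
import Cfsg.Agent.Lib.helper24.CycPow

set_option autoImplicit false

namespace Cfsg.Agent.Lib.helper24

open Cfsg
open scoped ComplexConjugate

universe u

theorem comm_of_zpowers_eq {Γ : Type u} [Group Γ] {S : Subgroup Γ} {s : Γ}
    (hs : Subgroup.zpowers s = S) : ∀ a ∈ S, ∀ b ∈ S, a * b = b * a := by
  intro a ha b hb
  rw [← hs] at ha hb
  obtain ⟨i, rfl⟩ := Subgroup.mem_zpowers_iff.mp ha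
  obtain ⟨j, rfl⟩ := Subgroup.mem_zpowers_iff.mp hb
  exact ((Commute.refl s).zpow_zpow i j).eq

theorem normal_of_sup_top {Γ : Type u} [Group Γ] (G S : Subgroup Γ)
    (hnorm : ∀ s ∈ S, ∀ g ∈ G, s * g * s⁻¹ ∈ G) (htop : G ⊔ S = ⊤) : G.Normal := by
  rw [← Subgroup.normalizer_eq_top_iff]
  rw [eq_top_iff, ← htop]
  exact sup_le Subgroup.le_normalizer (Cfsg.Agent.Lib.helper8.le_normalizer_of_conj_mem hnorm)

/-- Generator independence of the values of the canonical extension on `C s`. -/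
theorem canon_gen_indep {Γ : Type u} [Group Γ] [Finite Γ] (G S : Subgroup Γ) [hG : G.Normal]
    (hcop : (Nat.card G).Coprime (Nat.card S)) (htop : G ⊔ S = ⊤)
    (χh : Γ → ℂ) (hχh : IsIrrCharacter Γ χh) (hχ : IsIrrCharacter G (fun g : G => χh g))
    (hdet : (detOrder χh).Coprime (Nat.card S)) (s s' : Γ) (hs : Subgroup.zpowers s = S)
    (hs' : Subgroup.zpowers s' = S) (c : Γ) (hc : c ∈ G ⊓ Subgroup.centralizer (S : Set Γ)) :
    χh (c * s') = χh (c * s) := by
  have hsS : s ∈ S := hs ▸ Subgroup.mem_zpowers s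
  have hcomm := comm_of_zpowers_eq hs
  have hs'mem : s' ∈ Subgroup.zpowers s := by rw [hs, ← hs']; exact Subgroup.mem_zpowers s'
  rw [← mem_powers_iff_mem_zpowers] at hs'mem
  obtain ⟨j, rfl⟩ := (Submonoid.mem_powers_iff _ _).mp hs'mem
  have hn : Nat.card S = orderOf s := by rw [← hs]; exact Nat.card_zpowers s
  have hn' : Nat.card S = orderOf (s ^ j) := by rw [← hs']; exact Nat.card_zpowers _
  have hj : j.Coprime (Nat.card S) := by
    have h1 := orderOf_pow (n := j) s
    rw [← hn', ← hn] at h1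
    have hpos : 0 < Nat.card S := Nat.card_pos
    rcases Nat.div_eq_self.mp h1.symm with h | h
    · omega
    · rw [Nat.coprime_comm]; exact h
  obtain ⟨k, hk1, hkj⟩ := Nat.chineseRemainder hcop 1 j
  have hk : k.Coprime (Nat.card S) := by
    have : Nat.gcd k (Nat.card S) = Nat.gcd j (Nat.card S) := Nat.ModEq.gcd_eq hkj
    rw [Nat.Coprime, this]; exact hj
  have hcG : c ∈ G := hc.1
  have hcs : Commute c s := (Subgroup.mem_centralizer_iff.mp hc.2 s hsS).symm
  have hpow : (c * s) ^ k = c * s ^ j := by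
    rw [hcs.mul_pow, pow_eq_of_modEq_card hcG hk1, pow_one, pow_eq_of_modEq_card hsS hkj]
  rw [← hpow]
  exact canon_pow_inv G S hcop htop hcomm χh hχh hχ hdet k hk1 hk (c * s)

/-- Isaacs 13.6, existence part for a fixed generator. -/
theorem canon_slice {Γ : Type u} [Group Γ] [Fintype Γ] (G S : Subgroup Γ) [hG : G.Normal]
    (hcop : (Nat.card G).Coprime (Nat.card S)) (htop : G ⊔ S = ⊤)
    (C : Subgroup Γ) (hC : C = G ⊓ Subgroup.centralizer (S : Set Γ)) [Fintype G] [Fintype C]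
    (χh : Γ → ℂ) (hχh : IsIrrCharacter Γ χh) (hχ : IsIrrCharacter G (fun g : G => χh g))
    (hdet : (detOrder χh).Coprime (Nat.card S)) (s : Γ) (hs : Subgroup.zpowers s = S) :
    ∃ (β : IrrCharacter C) (ε : ℤ), (ε = 1 ∨ ε = -1) ∧
      (∀ c : C, χh ((c : Γ) * s) = (ε : ℂ) * β.1 c) ∧
      classInner (fun c : C => χh c) β.1 ≠ 0 := by
  classical
  have : Fintype S := Fintype.ofFinite S
  have hχhc := isCharacter_of_isIrrCharacter hχh
  have hsS : s ∈ S := hs ▸ Subgroup.mem_zpowers s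
  have hCS : ∀ (z : C) (a : S), Commute (C.subtype z) (S.subtype a) := by
    intro z a
    have hz : (z : Γ) ∈ G ⊓ Subgroup.centralizer (S : Set Γ) := hC ▸ z.2
    exact (Subgroup.mem_centralizer_iff.mp hz.2 a a.2).symm
  let P : C × S →* Γ := MonoidHom.noncommCoprod C.subtype S.subtype hCS
  have hP : ∀ (c : C) (x : S), P (c, x) = (c : Γ) * x := fun c x => rfl
  set Ψ : C × S → ℂ := χh ∘ P with hΨdef
  have hΨ : IsCharacter (C × S) Ψ := Cfsg.Agent.Lib.helper24.isCharacter_comp P hχhc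
  let s₀ : S := ⟨s, hsS⟩
  have hs₀ : Subgroup.zpowers s₀ = ⊤ := (zpowers_coe_eq_iff S s₀).mpr hs
  have hgen : ∀ s' : S, Subgroup.zpowers s' = ⊤ → ∀ c : C, Ψ (c, s') = Ψ (c, s₀) := by
    intro s' hs' c
    have hs'' : Subgroup.zpowers (s' : Γ) = S := (zpowers_coe_eq_iff S s').mp hs'
    show χh (P (c, s')) = χh (P (c, s₀))
    rw [hP, hP]
    exact canon_gen_indep G S hcop htop χh hχh hχ hdet s s' hs hs'' c (hC ▸ c.2)
  have hint := fun β => slice_int hΨ s₀ hs₀ hgen β
  set F : C → ℂ := fun c => Ψ (c, s₀) with hFdef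
  have hFval : ∀ c : C, F c = χh ((c : Γ) * s) := fun c => rfl
  have hΨc := isCharacter_conj_class hΨ
  have hcl : IsClassFunction C F := by
    intro g h
    have := hΨc (g, s₀) (h, 1)
    simpa using this
  have hG0 : (Nat.card G : ℂ) ≠ 0 := by exact_mod_cast Nat.card_pos.ne'
  have hC0 : (Nat.card C : ℂ) ≠ 0 := by exact_mod_cast Nat.card_pos.ne'
  have hnorm : classInner F F = 1 := by
    have hca := (coset_average_statement G χh hχh hχ χh hχh _ rfl).2.2 rfl
    have h1 : (Nat.card G : ℂ)⁻¹ * ∑ n : G, χh ((n : Γ) * s) * conj (χh ((n : Γ) * s)) = 1 :=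
      congrFun hca s
    have hF₀ : IsClassFunction Γ (fun x => χh x * conj (χh x)) := by
      intro g h
      show χh (h * g * h⁻¹) * conj (χh (h * g * h⁻¹)) = χh g * conj (χh g)
      rw [isCharacter_conj_class hχhc g h]
    have h2 := coset_sum_eq G S hcop s hs C hC (fun x => χh x * conj (χh x)) hF₀
    have h3 : ∑ n : G, χh ((n : Γ) * s) * conj (χh ((n : Γ) * s)) = (Nat.card G : ℂ) :=
      ((inv_mul_eq_one₀ hG0).mp h1).symm
    simp only [h3] at h2
    have h4 : ∑ c : C, χh ((c : Γ) * s) * conj (χh ((c : Γ) * s)) = (Nat.card C : ℂ) := by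
      apply mul_left_cancel₀ hG0
      rw [← h2, mul_comm]
    unfold classInner
    simp only [hFval]
    rw [h4, inv_mul_cancel₀ hC0]
  obtain ⟨β, ε, hε, hFeq⟩ := pm_irr_of_norm_one hcl hint hnorm
  refine ⟨β, ε, hε, fun c => ?_, ?_⟩
  · rw [← hFval, hFeq]; rfl
  · have hf := slice_isCharacter hΨ β
    intro h0
    have h1 : (fun x : S => classInner (fun c => Ψ (c, x)) β.1) 1 = 0 := by
      show classInner (fun c : C => Ψ (c, 1)) β.1 = 0
      have : (fun c : C => Ψ (c, 1)) = (fun c : C => χh c) := by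
        funext c
        show χh (P (c, 1)) = χh c
        rw [hP]; simp
      rw [this]; exact h0
    have h2 := isCharacter_eq_zero_of_one hf h1
    have h3 : classInner F β.1 = 0 := congrFun h2 s₀
    have h4 : classInner F β.1 = (ε : ℂ) := by
      rw [hFeq, classInner_smul_left, irr_inner_self, mul_one]
    have h5 : (ε : ℂ) = 0 := by rw [← h4]; exact h3
    rcases hε with h | h <;> simp [h] at h5

/-- Orthogonality of the slices for distinct characters. -/
theorem canon_slice_orth {Γ : Type u} [Group Γ] [Fintype Γ] (G S : Subgroup Γ) [hG : G.Normal]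
    (hcop : (Nat.card G).Coprime (Nat.card S))
    (C : Subgroup Γ) (hC : C = G ⊓ Subgroup.centralizer (S : Set Γ)) [Fintype G] [Fintype C]
    (χh χh' : Γ → ℂ) (hχh : IsIrrCharacter Γ χh) (hχh' : IsIrrCharacter Γ χh')
    (hχ : IsIrrCharacter G (fun g : G => χh g)) (hχ' : IsIrrCharacter G (fun g : G => χh' g))
    (hne : (fun g : G => χh g) ≠ (fun g : G => χh' g)) (s : Γ) (hs : Subgroup.zpowers s = S) :
    ∑ c : C, χh' ((c : Γ) * s) * conj (χh ((c : Γ) * s)) = 0 := by
  classical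
  have hχhc := isCharacter_of_isIrrCharacter hχh
  have hχhc' := isCharacter_of_isIrrCharacter hχh'
  have hG0 : (Nat.card G : ℂ) ≠ 0 := by exact_mod_cast Nat.card_pos.ne'
  have hC0 : (Nat.card C : ℂ) ≠ 0 := by exact_mod_cast Nat.card_pos.ne'
  have horth : classInner (fun n : G => χh' n) (fun n : G => χh n) = 0 := by
    have := irr_orthonormal (⟨_, hχ'⟩ : IrrCharacter G) ⟨_, hχ⟩
    rw [this, if_neg]
    intro h
    exact hne (congrArg Subtype.val h).symm
  have hca := (coset_average_statement G χh hχh hχ χh' hχh' _ rfl).2.1 horth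
  have h1 : (Nat.card G : ℂ)⁻¹ * ∑ n : G, χh' ((n : Γ) * s) * conj (χh ((n : Γ) * s)) = 0 :=
    congrFun hca s
  have hF₀ : IsClassFunction Γ (fun x => χh' x * conj (χh x)) := by
    intro g h
    show χh' (h * g * h⁻¹) * conj (χh (h * g * h⁻¹)) = χh' g * conj (χh g)
    rw [isCharacter_conj_class hχhc g h, isCharacter_conj_class hχhc' g h]
  have h2 := coset_sum_eq G S hcop s hs C hC (fun x => χh' x * conj (χh x)) hF₀
  have h3 : ∑ n : G, χh' ((n : Γ) * s) * conj (χh ((n : Γ) * s)) = 0 := by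
    rcases mul_eq_zero.mp h1 with h | h
    · exact absurd (inv_eq_zero.mp h) hG0
    · exact h
  simp only [h3, mul_zero] at h2
  rcases mul_eq_zero.mp h2.symm with h | h
  · exact absurd h hG0
  · exact h

end Cfsg.Agent.Lib.helper24
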