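import Cfsg.Agent.Lib.helper24.CharComplete
import Cfsg.Agent.Lib.helper24.CharLin
import Cfsg.Agent.Lib.helper24.CharOrth
import Cfsg.Agent.Lib.helper24.CharOps
import Cfsg.Agent.Lib.helper24.CharNormal
import Cfsg.Prelude.Def_OddOrderChar
import Cfsg.Prelude.Def_OddOrderLocal

set_option autoImplicit false

namespace Cfsg.Agent.Lib.helper24
open Cfsg
open scoped ComplexConjugate

universe u

section
variable {G : Type u} [Group G]

/-- the centralizer of an element of `W` outside `W₁ ∪ W₂` is `W` -/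
theorem snc_centralizer {W₁ W₂ : Subgroup G} (hW : IsSelfNormalizingCyclic W₁ W₂) (w : G)
    (hw : w ∈ W₁ ⊔ W₂) (hw₁ : w ∉ W₁) (hw₂ : w ∉ W₂) (t : G) :
    t * w * t⁻¹ = w ↔ t ∈ W₁ ⊔ W₂ := by
  have hN := hW.2.2.2.2.2 {w} (by
    intro x hx
    rw [Set.mem_singleton_iff] at hx
    subst hx
    exact ⟨hw, fun h => h.elim hw₁ hw₂⟩) ⟨w, rfl⟩
  rw [← hN, Subgroup.mem_set_normalizer_iff]
  constructor
  · intro h n
    simp only [Set.mem_singleton_iff]
    constructor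
    · intro hn
      rw [hn, h]
    · intro hn
      have : n = t⁻¹ * w * t := by rw [← hn]; group
      rw [this]
      nth_rewrite 1 [← h]
      group
  · intro h
    exact (h w).mp rfl

/-- linear characters of a finite group have norm one -/
theorem hom_units_mul_conj {W : Type u} [Group W] [Finite W] (ω : W →* ℂˣ) (w : W) :
    (ω w : ℂ) * conj (ω w : ℂ) = 1 := by
  have h1 : (ω w : ℂ) ^ Nat.card W = 1 := by
    rw [← Units.val_pow_eq_pow_val, ← map_pow, pow_card_eq_one', map_one, Units.val_one]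
  have h2 : ‖(ω w : ℂ)‖ = 1 :=
    Complex.norm_eq_one_of_pow_eq_one h1 (Nat.card_pos.ne')
  rw [Complex.mul_conj, Complex.normSq_eq_norm_sq, h2]
  simp

end

/-- S1503 -/
theorem cyclicTI_vanish {G : Type u} [Group G] [Fintype G] (W₁ W₂ : Subgroup G) (hW : IsSelfNormalizingCyclic W₁ W₂) (χ : (↥(W₁ ⊔ W₂) →* ℂˣ) → (G → ℂ)) (hχ : IsCyclicTIFamily W₁ W₂ χ) (θ : G → ℂ) (hθ : IsIrrCharacter G θ) (horth : ∀ ω, classInner θ (χ ω) = 0) (w : ↥(W₁ ⊔ W₂)) (hw₁ : (w : G) ∉ W₁) (hw₂ : (w : G) ∉ W₂) : θ w = 0 := by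
  classical
  have : Fintype (IrrCharacter G) := Fintype.ofFinite _
  have : Fintype (↥(W₁ ⊔ W₂) →* ℂˣ) := by
    have : Finite (↥(W₁ ⊔ W₂) →* ℂˣ) := by
      apply Nat.finite_of_card_ne_zero
      rw [card_hom_units]
      exact Subgroup.index_ne_zero_of_finite
    exact Fintype.ofFinite _
  -- |C_G(w)| = |W|
  have hcent : Nat.card {t : G // t * (w : G) * t⁻¹ = (w : G)} = Nat.card ↥(W₁ ⊔ W₂) :=
    Nat.card_congr (Equiv.subtypeEquivRight fun t => snc_centralizer hW w w.2 hw₁ hw₂ t)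
  -- |Hom(W, ℂˣ)| = |W|
  have hcyc : IsCyclic ↥(W₁ ⊔ W₂) := hW.2.2.2.2.1
  have hhom : Fintype.card (↥(W₁ ⊔ W₂) →* ℂˣ) = Nat.card ↥(W₁ ⊔ W₂) := by
    rw [← Nat.card_eq_fintype_card, card_hom_units]
    have : commutator ↥(W₁ ⊔ W₂) = ⊥ := by
      rw [commutator_eq_bot_iff_center_eq_top, Subgroup.eq_top_iff']
      intro x
      rw [Subgroup.mem_center_iff]
      intro y
      obtain ⟨g, hg⟩ := hcyc.exists_generator
      obtain ⟨a, rfl⟩ := Subgroup.mem_zpowers_iff.mp (hg x)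
      obtain ⟨b, rfl⟩ := Subgroup.mem_zpowers_iff.mp (hg y)
      exact (Commute.zpow_zpow_self g b a).eq
    rw [this, Subgroup.index_bot]
  -- the irreducible character attached to ω
  let ι : (↥(W₁ ⊔ W₂) →* ℂˣ) → IrrCharacter G := fun ω =>
    if h : IsIrrCharacter G (χ ω) then ⟨χ ω, h⟩ else ⟨-χ ω, (hχ.irr_or_neg ω).resolve_left h⟩
  have hι : ∀ ω, (ι ω).1 = χ ω ∨ (ι ω).1 = -χ ω := by
    intro ω
    by_cases h : IsIrrCharacter G (χ ω)
    · left; simp only [ι, dif_pos h]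
    · right; simp only [ι, dif_neg h]
  have hιw : ∀ ω, (ι ω).1 w * conj ((ι ω).1 w) = 1 := by
    intro ω
    rcases hι ω with h | h
    · rw [h, hχ.eq_on ω w hw₁ hw₂]
      exact hom_units_mul_conj ω w
    · rw [h]
      simp only [Pi.neg_apply, map_neg, neg_mul_neg]
      rw [hχ.eq_on ω w hw₁ hw₂]
      exact hom_units_mul_conj ω w
  have hneg : ∀ f ψ : G → ℂ, classInner f (-ψ) = -classInner f ψ := by
    intro f ψ
    have : (-ψ) = ((-1 : ℂ)) • ψ := by simp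
    rw [this, classInner_smul_right]
    simp
  have hnegl : ∀ f ψ : G → ℂ, classInner (-f) ψ = -classInner f ψ := by
    intro f ψ
    have : (-f) = ((-1 : ℂ)) • f := by simp
    rw [this, classInner_smul_left]
    simp
  have hιinj : Function.Injective ι := by
    intro ω ω' h
    by_contra hne
    have h0 : classInner (χ ω) (χ ω') = 0 := by rw [hχ.orthonormal, if_neg hne]
    have h1 : classInner (ι ω).1 (ι ω).1 = 1 := irr_inner_self _
    nth_rewrite 2 [h] at h1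
    rcases hι ω with ha | ha <;> rcases hι ω' with hb | hb <;> rw [ha, hb] at h1 <;>
      simp only [hneg, hnegl, h0] at h1 <;> simp at h1
  have hθι : ∀ ω, ι ω ≠ ⟨θ, hθ⟩ := by
    intro ω h
    have h1 : classInner θ (ι ω).1 = 1 := by
      rw [h]
      exact irr_inner_self ⟨θ, hθ⟩
    rcases hι ω with ha | ha <;> rw [ha] at h1 <;> simp only [hneg, horth ω] at h1 <;> simp at h1
  -- second orthogonality
  have hso := second_orth_count (w : G) (w : G)
  rw [hcent] at hso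
  have hre : ∀ χ' : IrrCharacter G, χ'.1 w * conj (χ'.1 w) = ((‖χ'.1 w‖ ^ 2 : ℝ) : ℂ) := by
    intro χ'
    rw [Complex.mul_conj, Complex.normSq_eq_norm_sq]
  have hso' : ∑ χ' : IrrCharacter G, ‖χ'.1 (w : G)‖ ^ 2 = (Nat.card ↥(W₁ ⊔ W₂) : ℝ) := by
    have : ((∑ χ' : IrrCharacter G, ‖χ'.1 (w : G)‖ ^ 2 : ℝ) : ℂ) = ((Nat.card ↥(W₁ ⊔ W₂) : ℝ) : ℂ) := by
      rw [Complex.ofReal_sum]
      simp only [← hre]
      rw [hso]
      simp
    exact_mod_cast this
  -- lower bound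
  have himg : ∑ χ' ∈ (Finset.univ.image ι), ‖χ'.1 (w : G)‖ ^ 2 = (Nat.card ↥(W₁ ⊔ W₂) : ℝ) := by
    rw [Finset.sum_image (fun a _ b _ h => hιinj h)]
    have : ∀ ω, ‖(ι ω).1 (w : G)‖ ^ 2 = 1 := by
      intro ω
      have h1 := hιw ω
      rw [hre] at h1
      exact_mod_cast h1
    simp only [this]
    rw [Finset.sum_const, Finset.card_univ, hhom]
    simp
  have hnot : (⟨θ, hθ⟩ : IrrCharacter G) ∉ Finset.univ.image ι := by
    intro h
    obtain ⟨ω, -, hω⟩ := Finset.mem_image.mp h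
    exact hθι ω hω
  have hle : ∑ χ' ∈ insert (⟨θ, hθ⟩ : IrrCharacter G) (Finset.univ.image ι), ‖χ'.1 (w : G)‖ ^ 2 ≤
      ∑ χ' : IrrCharacter G, ‖χ'.1 (w : G)‖ ^ 2 :=
    Finset.sum_le_sum_of_subset_of_nonneg (Finset.subset_univ _) (fun _ _ _ => sq_nonneg _)
  rw [Finset.sum_insert hnot, himg, hso'] at hle
  have h0 : ‖θ (w : G)‖ ^ 2 ≤ 0 := by linarith
  have h1 : ‖θ (w : G)‖ = 0 := by nlinarith [norm_nonneg (θ (w : G))]
  exact norm_eq_zero.mp h1

end Cfsg.Agent.Lib.helper24
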