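import Cfsg.Agent.Lib.helper24.CycTI

set_option autoImplicit false

namespace Cfsg.Agent.Lib.helper24
open Cfsg
open scoped ComplexConjugate

universe u

/-- in a finite cyclic group, an element killed by the order of `y` is a power of `y` -/
theorem cyc_mem_zpowers {α : Type u} [Group α] [Finite α] [IsCyclic α] (y y' : α)
    (h : y' ^ orderOf y = 1) : y' ∈ Subgroup.zpowers y := by
  classical
  have : Fintype α := Fintype.ofFinite α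
  have hpos : 0 < orderOf y := orderOf_pos y
  have h1 := IsCyclic.card_pow_eq_one_le (α := α) hpos
  have hsub : (Finset.univ.filter (fun a : α => a ∈ Subgroup.zpowers y)) ⊆
      Finset.univ.filter (fun a : α => a ^ orderOf y = 1) := by
    intro a ha
    rw [Finset.mem_filter] at ha ⊢
    refine ⟨Finset.mem_univ _, ?_⟩
    obtain ⟨k, rfl⟩ := Subgroup.mem_zpowers_iff.mp ha.2
    rw [← zpow_natCast, ← zpow_mul, mul_comm, zpow_mul, zpow_natCast, pow_orderOf_eq_one, one_zpow]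
  have hcard : (Finset.univ.filter (fun a : α => a ∈ Subgroup.zpowers y)).card = orderOf y := by
    rw [← Fintype.card_subtype, ← Nat.card_eq_fintype_card]
    exact Nat.card_zpowers y
  have heq := Finset.eq_of_subset_of_card_le hsub (by rw [hcard]; exact h1)
  have : y' ∈ Finset.univ.filter (fun a : α => a ^ orderOf y = 1) := by
    rw [Finset.mem_filter]
    exact ⟨Finset.mem_univ _, h⟩
  rw [← heq, Finset.mem_filter] at this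
  exact this.2

section
variable {G : Type u} [Group G]

/-- the TI property: if a conjugate of `w ∈ W ∖ (W₁ ∪ W₂)` lies in `W` then the conjugating element
lies in `W` -/
theorem snc_ti [Finite G] {W₁ W₂ : Subgroup G} (hW : IsSelfNormalizingCyclic W₁ W₂) (w : G)
    (hw : w ∈ W₁ ⊔ W₂) (hw₁ : w ∉ W₁) (hw₂ : w ∉ W₂) (x : G) (hx : x⁻¹ * w * x ∈ W₁ ⊔ W₂) :
    x ∈ W₁ ⊔ W₂ := by
  have hcyc : IsCyclic ↥(W₁ ⊔ W₂) := hW.2.2.2.2.1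
  have hord : orderOf (x⁻¹ * w * x) = orderOf w := by
    have : x⁻¹ * w * x = MulAut.conj x⁻¹ w := by simp [MulAut.conj_apply]
    rw [this]
    exact (MulAut.conj x⁻¹).orderOf_eq w
  -- the two cyclic subgroups coincide
  have key : ∀ a b : G, ∀ (ha : a ∈ W₁ ⊔ W₂) (hb : b ∈ W₁ ⊔ W₂), orderOf a = orderOf b →
      b ∈ Subgroup.zpowers a := by
    intro a b ha hb hab
    have h1 : (⟨b, hb⟩ : ↥(W₁ ⊔ W₂)) ^ orderOf (⟨a, ha⟩ : ↥(W₁ ⊔ W₂)) = 1 := by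
      apply Subtype.ext
      rw [Subgroup.coe_pow, Subgroup.coe_one, Subgroup.orderOf_mk, hab]
      exact pow_orderOf_eq_one b
    obtain ⟨k, hk⟩ := Subgroup.mem_zpowers_iff.mp (cyc_mem_zpowers _ _ h1)
    rw [Subgroup.mem_zpowers_iff]
    refine ⟨k, ?_⟩
    have := congrArg Subtype.val hk
    rw [Subgroup.coe_zpow] at this
    exact this
  have hz : Subgroup.zpowers (x⁻¹ * w * x) = Subgroup.zpowers w := by
    apply le_antisymm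
    · rw [Subgroup.zpowers_le]
      exact key w _ hw hx hord.symm
    · rw [Subgroup.zpowers_le]
      exact key _ w hx hw hord
  -- the set of generators of ⟨w⟩
  have hN := hW.2.2.2.2.2 {y : G | Subgroup.zpowers y = Subgroup.zpowers w} (by
    intro y hy
    have hy' : Subgroup.zpowers y = Subgroup.zpowers w := hy
    have hyw : y ∈ Subgroup.zpowers w := by
      rw [← hy']
      exact Subgroup.mem_zpowers y
    have hwy : w ∈ Subgroup.zpowers y := by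
      rw [hy']
      exact Subgroup.mem_zpowers w
    refine ⟨(Subgroup.zpowers_le.mpr hw) hyw, ?_⟩
    rintro (h | h)
    · exact hw₁ ((Subgroup.zpowers_le.mpr h) hwy)
    · exact hw₂ ((Subgroup.zpowers_le.mpr h) hwy)) ⟨w, rfl⟩
  rw [← hN, Subgroup.mem_set_normalizer_iff'']
  intro n
  have hmap : ∀ n : G, Subgroup.zpowers (x⁻¹ * n * x) =
      (Subgroup.zpowers n).map (MulAut.conj x⁻¹).toMonoidHom := by
    intro n
    rw [MonoidHom.map_zpowers]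
    congr 1
    simp [MulAut.conj_apply]
  show Subgroup.zpowers n = Subgroup.zpowers w ↔ Subgroup.zpowers (x⁻¹ * n * x) = Subgroup.zpowers w
  constructor
  · intro h
    rw [hmap n, h, ← hmap w, hz]
  · intro h
    rw [← hz, hmap n, hmap w] at h
    exact Subgroup.map_injective (MulAut.conj x⁻¹).injective h

/-- a homomorphism on `W₁ ⊔ W₂` trivial on both factors is trivial -/
theorem hom_eq_one_of_sup {M : Type*} [Group M] (W₁ W₂ : Subgroup G) (ω : ↥(W₁ ⊔ W₂) →* M)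
    (h₁ : ∀ w : ↥(W₁ ⊔ W₂), (w : G) ∈ W₁ → ω w = 1)
    (h₂ : ∀ w : ↥(W₁ ⊔ W₂), (w : G) ∈ W₂ → ω w = 1) : ω = 1 := by
  have hsup : W₁ ⊔ W₂ ≤ ω.ker.map (W₁ ⊔ W₂).subtype := by
    apply sup_le
    · intro a ha
      exact Subgroup.mem_map.mpr ⟨⟨a, le_sup_left (a := W₁) ha⟩, MonoidHom.mem_ker.mpr (h₁ _ ha), rfl⟩
    · intro a ha
      exact Subgroup.mem_map.mpr ⟨⟨a, le_sup_right (b := W₂) ha⟩, MonoidHom.mem_ker.mpr (h₂ _ ha), rfl⟩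
  ext w
  obtain ⟨k, hk, hkw⟩ := Subgroup.mem_map.mp (hsup w.2)
  have : k = w := Subtype.ext hkw
  rw [← this, MonoidHom.mem_ker.mp hk]
  simp

/-- uniqueness of the decomposition of a linear character of `W₁ ⊔ W₂` -/
theorem hom_prod_eq_iff (W₁ W₂ : Subgroup G) (φ₁ ψ₁ φ₂ ψ₂ : ↥(W₁ ⊔ W₂) →* ℂˣ)
    (hφ₁ : ∀ w : ↥(W₁ ⊔ W₂), (w : G) ∈ W₂ → φ₁ w = 1)
    (hψ₁ : ∀ w : ↥(W₁ ⊔ W₂), (w : G) ∈ W₁ → ψ₁ w = 1)
    (hφ₂ : ∀ w : ↥(W₁ ⊔ W₂), (w : G) ∈ W₂ → φ₂ w = 1)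
    (hψ₂ : ∀ w : ↥(W₁ ⊔ W₂), (w : G) ∈ W₁ → ψ₂ w = 1) :
    φ₁ * ψ₁ = φ₂ * ψ₂ ↔ φ₁ = φ₂ ∧ ψ₁ = ψ₂ := by
  constructor
  · intro h
    have hpt : ∀ w, φ₁ w * ψ₁ w = φ₂ w * ψ₂ w := fun w => by
      have := congrArg (fun ω : ↥(W₁ ⊔ W₂) →* ℂˣ => ω w) h
      simpa using this
    have hδ : φ₁ * φ₂⁻¹ = 1 := by
      apply hom_eq_one_of_sup
      · intro w hw
        have := hpt w
        rw [hψ₁ w hw, hψ₂ w hw, mul_one, mul_one] at this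
        simp [this]
      · intro w hw
        simp [hφ₁ w hw, hφ₂ w hw]
    have h1 : φ₁ = φ₂ := mul_inv_eq_one.mp hδ
    refine ⟨h1, ?_⟩
    rw [h1] at h
    exact mul_left_cancel h
  · rintro ⟨h1, h2⟩
    rw [h1, h2]

end

/-- orthonormality of linear characters -/
theorem hom_inner {W : Type u} [Group W] [Fintype W] (ω ω' : W →* ℂˣ) [Decidable (ω = ω')] :
    classInner (fun w => (ω w : ℂ)) (fun w => (ω' w : ℂ)) = if ω = ω' then 1 else 0 := by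
  by_cases h : ω = ω'
  · subst h
    rw [if_pos rfl]
    exact irr_inner_self ⟨_, isIrrCharacter_of_hom ω⟩
  · rw [if_neg h]
    refine irr_inner_ne (χ := ⟨_, isIrrCharacter_of_hom ω⟩) (ψ := ⟨_, isIrrCharacter_of_hom ω'⟩) ?_
    intro e
    apply h
    ext w
    have := congrFun (congrArg Subtype.val e) w
    exact this

/-- induction from `W` does not change values on `W ∖ (W₁ ∪ W₂)` -/
theorem snc_indFun_apply {G : Type u} [Group G] [Fintype G] {W₁ W₂ : Subgroup G}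
    (hW : IsSelfNormalizingCyclic W₁ W₂) (θ : ↥(W₁ ⊔ W₂) → ℂ) (w : ↥(W₁ ⊔ W₂))
    (hw₁ : (w : G) ∉ W₁) (hw₂ : (w : G) ∉ W₂) : indFun (W₁ ⊔ W₂) θ w = θ w := by
  classical
  unfold indFun
  have hterm : ∀ x : G, extendByZero (W₁ ⊔ W₂) θ (x⁻¹ * (w : G) * x) =
      if x ∈ W₁ ⊔ W₂ then θ w else 0 := by
    intro x
    by_cases hx : x ∈ W₁ ⊔ W₂
    · rw [if_pos hx]
      have h1 : x⁻¹ * (w : G) * x = w := by
        have := (snc_centralizer hW w w.2 hw₁ hw₂ x⁻¹).mpr (inv_mem hx)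
        rwa [inv_inv] at this
      rw [h1, extendByZero_apply_coe]
    · rw [if_neg hx]
      apply extendByZero_apply_not_mem
      intro hmem
      exact hx (snc_ti hW w w.2 hw₁ hw₂ x hmem)
  simp only [hterm]
  rw [← Finset.sum_filter, Finset.sum_const, nsmul_eq_mul]
  have hc : (Finset.univ.filter (fun x : G => x ∈ W₁ ⊔ W₂)).card = Nat.card ↥(W₁ ⊔ W₂) := by
    rw [Nat.card_eq_fintype_card, Fintype.card_subtype]
  rw [hc]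
  have hne : (Nat.card ↥(W₁ ⊔ W₂) : ℂ) ≠ 0 := by
    exact_mod_cast (Nat.card_pos (α := ↥(W₁ ⊔ W₂))).ne'
  field_simp

open Classical in
/-- S1505 -/
theorem cyclicTI_inner {G : Type u} [Group G] [Fintype G] (W₁ W₂ : Subgroup G) (hW : IsSelfNormalizingCyclic W₁ W₂) (φ φ' ψ ψ' : ↥(W₁ ⊔ W₂) →* ℂˣ) (hφ : φ ≠ 1) (hφ' : φ' ≠ 1) (hψ : ψ ≠ 1) (hψ' : ψ' ≠ 1) (hφ₂ : ∀ w : ↥(W₁ ⊔ W₂), (w : G) ∈ W₂ → φ w = 1 ∧ φ' w = 1) (hψ₁ : ∀ w : ↥(W₁ ⊔ W₂), (w : G) ∈ W₁ → ψ w = 1 ∧ ψ' w = 1) : classInner (indFun (W₁ ⊔ W₂) (fun w => 1 - (φ w : ℂ) - (ψ w : ℂ) + (φ w : ℂ) * (ψ w : ℂ))) (fun _ => 1) = 1 ∧ classInner (indFun (W₁ ⊔ W₂) (fun w => 1 - (φ w : ℂ) - (ψ w : ℂ) + (φ w : ℂ) * (ψ w : ℂ))) (indFun (W₁ ⊔ W₂) (fun w => 1 - (φ' w : ℂ) - (ψ' w : ℂ) + (φ' w : ℂ) * (ψ' w : ℂ))) = 1 + (if φ = φ' then 1 else 0) + (if ψ = ψ' then 1 else 0) + (if φ = φ' then 1 else 0) * (if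 ψ = ψ' then 1 else 0) := by
  have hWfin : Fintype ↥(W₁ ⊔ W₂) := Fintype.ofFinite _
  set f : (↥(W₁ ⊔ W₂) →* ℂˣ) → (↥(W₁ ⊔ W₂) → ℂ) := fun ω w => (ω w : ℂ) with hf
  have key : ∀ φ₁ ψ₁ φ₂ ψ₂ : ↥(W₁ ⊔ W₂) →* ℂˣ,
      (∀ w : ↥(W₁ ⊔ W₂), (w : G) ∈ W₂ → φ₁ w = 1) →
      (∀ w : ↥(W₁ ⊔ W₂), (w : G) ∈ W₁ → ψ₁ w = 1) →
      (∀ w : ↥(W₁ ⊔ W₂), (w : G) ∈ W₂ → φ₂ w = 1) →
      (∀ w : ↥(W₁ ⊔ W₂), (w : G) ∈ W₁ → ψ₂ w = 1) →
      classInner (f (φ₁ * ψ₁)) (f (φ₂ * ψ₂)) =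
        (if φ₁ = φ₂ then 1 else 0) * (if ψ₁ = ψ₂ then 1 else 0) := by
    intro φ₁ ψ₁ φ₂ ψ₂ h1 h2 h3 h4
    have := hom_inner (φ₁ * ψ₁) (φ₂ * ψ₂)
    rw [show f (φ₁ * ψ₁) = fun w => (((φ₁ * ψ₁) w : ℂˣ) : ℂ) from rfl,
      show f (φ₂ * ψ₂) = fun w => (((φ₂ * ψ₂) w : ℂˣ) : ℂ) from rfl, this]
    have hiff := hom_prod_eq_iff W₁ W₂ φ₁ ψ₁ φ₂ ψ₂ h1 h2 h3 h4
    by_cases ha : φ₁ = φ₂ <;> by_cases hb : ψ₁ = ψ₂ <;> simp [hiff, ha, hb]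
  have t1 : ∀ w : ↥(W₁ ⊔ W₂), (w : G) ∈ W₂ → (1 : ↥(W₁ ⊔ W₂) →* ℂˣ) w = 1 := fun _ _ => rfl
  have t1' : ∀ w : ↥(W₁ ⊔ W₂), (w : G) ∈ W₁ → (1 : ↥(W₁ ⊔ W₂) →* ℂˣ) w = 1 := fun _ _ => rfl
  have tφ : ∀ w : ↥(W₁ ⊔ W₂), (w : G) ∈ W₂ → φ w = 1 := fun w hw => (hφ₂ w hw).1
  have tφ' : ∀ w : ↥(W₁ ⊔ W₂), (w : G) ∈ W₂ → φ' w = 1 := fun w hw => (hφ₂ w hw).2
  have tψ : ∀ w : ↥(W₁ ⊔ W₂), (w : G) ∈ W₁ → ψ w = 1 := fun w hw => (hψ₁ w hw).1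
  have tψ' : ∀ w : ↥(W₁ ⊔ W₂), (w : G) ∈ W₁ → ψ' w = 1 := fun w hw => (hψ₁ w hw).2
  have hα : ∀ a b : ↥(W₁ ⊔ W₂) →* ℂˣ,
      (fun w : ↥(W₁ ⊔ W₂) => 1 - (a w : ℂ) - (b w : ℂ) + (a w : ℂ) * (b w : ℂ)) =
        f (1 * 1) - f (a * 1) - f (1 * b) + f (a * b) := by
    intro a b
    funext w
    simp [f]
  have h1 : (fun _ : ↥(W₁ ⊔ W₂) => (1 : ℂ)) = f (1 * 1) := by
    funext w
    simp [f]
  -- the 16 inner products
  have e11 := key 1 1 1 1 t1 t1' t1 t1'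
  have e12 := key 1 1 φ' 1 t1 t1' tφ' t1'
  have e13 := key 1 1 1 ψ' t1 t1' t1 tψ'
  have e14 := key 1 1 φ' ψ' t1 t1' tφ' tψ'
  have e21 := key φ 1 1 1 tφ t1' t1 t1'
  have e22 := key φ 1 φ' 1 tφ t1' tφ' t1'
  have e23 := key φ 1 1 ψ' tφ t1' t1 tψ'
  have e24 := key φ 1 φ' ψ' tφ t1' tφ' tψ'
  have e31 := key 1 ψ 1 1 t1 tψ t1 t1'
  have e32 := key 1 ψ φ' 1 t1 tψ tφ' t1'
  have e33 := key 1 ψ 1 ψ' t1 tψ t1 tψ'
  have e34 := key 1 ψ φ' ψ' t1 tψ tφ' tψ'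
  have e41 := key φ ψ 1 1 tφ tψ t1 t1'
  have e42 := key φ ψ φ' 1 tφ tψ tφ' t1'
  have e43 := key φ ψ 1 ψ' tφ tψ t1 tψ'
  have e44 := key φ ψ φ' ψ' tφ tψ tφ' tψ'
  have n1 : ¬ (1 : ↥(W₁ ⊔ W₂) →* ℂˣ) = φ' := fun h => hφ' h.symm
  have n2 : ¬ (1 : ↥(W₁ ⊔ W₂) →* ℂˣ) = ψ' := fun h => hψ' h.symm
  rw [if_pos rfl] at e11
  rw [if_neg n1, if_pos rfl] at e12
  rw [if_pos rfl, if_neg n2] at e13
  rw [if_neg n1, if_neg n2] at e14
  rw [if_neg hφ, if_pos rfl] at e21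
  rw [if_pos rfl] at e22
  rw [if_neg hφ, if_neg n2] at e23
  rw [if_neg n2] at e24
  rw [if_pos rfl, if_neg hψ] at e31
  rw [if_neg n1, if_neg hψ] at e32
  rw [if_pos rfl] at e33
  rw [if_neg n1] at e34
  rw [if_neg hφ, if_neg hψ] at e41
  rw [if_neg hψ] at e42
  rw [if_neg hφ] at e43
  constructor
  · rw [frobenius_reciprocity (W₁ ⊔ W₂) _ (χ := fun _ => 1) (fun _ _ => rfl)]
    rw [hα φ ψ, h1]
    simp only [classInner_add_left, classInner_sub_left]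
    rw [e11, e21, e31, e41]
    norm_num
  · rw [frobenius_reciprocity (W₁ ⊔ W₂) _ (indFun_isClassFunction (W₁ ⊔ W₂) _)]
    have hres : classInner (fun w : ↥(W₁ ⊔ W₂) => 1 - (φ w : ℂ) - (ψ w : ℂ) + (φ w : ℂ) * (ψ w : ℂ))
        (fun h : ↥(W₁ ⊔ W₂) => indFun (W₁ ⊔ W₂)
          (fun w => 1 - (φ' w : ℂ) - (ψ' w : ℂ) + (φ' w : ℂ) * (ψ' w : ℂ)) h) =
        classInner (fun w : ↥(W₁ ⊔ W₂) => 1 - (φ w : ℂ) - (ψ w : ℂ) + (φ w : ℂ) * (ψ w : ℂ))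
          (fun w => 1 - (φ' w : ℂ) - (ψ' w : ℂ) + (φ' w : ℂ) * (ψ' w : ℂ)) := by
      unfold classInner
      congr 1
      refine Finset.sum_congr rfl fun w _ => ?_
      beta_reduce
      by_cases hw₁ : (w : G) ∈ W₁
      · have : (ψ w : ℂ) = 1 := by rw [tψ w hw₁]; simp
        rw [this]
        ring
      · by_cases hw₂ : (w : G) ∈ W₂
        · have : (φ w : ℂ) = 1 := by rw [tφ w hw₂]; simp
          rw [this]
          ring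
        · rw [snc_indFun_apply hW _ w hw₁ hw₂]
    rw [hres, hα φ ψ, hα φ' ψ']
    simp only [classInner_add_left, classInner_sub_left, classInner_add_right, classInner_sub_right]
    rw [e11, e12, e13, e14, e21, e22, e23, e24, e31, e32, e33, e34, e41, e42, e43, e44]
    ring

end Cfsg.Agent.Lib.helper24
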