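import Cfsg.Agent.Lib.helper24.CycTI2
import Cfsg.Agent.Lib.helper23.GalConj

set_option autoImplicit false

namespace Cfsg.Agent.Lib.helper24
open Cfsg
open scoped ComplexConjugate

universe u

section
variable {G : Type u} [Group G]

/-- an irreducible character up to sign -/
def PMIrr (G : Type u) [Group G] (a : G → ℂ) : Prop := IsIrrCharacter G a ∨ IsIrrCharacter G (-a)

theorem classInner_neg_right' [Fintype G] (f ψ : G → ℂ) : classInner f (-ψ) = -classInner f ψ := by
  have : (-ψ) = ((-1 : ℂ)) • ψ := by simp
  rw [this, classInner_smul_right]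
  simp

theorem classInner_neg_left' [Fintype G] (f ψ : G → ℂ) : classInner (-f) ψ = -classInner f ψ := by
  have : (-f) = ((-1 : ℂ)) • f := by simp
  rw [this, classInner_smul_left]
  simp

theorem pmIrr_self [Fintype G] {a : G → ℂ} (h : PMIrr G a) : classInner a a = 1 := by
  rcases h with h | h
  · exact irr_inner_self ⟨a, h⟩
  · have := irr_inner_self ⟨-a, h⟩
    rw [classInner_neg_right', classInner_neg_left', neg_neg] at this
    exact this

theorem pmIrr_cases [Fintype G] {a v : G → ℂ} (ha : PMIrr G a) (hv : PMIrr G v) :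
    classInner a v = 0 ∨ a = v ∨ a = -v := by
  classical
  rcases ha with ha | ha <;> rcases hv with hv | hv
  · by_cases h : a = v
    · exact Or.inr (Or.inl h)
    · left
      rw [classInner_irr_fun ha hv, if_neg h]
  · by_cases h : a = -v
    · exact Or.inr (Or.inr h)
    · left
      have := classInner_irr_fun ha hv
      rw [if_neg h, classInner_neg_right', neg_eq_zero] at this
      exact this
  · by_cases h : -a = v
    · exact Or.inr (Or.inr (neg_eq_iff_eq_neg.mp h))
    · left
      have := classInner_irr_fun ha hv
      rw [if_neg h, classInner_neg_left', neg_eq_zero] at this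
      exact this
  · by_cases h : -a = -v
    · exact Or.inr (Or.inl (neg_injective h))
    · left
      have := classInner_irr_fun ha hv
      rw [if_neg h, classInner_neg_left', classInner_neg_right', neg_neg] at this
      exact this

theorem pm_orth_absurd [Fintype G] {v v₁ v₂ : G → ℂ} (hv : PMIrr G v) (h0 : classInner v₁ v₂ = 0)
    (h1 : v₁ = v ∨ v₁ = -v) (h2 : v₂ = v ∨ v₂ = -v) : False := by
  have hs := pmIrr_self hv
  rcases h1 with rfl | rfl <;> rcases h2 with rfl | rfl
  · rw [hs] at h0; exact one_ne_zero h0
  · rw [classInner_neg_right', hs] at h0; simp at h0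
  · rw [classInner_neg_left', hs] at h0; simp at h0
  · rw [classInner_neg_left', classInner_neg_right', hs] at h0; simp at h0

/-- matching lemma: two "triangle" identities with a common vertex identify that vertex -/
theorem pm_match [Fintype G] {a b c b' c' v : G → ℂ} (ha : PMIrr G a) (hb : PMIrr G b)
    (hc : PMIrr G c) (hb' : PMIrr G b') (hc' : PMIrr G c') (hv : PMIrr G v)
    (hab : classInner a b = 0) (hac : classInner a c = 0) (hbb' : classInner b b' = 0)
    (hbc' : classInner b c' = 0) (hcb' : classInner c b' = 0) (hcc' : classInner c c' = 0)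
    (e1 : classInner a v + classInner b v - classInner c v = 1)
    (e2 : classInner a v + classInner b' v - classInner c' v = 1) : a = v := by
  by_contra hne
  have hs := pmIrr_self hv
  by_cases hSa : a = v ∨ a = -v
  · have hav : a = -v := hSa.resolve_left hne
    have h1 : classInner a v = -1 := by rw [hav, classInner_neg_left', hs]
    rcases pmIrr_cases hb hv with hb0 | hb1
    · rcases pmIrr_cases hc hv with hc0 | hc1
      · rw [h1, hb0, hc0] at e1
        norm_num at e1
      · exact pm_orth_absurd hv hac hSa hc1
    · exact pm_orth_absurd hv hab hSa hb1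
  · have h1 : classInner a v = 0 := (pmIrr_cases ha hv).resolve_right hSa
    have hbc : (b = v ∨ b = -v) ∨ (c = v ∨ c = -v) := by
      rcases pmIrr_cases hb hv with hb0 | hb1
      · rcases pmIrr_cases hc hv with hc0 | hc1
        · rw [h1, hb0, hc0] at e1
          norm_num at e1
        · exact Or.inr hc1
      · exact Or.inl hb1
    have hbc' : (b' = v ∨ b' = -v) ∨ (c' = v ∨ c' = -v) := by
      rcases pmIrr_cases hb' hv with hb0 | hb1
      · rcases pmIrr_cases hc' hv with hc0 | hc1
        · rw [h1, hb0, hc0] at e2
          norm_num at e2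
        · exact Or.inr hc1
      · exact Or.inl hb1
    rcases hbc with h | h <;> rcases hbc' with h' | h'
    · exact pm_orth_absurd hv hbb' h h'
    · exact pm_orth_absurd hv hbc' h h'
    · exact pm_orth_absurd hv hcb' h h'
    · exact pm_orth_absurd hv hcc' h h'

theorem classInner_pow_coprime [Fintype G] (f f' : G → ℂ) (k : ℕ)
    (hk : k.Coprime (Nat.card G)) :
    classInner (fun g => f (g ^ k)) (fun g => f' (g ^ k)) = classInner f f' := by
  unfold classInner
  congr 1
  exact Equiv.sum_comp (powCoprime hk.symm) (fun g => f g * conj (f' g))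

theorem pmIrr_pow_coprime [Finite G] {a : G → ℂ} (h : PMIrr G a) (k : ℕ)
    (hk : k.Coprime (Nat.card G)) : PMIrr G (fun g => a (g ^ k)) := by
  rcases h with h | h
  · exact Or.inl (Cfsg.Agent.Lib.helper23.isIrrCharacter_pow_coprime h k hk)
  · right
    have := Cfsg.Agent.Lib.helper23.isIrrCharacter_pow_coprime h k hk
    exact this

theorem mem_zpowers_pow_coprime [Finite G] (y : G) (k : ℕ) (hk : k.Coprime (Nat.card G)) :
    y ∈ Subgroup.zpowers (y ^ k) := by
  have hk' : (orderOf y).Coprime k :=
    (Nat.Coprime.coprime_dvd_right (orderOf_dvd_natCard y) hk).symm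
  have hle : Subgroup.zpowers (y ^ k) ≤ Subgroup.zpowers y :=
    Subgroup.zpowers_le.mpr (pow_mem (Subgroup.mem_zpowers y) k)
  have hcard : Nat.card (Subgroup.zpowers y) ≤ Nat.card (Subgroup.zpowers (y ^ k)) := by
    rw [Nat.card_zpowers, Nat.card_zpowers, hk'.orderOf_pow]
  have := Subgroup.eq_of_le_of_card_ge hle hcard
  rw [this]
  exact Subgroup.mem_zpowers y

theorem indFun_pow_coprime [Fintype G] (H : Subgroup G) (θ : H → ℂ) (k : ℕ)
    (hk : k.Coprime (Nat.card G)) (g : G) :
    indFun H θ (g ^ k) = indFun H (fun h => θ (h ^ k)) g := by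
  unfold indFun
  congr 1
  refine Finset.sum_congr rfl fun x _ => ?_
  have hconj : x⁻¹ * g ^ k * x = (x⁻¹ * g * x) ^ k := by
    have := map_pow (MulAut.conj x⁻¹) g k
    simp only [MulAut.conj_apply, inv_inv] at this
    exact this
  rw [hconj]
  by_cases hy : x⁻¹ * g * x ∈ H
  · rw [extendByZero_apply_mem H _ (pow_mem hy k), extendByZero_apply_mem H _ hy]
    rfl
  · rw [extendByZero_apply_not_mem H _ hy, extendByZero_apply_not_mem]
    intro hmem
    exact hy ((Subgroup.zpowers_le.mpr hmem) (mem_zpowers_pow_coprime _ k hk))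

end

end Cfsg.Agent.Lib.helper24
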