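import Cfsg.Agent.Lib.helper24.CycTI3
import Cfsg.Agent.Lib.helper24.CharArtin
import Cfsg.Agent.Lib.helper23.CharInt
import Cfsg.Agent.Lib.helper23.CharMod
import Cfsg.Agent.Lib.helper24.CycFpf

set_option autoImplicit false

namespace Cfsg.Agent.Lib.helper24
open Cfsg
open scoped ComplexConjugate

universe u

/-- linear characters of a finite abelian group separate points -/
theorem exists_hom_ne_one {A : Type u} [CommGroup A] [Finite A] (a : A) (ha : a ≠ 1) :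
    ∃ ω : A →* ℂˣ, ω a ≠ 1 := by
  haveI : NeZero (Monoid.exponent A) := ⟨Monoid.exponent_ne_zero_of_finite⟩
  exact CommGroup.exists_apply_ne_one_of_hasEnoughRootsOfUnity A ℂ ha

theorem exists_hom_ne_one_cyclic {A : Type u} [Group A] [Finite A] [IsCyclic A] (a : A)
    (ha : a ≠ 1) : ∃ ω : A →* ℂˣ, ω a ≠ 1 := by
  letI : CommGroup A := IsCyclic.commGroup
  exact exists_hom_ne_one a ha

section homs
variable {W : Type u} [Group W]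

theorem hom_mul_one' (φ : W →* ℂˣ) : φ * 1 = φ := mul_one φ
theorem hom_one_mul' (φ : W →* ℂˣ) : 1 * φ = φ := one_mul φ
theorem hom_mul_pow' (φ ψ : W →* ℂˣ) (k : ℕ) : (φ * ψ) ^ k = φ ^ k * ψ ^ k := mul_pow φ ψ k
theorem hom_one_pow' (k : ℕ) : (1 : W →* ℂˣ) ^ k = 1 := one_pow (M := W →* ℂˣ) k
theorem hom_mul_inv_pow (ω ω' : W →* ℂˣ) (k : ℕ) (h : ω ^ k = ω' ^ k) : (ω * ω'⁻¹) ^ k = 1 := by
  have h1 : (ω * ω'⁻¹) ^ k = ω ^ k * (ω'⁻¹) ^ k := mul_pow ω ω'⁻¹ k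
  have h2 : (ω'⁻¹) ^ k = (ω' ^ k)⁻¹ := inv_pow ω' k
  exact h1.trans ((congrArg₂ (· * ·) h h2).trans (mul_inv_cancel (ω' ^ k)))

end homs

/-- a character value invariant under change of generator is a rational integer -/
theorem char_int_of_gen_inv {A : Type u} [Group A] [Fintype A] {ψ : A → ℂ}
    (hψ : IsCharacter A ψ) (g : A)
    (hinv : ∀ a : A, Subgroup.zpowers a = Subgroup.zpowers g → ψ a = ψ g) :
    ∃ z : ℤ, ψ g = z := by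
  classical
  have key : ∀ (S : Finset A), g ∈ S → (∀ a ∈ S, ψ a = ψ g) →
      (∑ a ∈ S, ψ a ∈ (Int.castRingHom ℂ).range) → ∃ z : ℤ, ψ g = z := by
    intro S hgS hS hsum
    obtain ⟨z, hz⟩ := hsum
    rw [Finset.sum_congr rfl hS, Finset.sum_const, nsmul_eq_mul] at hz
    have hmpos : 0 < S.card := Finset.card_pos.mpr ⟨g, hgS⟩
    have hm0 : (S.card : ℂ) ≠ 0 := by exact_mod_cast hmpos.ne'
    have h3 : ψ g = (((z : ℚ) / (S.card : ℚ) : ℚ) : ℂ) := by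
      push_cast
      rw [eq_div_iff hm0, mul_comm, ← hz]
      simp
    have hint := Cfsg.Agent.Lib.helper23.isCharacter_isIntegral hψ g
    rw [h3] at hint
    obtain ⟨z', hz'⟩ := Cfsg.Agent.Lib.helper23.rat_of_isIntegral_complex hint
    refine ⟨z', ?_⟩
    rw [h3, ← hz']
    simp
  have h1 := sum_generators_int hψ (Nat.card (Subgroup.zpowers g)) (Subgroup.zpowers g) rfl
  refine key _ ?_ ?_ h1
  · exact Finset.mem_filter.mpr ⟨Finset.mem_univ _, rfl⟩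
  · intro a ha
    exact hinv a (Finset.mem_filter.mp ha).2

section
variable {G : Type u} [Group G]

theorem snc_card_coprime [Finite G] {W₁ W₂ : Subgroup G} (hW : IsSelfNormalizingCyclic W₁ W₂) :
    (Nat.card W₁).Coprime (Nat.card W₂) := by
  by_contra h
  obtain ⟨p, hp, h1, h2⟩ := Nat.Prime.not_coprime_iff_dvd.mp h
  haveI := Fact.mk hp
  obtain ⟨a, ha⟩ := exists_prime_orderOf_dvd_card' p h1
  obtain ⟨b, hb⟩ := exists_prime_orderOf_dvd_card' p h2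
  have hcyc : IsCyclic ↥(W₁ ⊔ W₂) := hW.2.2.2.2.1
  have h3 : (⟨b, le_sup_right (b := W₂) b.2⟩ : ↥(W₁ ⊔ W₂)) ^
      orderOf (⟨a, le_sup_left (a := W₁) a.2⟩ : ↥(W₁ ⊔ W₂)) = 1 := by
    apply Subtype.ext
    rw [Subgroup.coe_pow, Subgroup.coe_one, Subgroup.orderOf_mk, Subgroup.orderOf_coe, ha, ← hb,
      ← Subgroup.orderOf_coe]
    exact pow_orderOf_eq_one _
  obtain ⟨z, hz⟩ := Subgroup.mem_zpowers_iff.mp (cyc_mem_zpowers _ _ h3)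
  have hz' : ((a : G)) ^ z = (b : G) := by
    have := congrArg Subtype.val hz
    rwa [Subgroup.coe_zpow] at this
  have hbW₁ : (b : G) ∈ W₁ := by
    rw [← hz']
    exact zpow_mem a.2 z
  have hb1 : (b : G) ∈ W₁ ⊓ W₂ := ⟨hbW₁, b.2⟩
  rw [hW.2.2.1, Subgroup.mem_bot] at hb1
  have hb2 : b = 1 := Subtype.ext hb1
  rw [hb2, orderOf_one] at hb
  exact hp.one_lt.ne hb

theorem snc_hom_decomp [Finite G] {W₁ W₂ : Subgroup G} (hW : IsSelfNormalizingCyclic W₁ W₂)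
    (ω : ↥(W₁ ⊔ W₂) →* ℂˣ) :
    ∃ φ ψ : ↥(W₁ ⊔ W₂) →* ℂˣ, (∀ w : ↥(W₁ ⊔ W₂), (w : G) ∈ W₂ → φ w = 1) ∧
      (∀ w : ↥(W₁ ⊔ W₂), (w : G) ∈ W₁ → ψ w = 1) ∧ ω = φ * ψ := by
  have hcop := snc_card_coprime hW
  obtain ⟨e, he1, he2⟩ := Nat.chineseRemainder hcop 1 0
  obtain ⟨e', he1', he2'⟩ := Nat.chineseRemainder hcop 0 1
  have hp1 : ∀ w : ↥(W₁ ⊔ W₂), (w : G) ∈ W₁ → w ^ Nat.card W₁ = 1 := by
    intro w hw
    apply Subtype.ext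
    have h := congrArg Subtype.val (pow_card_eq_one' (G := ↥W₁) (x := ⟨w, hw⟩))
    rw [Subgroup.coe_pow, Subgroup.coe_one] at h
    rw [Subgroup.coe_pow, Subgroup.coe_one]
    exact h
  have hp2 : ∀ w : ↥(W₁ ⊔ W₂), (w : G) ∈ W₂ → w ^ Nat.card W₂ = 1 := by
    intro w hw
    apply Subtype.ext
    have h := congrArg Subtype.val (pow_card_eq_one' (G := ↥W₂) (x := ⟨w, hw⟩))
    rw [Subgroup.coe_pow, Subgroup.coe_one] at h
    rw [Subgroup.coe_pow, Subgroup.coe_one]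
    exact h
  have pw0 : ∀ (w : ↥(W₁ ⊔ W₂)) (n k : ℕ), w ^ n = 1 → k ≡ 0 [MOD n] → w ^ k = 1 := by
    intro w n k hn hk
    obtain ⟨c, rfl⟩ := (Nat.modEq_zero_iff_dvd).mp hk
    rw [pow_mul, hn, one_pow]
  have pw1 : ∀ (w : ↥(W₁ ⊔ W₂)) (n k : ℕ), w ^ n = 1 → k ≡ 1 [MOD n] → w ^ k = w := by
    intro w n k hn hk
    have hk' : k % n = 1 % n := hk
    rw [pow_eq_pow_mod k hn, hk', ← pow_eq_pow_mod 1 hn, pow_one]
  refine ⟨ω ^ e, ω ^ e', ?_, ?_, ?_⟩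
  · intro w hw
    rw [MonoidHom.pow_apply, ← map_pow, pw0 w _ e (hp2 w hw) he2, map_one]
  · intro w hw
    rw [MonoidHom.pow_apply, ← map_pow, pw0 w _ e' (hp1 w hw) he1', map_one]
  · have hδ : ω⁻¹ * (ω ^ e * ω ^ e') = 1 := by
      apply hom_eq_one_of_sup
      · intro w hw
        simp only [MonoidHom.mul_apply, MonoidHom.inv_apply, MonoidHom.pow_apply]
        rw [← map_pow, ← map_pow, pw1 w _ e (hp1 w hw) he1, pw0 w _ e' (hp1 w hw) he1', map_one,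
          mul_one, inv_mul_cancel]
      · intro w hw
        simp only [MonoidHom.mul_apply, MonoidHom.inv_apply, MonoidHom.pow_apply]
        rw [← map_pow, ← map_pow, pw0 w _ e (hp2 w hw) he2, pw1 w _ e' (hp2 w hw) he2', map_one,
          one_mul, inv_mul_cancel]
    exact inv_mul_eq_one.mp hδ

theorem snc_exists_psi [Finite G] {W₁ W₂ : Subgroup G} (hW : IsSelfNormalizingCyclic W₁ W₂)
    (hodd : Odd (Nat.card ↥(W₁ ⊔ W₂))) :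
    ∃ ψ : ↥(W₁ ⊔ W₂) →* ℂˣ, (∀ w : ↥(W₁ ⊔ W₂), (w : G) ∈ W₁ → ψ w = 1) ∧ ψ ≠ 1 ∧ ψ ^ 2 ≠ 1 := by
  have hcyc : IsCyclic ↥(W₁ ⊔ W₂) := hW.2.2.2.2.1
  obtain ⟨b, hb⟩ := (Subgroup.ne_bot_iff_exists_ne_one).mp hW.2.1
  have hb' : (⟨b, le_sup_right (b := W₂) b.2⟩ : ↥(W₁ ⊔ W₂)) ≠ 1 := by
    intro h
    apply hb
    apply Subtype.ext
    have h' := congrArg (Subtype.val : ↥(W₁ ⊔ W₂) → G) h
    exact h'
  obtain ⟨ω, hω⟩ := exists_hom_ne_one_cyclic _ hb'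
  obtain ⟨φ, ψ, hφ, hψ, rfl⟩ := snc_hom_decomp hW ω
  have hψb : ψ ⟨b, le_sup_right (b := W₂) b.2⟩ ≠ 1 := by
    intro h
    apply hω
    rw [MonoidHom.mul_apply, hφ _ b.2, h, one_mul]
  refine ⟨ψ, hψ, ?_, ?_⟩
  · intro h
    apply hψb
    rw [h]
    rfl
  · intro h
    apply hψb
    have h2 : (ψ ⟨b, le_sup_right (b := W₂) b.2⟩) ^ 2 = 1 := by
      have := congrArg (fun f : ↥(W₁ ⊔ W₂) →* ℂˣ => f ⟨b, le_sup_right (b := W₂) b.2⟩) h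
      simpa using this
    have h3 : (ψ ⟨b, le_sup_right (b := W₂) b.2⟩) ^ Nat.card ↥(W₁ ⊔ W₂) = 1 := by
      rw [← map_pow, pow_card_eq_one', map_one]
    obtain ⟨t, ht⟩ := hodd
    rw [ht, pow_succ, pow_mul, h2, one_pow, one_mul] at h3
    exact h3

theorem snc_exists_phi [Finite G] {W₁ W₂ : Subgroup G} (hW : IsSelfNormalizingCyclic W₁ W₂)
    (hodd : Odd (Nat.card ↥(W₁ ⊔ W₂))) :
    ∃ φ : ↥(W₁ ⊔ W₂) →* ℂˣ, (∀ w : ↥(W₁ ⊔ W₂), (w : G) ∈ W₂ → φ w = 1) ∧ φ ≠ 1 ∧ φ ^ 2 ≠ 1 := by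
  have hcyc : IsCyclic ↥(W₁ ⊔ W₂) := hW.2.2.2.2.1
  obtain ⟨b, hb⟩ := (Subgroup.ne_bot_iff_exists_ne_one).mp hW.1
  have hb' : (⟨b, le_sup_left (a := W₁) b.2⟩ : ↥(W₁ ⊔ W₂)) ≠ 1 := by
    intro h
    apply hb
    apply Subtype.ext
    have h' := congrArg (Subtype.val : ↥(W₁ ⊔ W₂) → G) h
    exact h'
  obtain ⟨ω, hω⟩ := exists_hom_ne_one_cyclic _ hb'
  obtain ⟨φ, ψ, hφ, hψ, rfl⟩ := snc_hom_decomp hW ω
  have hφb : φ ⟨b, le_sup_left (a := W₁) b.2⟩ ≠ 1 := by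
    intro h
    apply hω
    rw [MonoidHom.mul_apply, hψ _ b.2, h, one_mul]
  refine ⟨φ, hφ, ?_, ?_⟩
  · intro h
    apply hφb
    rw [h]
    rfl
  · intro h
    apply hφb
    have h2 : (φ ⟨b, le_sup_left (a := W₁) b.2⟩) ^ 2 = 1 := by
      have := congrArg (fun f : ↥(W₁ ⊔ W₂) →* ℂˣ => f ⟨b, le_sup_left (a := W₁) b.2⟩) h
      simpa using this
    have h3 : (φ ⟨b, le_sup_left (a := W₁) b.2⟩) ^ Nat.card ↥(W₁ ⊔ W₂) = 1 := by
      rw [← map_pow, pow_card_eq_one', map_one]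
    obtain ⟨t, ht⟩ := hodd
    rw [ht, pow_succ, pow_mul, h2, one_pow, one_mul] at h3
    exact h3

end

/-- Galois equivariance of the family attached to a cyclic TI subgroup -/
theorem cyclicTI_galois {G : Type u} [Group G] [Fintype G] (W₁ W₂ : Subgroup G)
    (hW : IsSelfNormalizingCyclic W₁ W₂) (hodd : Odd (Nat.card ↥(W₁ ⊔ W₂)))
    (χ : (↥(W₁ ⊔ W₂) →* ℂˣ) → (G → ℂ)) (hχ : IsCyclicTIFamily W₁ W₂ χ) (k : ℕ)
    (hk : k.Coprime (Nat.card G)) (ω : ↥(W₁ ⊔ W₂) →* ℂˣ) :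
    (fun g => χ ω (g ^ k)) = χ (ω ^ k) := by
  classical
  have hX : ∀ ω, PMIrr G (χ ω) := hχ.irr_or_neg
  have hY : ∀ ω, PMIrr G (fun g => χ ω (g ^ k)) := fun ω => pmIrr_pow_coprime (hX ω) k hk
  have hXorth : ∀ ω ω', ω ≠ ω' → classInner (χ ω) (χ ω') = 0 := fun ω ω' h => by
    rw [hχ.orthonormal, if_neg h]
  have hYorth : ∀ ω ω', ω ≠ ω' →
      classInner (fun g => χ ω (g ^ k)) (fun g => χ ω' (g ^ k)) = 0 := fun ω ω' h => by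
    rw [classInner_pow_coprime _ _ k hk]
    exact hXorth ω ω' h
  have hkW : k.Coprime (Nat.card ↥(W₁ ⊔ W₂)) :=
    Nat.Coprime.coprime_dvd_right (Subgroup.card_subgroup_dvd_card _) hk
  have hpow1 : ∀ ω : ↥(W₁ ⊔ W₂) →* ℂˣ, ω ^ k = 1 → ω = 1 := by
    intro ω h
    ext w
    have hmem := mem_zpowers_pow_coprime w k hkW
    obtain ⟨z, hz⟩ := Subgroup.mem_zpowers_iff.mp hmem
    have h1 : ω (w ^ k) = 1 := by
      have := congrArg (fun f : ↥(W₁ ⊔ W₂) →* ℂˣ => f w) h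
      simp only [MonoidHom.pow_apply, MonoidHom.one_apply] at this
      rw [map_pow]
      exact this
    rw [← hz, map_zpow, h1, one_zpow]
    rfl
  have hpowinj : ∀ ω ω' : ↥(W₁ ⊔ W₂) →* ℂˣ, ω ^ k = ω' ^ k → ω = ω' := by
    intro ω ω' h
    have : (ω * ω'⁻¹) ^ k = 1 := hom_mul_inv_pow ω ω' k h
    exact mul_inv_eq_one.mp (hpow1 _ this)
  have t1 : ∀ w : ↥(W₁ ⊔ W₂), (w : G) ∈ W₂ → (1 : ↥(W₁ ⊔ W₂) →* ℂˣ) w = 1 := fun _ _ => rfl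
  have t1' : ∀ w : ↥(W₁ ⊔ W₂), (w : G) ∈ W₁ → (1 : ↥(W₁ ⊔ W₂) →* ℂˣ) w = 1 := fun _ _ => rfl
  have tpow₂ : ∀ φ : ↥(W₁ ⊔ W₂) →* ℂˣ, (∀ w : ↥(W₁ ⊔ W₂), (w : G) ∈ W₂ → φ w = 1) → ∀ n : ℕ,
      (∀ w : ↥(W₁ ⊔ W₂), (w : G) ∈ W₂ → (φ ^ n) w = 1) := fun φ h n w hw => by
    rw [MonoidHom.pow_apply, h w hw, one_pow]
  have tpow₁ : ∀ ψ : ↥(W₁ ⊔ W₂) →* ℂˣ, (∀ w : ↥(W₁ ⊔ W₂), (w : G) ∈ W₁ → ψ w = 1) → ∀ n : ℕ,
      (∀ w : ↥(W₁ ⊔ W₂), (w : G) ∈ W₁ → (ψ ^ n) w = 1) := fun ψ h n w hw => by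
    rw [MonoidHom.pow_apply, h w hw, one_pow]
  -- the transported induction identity
  have star : ∀ φ ψ : ↥(W₁ ⊔ W₂) →* ℂˣ, φ ≠ 1 → ψ ≠ 1 →
      (∀ w : ↥(W₁ ⊔ W₂), (w : G) ∈ W₂ → φ w = 1) →
      (∀ w : ↥(W₁ ⊔ W₂), (w : G) ∈ W₁ → ψ w = 1) →
      (fun g => χ φ (g ^ k)) + (fun g => χ ψ (g ^ k)) - (fun g => χ (φ * ψ) (g ^ k)) =
        χ (φ ^ k) + χ (ψ ^ k) - χ (φ ^ k * ψ ^ k) := by
    intro φ ψ hφ hψ tφ tψ
    funext g
    have h1 := congrFun (hχ.induced_eq φ ψ hφ hψ tφ tψ) (g ^ k)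
    have h2 := congrFun (hχ.induced_eq (φ ^ k) (ψ ^ k) (fun h => hφ (hpow1 φ h))
      (fun h => hψ (hpow1 ψ h)) (tpow₂ φ tφ k) (tpow₁ ψ tψ k)) g
    rw [indFun_pow_coprime _ _ k hk] at h1
    have h3 : (fun h : ↥(W₁ ⊔ W₂) => (fun w : ↥(W₁ ⊔ W₂) => 1 - ((φ w : ℂˣ) : ℂ) - ((ψ w : ℂˣ) : ℂ) +
          ((φ w : ℂˣ) : ℂ) * ((ψ w : ℂˣ) : ℂ)) (h ^ k)) =
        (fun w : ↥(W₁ ⊔ W₂) => 1 - (((φ ^ k) w : ℂˣ) : ℂ) - (((ψ ^ k) w : ℂˣ) : ℂ) +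
          (((φ ^ k) w : ℂˣ) : ℂ) * (((ψ ^ k) w : ℂˣ) : ℂ)) := by
      funext w
      simp only [MonoidHom.pow_apply, map_pow]
    rw [h3, h2] at h1
    simp only [Pi.add_apply, Pi.sub_apply]
    linear_combination h1
  have star2 : ∀ φ ψ : ↥(W₁ ⊔ W₂) →* ℂˣ, φ ≠ 1 → ψ ≠ 1 →
      (∀ w : ↥(W₁ ⊔ W₂), (w : G) ∈ W₂ → φ w = 1) →
      (∀ w : ↥(W₁ ⊔ W₂), (w : G) ∈ W₁ → ψ w = 1) → ∀ v : G → ℂ,
      classInner (fun g => χ φ (g ^ k)) v + classInner (fun g => χ ψ (g ^ k)) v -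
          classInner (fun g => χ (φ * ψ) (g ^ k)) v =
        classInner (χ (φ ^ k)) v + classInner (χ (ψ ^ k)) v - classInner (χ (φ ^ k * ψ ^ k)) v := by
    intro φ ψ hφ hψ tφ tψ v
    have := congrArg (fun f => classInner f v) (star φ ψ hφ hψ tφ tψ)
    simp only [classInner_add_left, classInner_sub_left] at this
    exact this
  have hne : ∀ φ₁ ψ₁ φ₂ ψ₂ : ↥(W₁ ⊔ W₂) →* ℂˣ,
      (∀ w : ↥(W₁ ⊔ W₂), (w : G) ∈ W₂ → φ₁ w = 1) →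
      (∀ w : ↥(W₁ ⊔ W₂), (w : G) ∈ W₁ → ψ₁ w = 1) →
      (∀ w : ↥(W₁ ⊔ W₂), (w : G) ∈ W₂ → φ₂ w = 1) →
      (∀ w : ↥(W₁ ⊔ W₂), (w : G) ∈ W₁ → ψ₂ w = 1) →
      (φ₁ ≠ φ₂ ∨ ψ₁ ≠ ψ₂) → φ₁ * ψ₁ ≠ φ₂ * ψ₂ := by
    intro φ₁ ψ₁ φ₂ ψ₂ h1 h2 h3 h4 h e
    have := (hom_prod_eq_iff W₁ W₂ φ₁ ψ₁ φ₂ ψ₂ h1 h2 h3 h4).mp e
    rcases h with h | h
    · exact h this.1
    · exact h this.2
  have sq_ne : ∀ ψ : ↥(W₁ ⊔ W₂) →* ℂˣ, ψ ≠ 1 → ψ ≠ ψ ^ 2 := by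
    intro ψ hψ h
    apply hψ
    have : ψ * 1 = ψ * ψ := (hom_mul_one' ψ).trans (h.trans (pow_two ψ))
    exact (mul_left_cancel this).symm
  have claimΦ : ∀ φ : ↥(W₁ ⊔ W₂) →* ℂˣ, φ ≠ 1 →
      (∀ w : ↥(W₁ ⊔ W₂), (w : G) ∈ W₂ → φ w = 1) → (fun g => χ φ (g ^ k)) = χ (φ ^ k) := by
    intro φ hφ tφ
    obtain ⟨ψ, tψ, hψ1, hψ2⟩ := snc_exists_psi hW hodd
    have tψ2 := tpow₁ ψ tψ 2
    have d1 : φ ≠ ψ := by
      have := hne φ 1 1 ψ tφ t1' t1 tψ (Or.inl hφ)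
      simpa only [hom_mul_one', hom_one_mul'] using this
    have d1' : φ ≠ ψ ^ 2 := by
      have := hne φ 1 1 (ψ ^ 2) tφ t1' t1 tψ2 (Or.inl hφ)
      simpa only [hom_mul_one', hom_one_mul'] using this
    have d2 : φ ≠ φ * ψ := by
      have := hne φ 1 φ ψ tφ t1' tφ tψ (Or.inr (Ne.symm hψ1))
      simpa only [hom_mul_one', hom_one_mul'] using this
    have d2' : φ ≠ φ * ψ ^ 2 := by
      have := hne φ 1 φ (ψ ^ 2) tφ t1' tφ tψ2 (Or.inr (Ne.symm hψ2))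
      simpa only [hom_mul_one', hom_one_mul'] using this
    have d3 : ψ ≠ ψ ^ 2 := sq_ne ψ hψ1
    have d4 : ψ ≠ φ * ψ ^ 2 := by
      have := hne 1 ψ φ (ψ ^ 2) t1 tψ tφ tψ2 (Or.inl (Ne.symm hφ))
      simpa only [hom_mul_one', hom_one_mul'] using this
    have d5 : φ * ψ ≠ ψ ^ 2 := by
      have := hne φ ψ 1 (ψ ^ 2) tφ tψ t1 tψ2 (Or.inl hφ)
      simpa only [hom_mul_one', hom_one_mul'] using this
    have d6 : φ * ψ ≠ φ * ψ ^ 2 := hne φ ψ φ (ψ ^ 2) tφ tψ tφ tψ2 (Or.inr d3)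
    have p1 : ψ ^ k ≠ φ ^ k := fun h => d1 (hpowinj _ _ h).symm
    have p2 : φ ^ k * ψ ^ k ≠ φ ^ k := by
      rw [← hom_mul_pow']
      exact fun h => d2 (hpowinj _ _ h).symm
    have p3 : (ψ ^ 2) ^ k ≠ φ ^ k := fun h => d1' (hpowinj _ _ h).symm
    have p4 : φ ^ k * (ψ ^ 2) ^ k ≠ φ ^ k := by
      rw [← hom_mul_pow']
      exact fun h => d2' (hpowinj _ _ h).symm
    refine pm_match (hY φ) (hY ψ) (hY (φ * ψ)) (hY (ψ ^ 2)) (hY (φ * ψ ^ 2)) (hX (φ ^ k))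
      (hYorth _ _ d1) (hYorth _ _ d2) (hYorth _ _ d3) (hYorth _ _ d4) (hYorth _ _ d5)
      (hYorth _ _ d6) ?_ ?_
    · rw [star2 φ ψ hφ hψ1 tφ tψ, pmIrr_self (hX _), hXorth _ _ p1, hXorth _ _ p2]
      norm_num
    · rw [star2 φ (ψ ^ 2) hφ hψ2 tφ tψ2, pmIrr_self (hX _), hXorth _ _ p3, hXorth _ _ p4]
      norm_num
  have claimΨ : ∀ ψ : ↥(W₁ ⊔ W₂) →* ℂˣ, ψ ≠ 1 →
      (∀ w : ↥(W₁ ⊔ W₂), (w : G) ∈ W₁ → ψ w = 1) → (fun g => χ ψ (g ^ k)) = χ (ψ ^ k) := by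
    intro ψ hψ tψ
    obtain ⟨φ, tφ, hφ1, hφ2⟩ := snc_exists_phi hW hodd
    have tφ2 := tpow₂ φ tφ 2
    have d1 : ψ ≠ φ := by
      have := hne 1 ψ φ 1 t1 tψ tφ t1' (Or.inr hψ)
      simpa only [hom_mul_one', hom_one_mul'] using this
    have d1' : ψ ≠ φ ^ 2 := by
      have := hne 1 ψ (φ ^ 2) 1 t1 tψ tφ2 t1' (Or.inr hψ)
      simpa only [hom_mul_one', hom_one_mul'] using this
    have d2 : ψ ≠ φ * ψ := by
      have := hne 1 ψ φ ψ t1 tψ tφ tψ (Or.inl (Ne.symm hφ1))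
      simpa only [hom_mul_one', hom_one_mul'] using this
    have d2' : ψ ≠ φ ^ 2 * ψ := by
      have := hne 1 ψ (φ ^ 2) ψ t1 tψ tφ2 tψ (Or.inl (Ne.symm hφ2))
      simpa only [hom_mul_one', hom_one_mul'] using this
    have d3 : φ ≠ φ ^ 2 := sq_ne φ hφ1
    have d4 : φ ≠ φ ^ 2 * ψ := by
      have := hne φ 1 (φ ^ 2) ψ tφ t1' tφ2 tψ (Or.inr (Ne.symm hψ))
      simpa only [hom_mul_one', hom_one_mul'] using this
    have d5 : φ * ψ ≠ φ ^ 2 := by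
      have := hne φ ψ (φ ^ 2) 1 tφ tψ tφ2 t1' (Or.inr hψ)
      simpa only [hom_mul_one', hom_one_mul'] using this
    have d6 : φ * ψ ≠ φ ^ 2 * ψ := hne φ ψ (φ ^ 2) ψ tφ tψ tφ2 tψ (Or.inl d3)
    have p1 : φ ^ k ≠ ψ ^ k := fun h => d1 (hpowinj _ _ h).symm
    have p2 : φ ^ k * ψ ^ k ≠ ψ ^ k := by
      rw [← hom_mul_pow']
      exact fun h => d2 (hpowinj _ _ h).symm
    have p3 : (φ ^ 2) ^ k ≠ ψ ^ k := fun h => d1' (hpowinj _ _ h).symm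
    have p4 : (φ ^ 2) ^ k * ψ ^ k ≠ ψ ^ k := by
      rw [← hom_mul_pow']
      exact fun h => d2' (hpowinj _ _ h).symm
    refine pm_match (hY ψ) (hY φ) (hY (φ * ψ)) (hY (φ ^ 2)) (hY (φ ^ 2 * ψ)) (hX (ψ ^ k))
      (hYorth _ _ d1) (hYorth _ _ d2) (hYorth _ _ d3) (hYorth _ _ d4) (hYorth _ _ d5)
      (hYorth _ _ d6) ?_ ?_
    · have e := star2 φ ψ hφ1 hψ tφ tψ (χ (ψ ^ k))
      rw [pmIrr_self (hX _), hXorth _ _ p1, hXorth _ _ p2] at e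
      linear_combination e
    · have e := star2 (φ ^ 2) ψ hφ2 hψ tφ2 tψ (χ (ψ ^ k))
      rw [pmIrr_self (hX _), hXorth _ _ p3, hXorth _ _ p4] at e
      linear_combination e
  obtain ⟨φ, ψ, tφ, tψ, rfl⟩ := snc_hom_decomp hW ω
  by_cases hφ : φ = 1
  · by_cases hψ : ψ = 1
    · subst hφ
      subst hψ
      rw [hom_mul_one', hom_one_pow', hχ.map_one]
    · subst hφ
      rw [hom_one_mul']
      exact claimΨ ψ hψ tψ
  · by_cases hψ : ψ = 1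
    · subst hψ
      rw [hom_mul_one']
      exact claimΦ φ hφ tφ
    · have s := star φ ψ hφ hψ tφ tψ
      rw [claimΦ φ hφ tφ, claimΨ ψ hψ tψ] at s
      rw [hom_mul_pow']
      funext g
      have := congrFun s g
      simp only [Pi.add_apply, Pi.sub_apply] at this
      linear_combination -this

/-- S1508 -/
theorem cyclicTI_int {G : Type u} [Group G] [Fintype G] (W₁ W₂ : Subgroup G) (hW : IsSelfNormalizingCyclic W₁ W₂) (hodd : Odd (Nat.card ↥(W₁ ⊔ W₂))) (χ : (↥(W₁ ⊔ W₂) →* ℂˣ) → (G → ℂ)) (hχ : IsCyclicTIFamily W₁ W₂ χ) (ω : ↥(W₁ ⊔ W₂) →* ℂˣ) (g : G) (hg : Nat.Coprime (orderOf g) (orderOf ω)) : ∃ n : ℤ, χ ω g = n := by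
  classical
  have hωpos : 0 < orderOf ω := by
    have h1 : ω ^ Nat.card ↥(W₁ ⊔ W₂) = 1 := by
      ext w
      rw [MonoidHom.pow_apply, ← map_pow, pow_card_eq_one', map_one]
      rfl
    exact Nat.pos_of_dvd_of_pos (orderOf_dvd_of_pow_eq_one h1) Nat.card_pos
  have hinv : ∀ a : G, Subgroup.zpowers a = Subgroup.zpowers g → χ ω a = χ ω g := by
    intro a ha
    have ha' : a ∈ Subgroup.zpowers g := by
      rw [← ha]
      exact Subgroup.mem_zpowers a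
    obtain ⟨j, rfl⟩ : ∃ j : ℕ, g ^ j = a :=
      (Submonoid.mem_powers_iff _ _).mp ((mem_powers_iff_mem_zpowers).mpr ha')
    have hord : orderOf (g ^ j) = orderOf g := by
      rw [← Nat.card_zpowers, ← Nat.card_zpowers, ha]
    have hjcop : j.Coprime (orderOf g) := by
      rw [orderOf_pow] at hord
      have hpos := orderOf_pos g
      have hd : Nat.gcd (orderOf g) j ∣ orderOf g := Nat.gcd_dvd_left _ _
      have h1 := Nat.div_mul_cancel hd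
      rw [hord] at h1
      have h2 : Nat.gcd (orderOf g) j = 1 :=
        Nat.eq_of_mul_eq_mul_left hpos (h1.trans (mul_one _).symm)
      exact Nat.coprime_comm.mp h2
    obtain ⟨j₀, hj1, hj2⟩ := Nat.chineseRemainder hg j 1
    have hj₀cop : j₀.Coprime (orderOf g * orderOf ω) := by
      apply Nat.Coprime.mul_right
      · unfold Nat.Coprime
        rw [hj1.gcd_eq]
        exact hjcop
      · unfold Nat.Coprime
        rw [hj2.gcd_eq]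
        exact Nat.gcd_one_left _
    obtain ⟨k, hkcop, hkmod⟩ := exists_coprime_lift (orderOf g * orderOf ω)
      (orderOf g * orderOf ω * Nat.card G) j₀ (Dvd.intro _ rfl)
      (Nat.mul_pos (Nat.mul_pos (orderOf_pos g) hωpos) Nat.card_pos) hj₀cop
    have hkG : k.Coprime (Nat.card G) :=
      Nat.Coprime.coprime_dvd_right (Dvd.intro_left _ rfl) hkcop
    have hk1 : k ≡ j [MOD orderOf g] := (Nat.ModEq.of_mul_right _ hkmod).trans hj1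
    have hk2 : k ≡ 1 [MOD orderOf ω] := (Nat.ModEq.of_mul_left _ hkmod).trans hj2
    have hgk : g ^ j = g ^ k := pow_eq_pow_iff_modEq.mpr hk1.symm
    have hωk : ω ^ k = ω := by
      have h1 : ω ^ (k % orderOf ω) = ω ^ k := pow_mod_orderOf ω k
      have h2 : ω ^ (1 % orderOf ω) = ω ^ 1 := pow_mod_orderOf ω 1
      have hk2' : k % orderOf ω = 1 % orderOf ω := hk2
      rw [hk2'] at h1
      exact h1.symm.trans (h2.trans (pow_one ω))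
    have := congrFun (cyclicTI_galois W₁ W₂ hW hodd χ hχ k hkG ω) g
    rw [hωk] at this
    rw [hgk]
    exact this
  rcases hχ.irr_or_neg ω with h | h
  · exact char_int_of_gen_inv (isCharacter_of_isIrrCharacter h) g hinv
  · obtain ⟨z, hz⟩ := char_int_of_gen_inv (isCharacter_of_isIrrCharacter h) g (fun a ha => by
      simp only [Pi.neg_apply]
      rw [hinv a ha])
    refine ⟨-z, ?_⟩
    simp only [Pi.neg_apply] at hz
    push_cast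
    rw [← hz]
    ring

end Cfsg.Agent.Lib.helper24
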