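import Cfsg.Agent.Lib.helper24.GlaubProj
import Cfsg.Agent.Lib.helper24.CharComplete
import Cfsg.Agent.Lib.helper24.CharCyclicExt
import Cfsg.Agent.Lib.helper24.CharEquiv
import Cfsg.Agent.Lib.helper24.CharFS
import Cfsg.Agent.Lib.helper24.CharRamified

/-! Fully ramified characters: coset orthogonality and the absence of self-centralizing
cyclic subgroups in the quotient. -/

namespace Cfsg.Agent.Lib.helper24

open Cfsg
open scoped ComplexConjugate

universe u

set_option autoImplicit false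

section FullRam

/-- matrix unit as a linear map -/
noncomputable def unitMap (n m : ℕ) (i : Fin n) (a : Fin m) :
    (Fin m → ℂ) →ₗ[ℂ] (Fin n → ℂ) :=
  (LinearMap.proj a).smulRight (Pi.single i (1 : ℂ))

theorem unitMap_apply (n m : ℕ) (i : Fin n) (a : Fin m) (w : Fin m → ℂ) :
    unitMap n m i a w = w a • Pi.single i (1 : ℂ) := by
  simp [unitMap]

theorem trace_eq_sum_single {n : ℕ} (f : (Fin n → ℂ) →ₗ[ℂ] (Fin n → ℂ)) :
    LinearMap.trace ℂ _ f = ∑ i : Fin n, f (Pi.single i 1) i := by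
  rw [← trace_toMatrix', Matrix.trace]
  simp [LinearMap.toMatrix'_apply]

theorem sum_unitMap_sandwich {n m : ℕ} (A : (Fin n → ℂ) →ₗ[ℂ] (Fin n → ℂ))
    (B : (Fin m → ℂ) →ₗ[ℂ] (Fin m → ℂ)) :
    ∑ i : Fin n, ∑ a : Fin m, (A ∘ₗ unitMap n m i a ∘ₗ B) (Pi.single a 1) i
      = LinearMap.trace ℂ _ A * LinearMap.trace ℂ _ B := by
  rw [trace_eq_sum_single, trace_eq_sum_single, Finset.sum_mul_sum]
  apply Finset.sum_congr rfl; intro i _
  apply Finset.sum_congr rfl; intro a _
  simp only [LinearMap.comp_apply, unitMap_apply, map_smul, Pi.smul_apply, smul_eq_mul]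
  ring

variable {K : Type u} [Group K] [Fintype K] (Z : Subgroup K) [Fintype Z] {n m : ℕ}

/-- the averaging operator over `Z` -/
noncomputable def cosetAvg (ρ : Representation ℂ K (Fin n → ℂ))
    (σ : Representation ℂ K (Fin m → ℂ)) (T : (Fin m → ℂ) →ₗ[ℂ] (Fin n → ℂ)) :
    (Fin m → ℂ) →ₗ[ℂ] (Fin n → ℂ) :=
  ∑ z : Z, ρ (z : K) ∘ₗ T ∘ₗ σ (z : K)⁻¹

theorem cosetAvg_apply (ρ : Representation ℂ K (Fin n → ℂ))
    (σ : Representation ℂ K (Fin m → ℂ)) (T : (Fin m → ℂ) →ₗ[ℂ] (Fin n → ℂ)) (w : Fin m → ℂ) :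
    cosetAvg Z ρ σ T w = ∑ z : Z, ρ (z : K) (T (σ (z : K)⁻¹ w)) := by
  simp [cosetAvg, LinearMap.sum_apply]

theorem cosetAvg_comm (ρ : Representation ℂ K (Fin n → ℂ))
    (σ : Representation ℂ K (Fin m → ℂ)) (T : (Fin m → ℂ) →ₗ[ℂ] (Fin n → ℂ)) (y : Z) :
    ρ (y : K) ∘ₗ cosetAvg Z ρ σ T = cosetAvg Z ρ σ T ∘ₗ σ (y : K) := by
  apply LinearMap.ext
  intro w
  simp only [LinearMap.comp_apply, cosetAvg_apply, map_sum]
  refine Fintype.sum_equiv (Equiv.mulLeft y) _ _ (fun z => ?_)
  simp only [Equiv.coe_mulLeft, Subgroup.coe_mul, mul_inv_rev, map_mul, Module.End.mul_apply]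
  congr 3
  have h1 : (σ (y : K)⁻¹) ((σ (y : K)) w) = w := by
    rw [← Module.End.mul_apply, ← map_mul, inv_mul_cancel, map_one, Module.End.one_apply]
  rw [h1]

theorem sandwich_sum (ρ : Representation ℂ K (Fin n → ℂ))
    (σ : Representation ℂ K (Fin m → ℂ)) (T : (Fin m → ℂ) →ₗ[ℂ] (Fin n → ℂ)) (g : K)
    (w : Fin m → ℂ) :
    ∑ z : Z, (ρ (g * z) ∘ₗ T ∘ₗ σ (g * z)⁻¹) w = ρ g (cosetAvg Z ρ σ T (σ g⁻¹ w)) := by
  rw [cosetAvg_apply, map_sum]
  apply Finset.sum_congr rfl
  intro z _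
  simp only [LinearMap.comp_apply, mul_inv_rev, map_mul, Module.End.mul_apply]

theorem sum_char_sandwich (ρ : Representation ℂ K (Fin n → ℂ))
    (σ : Representation ℂ K (Fin m → ℂ)) (g : K) :
    ∑ z : Z, ρ.character (g * z) * σ.character ((g * z)⁻¹)
      = ∑ i : Fin n, ∑ a : Fin m,
          ρ g (cosetAvg Z ρ σ (unitMap n m i a) (σ g⁻¹ (Pi.single a 1))) i := by
  have h1 : ∀ z : Z, ρ.character (g * z) * σ.character ((g * z)⁻¹)
      = ∑ i : Fin n, ∑ a : Fin m,
          (ρ (g * z) ∘ₗ unitMap n m i a ∘ₗ σ (g * z)⁻¹) (Pi.single a 1) i := by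
    intro z
    rw [sum_unitMap_sandwich]
    rfl
  rw [Finset.sum_congr rfl (fun z _ => h1 z), Finset.sum_comm]
  apply Finset.sum_congr rfl
  intro i _
  rw [Finset.sum_comm]
  apply Finset.sum_congr rfl
  intro a _
  rw [← sandwich_sum, Finset.sum_apply]

/-- coset orthogonality: no `Z`-intertwiners -/
theorem coset_orth_zero (ρ : Representation ℂ K (Fin n → ℂ))
    (σ : Representation ℂ K (Fin m → ℂ))
    (hno : ∀ T : (Fin m → ℂ) →ₗ[ℂ] (Fin n → ℂ),
      (∀ z : Z, ρ (z : K) ∘ₗ T = T ∘ₗ σ (z : K)) → T = 0) (g : K) :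
    ∑ z : Z, ρ.character (g * z) * σ.character ((g * z)⁻¹) = 0 := by
  rw [sum_char_sandwich]
  apply Finset.sum_eq_zero
  intro i _
  apply Finset.sum_eq_zero
  intro a _
  rw [hno _ (cosetAvg_comm Z ρ σ (unitMap n m i a))]
  simp

/-- coset norm: irreducible restriction -/
theorem coset_norm (ρ : Representation ℂ K (Fin n → ℂ))
    (hirr : Representation.IsIrreducible (ρ.comp Z.subtype)) (g : K) :
    ∑ z : Z, ρ.character (g * z) * ρ.character ((g * z)⁻¹) = (Nat.card Z : ℂ) := by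
  classical
  have hn : (n : ℂ) ≠ 0 := by
    have := finrank_pos_of_irreducible (ρ.comp Z.subtype)
    rw [Module.finrank_fin_fun] at this
    exact_mod_cast this.ne'
  have hsc : ∀ T : (Fin n → ℂ) →ₗ[ℂ] (Fin n → ℂ),
      cosetAvg Z ρ ρ T = ((n : ℂ)⁻¹ * ((Nat.card Z : ℂ) * LinearMap.trace ℂ _ T)) • LinearMap.id := by
    intro T
    obtain ⟨c, hc⟩ := schur_scalar (ρ.comp Z.subtype) (cosetAvg Z ρ ρ T)
      (fun y => (cosetAvg_comm Z ρ ρ T y).symm)
    have htr : LinearMap.trace ℂ _ (cosetAvg Z ρ ρ T) = (Nat.card Z : ℂ) * LinearMap.trace ℂ _ T := by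
      unfold cosetAvg
      rw [map_sum]
      have : ∀ z : Z, LinearMap.trace ℂ _ (ρ (z : K) ∘ₗ T ∘ₗ ρ (z : K)⁻¹) = LinearMap.trace ℂ _ T := by
        intro z
        have h1 := LinearMap.trace_mul_comm ℂ (ρ (z : K)) (T * ρ (z : K)⁻¹)
        have h2 : T * ρ (z : K)⁻¹ * ρ (z : K) = T := by
          rw [mul_assoc, ← map_mul, inv_mul_cancel, map_one, mul_one]
        rw [h2] at h1
        exact h1
      rw [Finset.sum_congr rfl (fun z _ => this z)]
      simp [Nat.card_eq_fintype_card]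
    rw [hc] at htr ⊢
    rw [map_smul, LinearMap.trace_id, Module.finrank_fin_fun, smul_eq_mul] at htr
    congr 1
    rw [← htr]
    field_simp
  rw [sum_char_sandwich]
  have h2 : ∀ i a : Fin n,
      ρ g (cosetAvg Z ρ ρ (unitMap n n i a) (ρ g⁻¹ (Pi.single a 1))) i
        = if i = a then (n : ℂ)⁻¹ * (Nat.card Z : ℂ) else 0 := by
    intro i a
    rw [hsc]
    have htr : LinearMap.trace ℂ _ (unitMap n n i a) = if i = a then 1 else 0 := by
      rw [trace_eq_sum_single]
      simp [unitMap_apply, Pi.single_apply, eq_comm]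
    rw [htr]
    simp only [LinearMap.smul_apply, LinearMap.id_apply, map_smul, Pi.smul_apply, smul_eq_mul]
    rw [← Module.End.mul_apply, ← map_mul, mul_inv_cancel, map_one, Module.End.one_apply]
    by_cases hia : i = a
    · subst hia; simp
    · simp [hia]
  simp_rw [h2]
  simp
  field_simp

theorem sum_subgroup_ite' {G : Type u} [Group G] [Fintype G] (H : Subgroup G) [Fintype H]
    (F : G → ℂ) [DecidablePred (fun g : G => g ∈ H)] :
    ∑ y : H, F y = ∑ g : G, if g ∈ H then F g else 0 := by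
  rw [← Finset.sum_filter]
  exact (Finset.sum_subtype (Finset.univ.filter (· ∈ H)) (by simp) F).symm

theorem sum_coset_ite (g : K) (F : K → ℂ) [DecidablePred (fun k : K => k ∈ Z)] :
    ∑ k : K, (if g⁻¹ * k ∈ Z then F k else 0) = ∑ z : Z, F (g * z) := by
  rw [sum_subgroup_ite' Z (fun k => F (g * k))]
  refine (Fintype.sum_equiv (Equiv.mulLeft g) _ _ (fun k => ?_)).symm
  simp

/-- no nonzero intertwiner when the characters are orthogonal -/
theorem no_intertwiner_of_inner_zero {N : Type u} [Group N] [Fintype N] {n m : ℕ}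
    (ρ : Representation ℂ N (Fin n → ℂ)) (σ : Representation ℂ N (Fin m → ℂ))
    (h : classInner ρ.character σ.character = 0)
    (T : (Fin m → ℂ) →ₗ[ℂ] (Fin n → ℂ)) (hT : ∀ z : N, ρ z ∘ₗ T = T ∘ₗ σ z) : T = 0 := by
  have h1 := classInner_char_eq_finrank_intertwining σ ρ
  rw [h] at h1
  have h2 : Module.finrank ℂ (Representation.IntertwiningMap σ ρ) = 0 := by exact_mod_cast h1.symm
  let ι : Representation.IntertwiningMap σ ρ →ₗ[ℂ] ((Fin m → ℂ) →ₗ[ℂ] (Fin n → ℂ)) :=
    { toFun := fun f => f.toLinearMap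
      map_add' := fun _ _ => rfl
      map_smul' := fun _ _ => rfl }
  haveI : FiniteDimensional ℂ (Representation.IntertwiningMap σ ρ) :=
    FiniteDimensional.of_injective ι (Representation.IntertwiningMap.toLinearMap_injective σ ρ)
  haveI : Subsingleton (Representation.IntertwiningMap σ ρ) := Module.finrank_zero_iff.mp h2
  let f : Representation.IntertwiningMap σ ρ := ⟨T, fun z => (hT z).symm⟩
  have hf : f = 0 := Subsingleton.elim _ _
  have := congrArg Representation.IntertwiningMap.toLinearMap hf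
  exact this

/-- S4565 -/
theorem fully_ramified_no_self_centralizing_cyclic {H : Type u} [Group H] [Finite H] (Z : Subgroup H) [hZn : Z.Normal] (χ : IrrCharacter H) (hfr : ∃ (θ : IrrCharacter ↥Z) (e : ℕ), e ^ 2 = Z.index ∧ ∀ z : ↥Z, (χ : H → ℂ) z = (e : ℂ) * (θ : ↥Z → ℂ) z) (hZ : Z ≠ ⊤) (C : Subgroup (H ⧸ Z)) (hC : IsCyclic C) : Subgroup.centralizer (C : Set (H ⧸ Z)) ≠ C := by
  classical
  haveI : Fintype H := Fintype.ofFinite H
  haveI : Fintype Z := Fintype.ofFinite Z
  obtain ⟨θ, e, he, hχZ⟩ := hfr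
  intro hcen
  have he0 : e ≠ 0 := by
    rintro rfl
    have : Z.index ≠ 0 := Subgroup.index_ne_zero_of_finite
    exact this (by simpa using he.symm)
  have hres : (fun z : Z => χ.1 z) = (e : ℂ) • θ.1 := by
    funext z
    simp [hχZ z]
  have hcon : classInner (fun z : Z => χ.1 z) θ.1 ≠ 0 := by
    rw [hres, classInner_smul_left, irr_orthonormal θ θ]
    simp [he0]
  obtain ⟨hA, hB⟩ := fully_ramified_iff Z χ.1 χ.2 θ.1 θ.2 hcon
  have hex : ∃ e : ℕ, (fun n : Z => χ.1 n) = (e : ℂ) • θ.1 ∧ e ^ 2 = Z.index := ⟨e, hres, he⟩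
  obtain ⟨hvan, hinv⟩ := hA.mp hex
  have huniq : ∀ ψ : IrrCharacter H, ψ ≠ χ → classInner θ.1 (fun z : Z => ψ.1 z) = 0 := by
    intro ψ hψ
    rw [← frobenius_reciprocity Z θ.1 (isClassFunction_irr ψ)]
    by_contra h
    exact hψ (Subtype.ext (((hB.mp hex) 1 1).2 ψ.1 ψ.2 h))
  -- generator of C
  obtain ⟨c, hc⟩ := hC.exists_generator
  obtain ⟨g, hg⟩ := QuotientGroup.mk_surjective (c : H ⧸ Z)
  have hCz : ∀ x ∈ C, ∃ i : ℤ, x = (QuotientGroup.mk g : H ⧸ Z) ^ i := by
    intro x hx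
    obtain ⟨i, hi⟩ := Subgroup.mem_zpowers_iff.mp (hc ⟨x, hx⟩)
    refine ⟨i, ?_⟩
    have h1 := congrArg Subtype.val hi
    rw [hg]
    simpa using h1.symm
  have hgC : (QuotientGroup.mk g : H ⧸ Z) ∈ C := by rw [hg]; exact c.2
  have hgZ : g ∉ Z := by
    intro hgZ
    have h1 : (QuotientGroup.mk g : H ⧸ Z) = 1 := (QuotientGroup.eq_one_iff g).mpr hgZ
    have hCbot : C = ⊥ := by
      rw [eq_bot_iff]
      intro x hx
      obtain ⟨i, rfl⟩ := hCz x hx
      rw [h1]; simp
    rw [hCbot] at hcen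
    apply hZ
    rw [eq_top_iff]
    intro x _
    have hx : (QuotientGroup.mk x : H ⧸ Z) ∈
        Subgroup.centralizer (((⊥ : Subgroup (H ⧸ Z)) : Set (H ⧸ Z))) := by
      rw [Subgroup.mem_centralizer_iff]
      intro y hy
      have hy1 : y = 1 := hy
      rw [hy1]; simp
    rw [hcen] at hx
    exact (QuotientGroup.eq_one_iff x).mp hx
  set K : Subgroup H := C.comap (QuotientGroup.mk' Z) with hKdef
  have hmemK : ∀ x : H, x ∈ K ↔ (QuotientGroup.mk x : H ⧸ Z) ∈ C := fun x => Iff.rfl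
  have hZK : Z ≤ K := by
    intro z hz
    rw [hmemK, (QuotientGroup.eq_one_iff z).mpr hz]
    exact C.one_mem
  have hgK : g ∈ K := hgC
  have hQ1 : ∀ x ∈ K, (QuotientGroup.mk x : H ⧸ Z) * QuotientGroup.mk g
      = QuotientGroup.mk g * QuotientGroup.mk x := by
    intro x hx
    obtain ⟨i, hi⟩ := hCz _ ((hmemK x).mp hx)
    rw [hi]
    exact ((Commute.refl _).zpow_left i).eq
  have hQ2 : ∀ x : H, (QuotientGroup.mk x : H ⧸ Z) * QuotientGroup.mk g
      = QuotientGroup.mk g * QuotientGroup.mk x → x ∈ K := by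
    intro x hx
    rw [hmemK, ← hcen, Subgroup.mem_centralizer_iff]
    intro y hy
    obtain ⟨i, rfl⟩ := hCz y hy
    exact (Commute.zpow_left (show Commute (QuotientGroup.mk g : H ⧸ Z) (QuotientGroup.mk x)
      from hx.symm) i).eq
  haveI : Fintype K := Fintype.ofFinite K
  let Z' : Subgroup K := Z.subgroupOf K
  haveI : Fintype Z' := Fintype.ofFinite Z'
  let g' : K := ⟨g, hgK⟩
  have hcyc : IsCyclic (K ⧸ Z') := by
    refine ⟨⟨QuotientGroup.mk g', fun q => ?_⟩⟩
    induction q using QuotientGroup.induction_on with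
    | H k =>
      obtain ⟨i, hi⟩ := hCz _ ((hmemK k).mp k.2)
      refine ⟨i, ?_⟩
      show (QuotientGroup.mk g' : K ⧸ Z') ^ i = QuotientGroup.mk k
      rw [← QuotientGroup.mk_zpow, QuotientGroup.eq]
      show ((g' ^ i)⁻¹ * k : K) ∈ Z.subgroupOf K
      rw [Subgroup.mem_subgroupOf]
      have h1 : ((QuotientGroup.mk (g ^ i) : H ⧸ Z)) = QuotientGroup.mk (k : H) := by
        rw [QuotientGroup.mk_zpow]; exact hi.symm
      have h2 := QuotientGroup.eq.mp h1
      simpa [g'] using h2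
  let θ' : Z' → ℂ := fun z => θ.1 ⟨((z : K) : H), Subgroup.mem_subgroupOf.mp z.2⟩
  have hθ' : IsIrrCharacter Z' θ' :=
    isIrrCharacter_comp_equiv (Subgroup.subgroupOfEquivOfLe hZK) θ.2
  obtain ⟨φ, hφirr, hφZ⟩ := exists_irr_extension_cyclic Z' hcyc θ' hθ'
    (fun k z => hinv (k : H) ⟨((z : K) : H), Subgroup.mem_subgroupOf.mp z.2⟩)
  have hφcf : IsClassFunction K φ := isClassFunction_irr (⟨φ, hφirr⟩ : IrrCharacter K)
  obtain ⟨n, ρ, hρirr, hρchar⟩ := hφirr
  let ρZ : Representation ℂ Z' (Fin n → ℂ) := ρ.comp Z'.subtype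
  have hρZ : ρZ.character = θ' := by
    funext z
    have := congrFun hρchar (z : K)
    rw [← hφZ z, ← this]
    rfl
  have hirrZ : Representation.IsIrreducible ρZ :=
    isIrreducible_of_character ρZ (by rw [hρZ]; exact hθ')
  have hnorm := coset_norm Z' ρ hirrZ g'
  let β : K → ℂ := fun k => if g'⁻¹ * k ∈ Z' then φ k else 0
  have hΩ0 : indFun K β = 0 := by
    apply classFunction_eq_zero_of_inner (indFun_isClassFunction K β)
    intro ψ
    rw [frobenius_reciprocity K β (isClassFunction_irr ψ)]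
    unfold classInner
    have hsum : ∑ k : K, β k * conj (ψ.1 k)
        = ∑ z : Z', φ (g' * z) * conj (ψ.1 ((g' * z : K) : H)) := by
      rw [← sum_coset_ite Z' g' (fun k => φ k * conj (ψ.1 (k : H)))]
      apply Finset.sum_congr rfl
      intro k _
      simp only [β]
      split_ifs <;> simp
    rw [hsum]
    by_cases hψ : ψ = χ
    · rw [Finset.sum_eq_zero, mul_zero]
      intro z _
      have h3 : ψ.1 ((g' * z : K) : H) = 0 := by
        rw [hψ]
        apply hvan
        intro hmem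
        have hz : ((z : K) : H) ∈ Z := Subgroup.mem_subgroupOf.mp z.2
        have h4 : g ∈ Z := by
          have h5 := Z.mul_mem hmem (Z.inv_mem hz)
          simpa [g'] using h5
        exact hgZ h4
      rw [h3]; simp
    · obtain ⟨m, σH, hσirr, hσchar⟩ := ψ.2
      let σ : Representation ℂ K (Fin m → ℂ) := σH.comp K.subtype
      have hσ : ∀ k : K, σ.character k = ψ.1 (k : H) := fun k => congrFun hσchar (k : H)
      have hno : ∀ T : (Fin m → ℂ) →ₗ[ℂ] (Fin n → ℂ),
          (∀ z : Z', ρ (z : K) ∘ₗ T = T ∘ₗ σ (z : K)) → T = 0 := by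
        intro T hT
        let σZ : Representation ℂ Z' (Fin m → ℂ) := σ.comp Z'.subtype
        apply no_intertwiner_of_inner_zero ρZ σZ ?_ T hT
        rw [hρZ]
        have h5 : σZ.character
            = (fun z : Z => ψ.1 z) ∘ (Subgroup.subgroupOfEquivOfLe hZK) := by
          funext z
          exact hσ (z : K)
        rw [h5]
        exact (classInner_comp_equiv (Subgroup.subgroupOfEquivOfLe hZK) θ.1
          (fun z : Z => ψ.1 z)).trans (huniq ψ hψ)
      have h6 := coset_orth_zero Z' ρ σ hno g'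
      have h7 : ∑ z : Z', φ (g' * z) * conj (ψ.1 ((g' * z : K) : H))
          = ∑ z : Z', ρ.character (g' * z) * σ.character ((g' * z)⁻¹) := by
        apply Finset.sum_congr rfl
        intro z _
        rw [hσ, congrFun hρchar]
        congr 1
        rw [← irr_inv]
        rfl
      rw [h7, h6, mul_zero]
  have hval : ∀ z : Z', indFun K β ((g' * z : K) : H) = φ (g' * z) := by
    intro z
    have hz : ((z : K) : H) ∈ Z := Subgroup.mem_subgroupOf.mp z.2
    have hz1 : (QuotientGroup.mk ((z : K) : H) : H ⧸ Z) = 1 := (QuotientGroup.eq_one_iff _).mpr hz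
    unfold indFun
    have hterm : ∀ x : H, extendByZero K β (x⁻¹ * ((g' * z : K) : H) * x)
        = if x ∈ K then φ (g' * z) else 0 := by
      intro x
      by_cases hx : x ∈ K
      · rw [if_pos hx]
        have hmem : x⁻¹ * ((g' * z : K) : H) * x ∈ K :=
          K.mul_mem (K.mul_mem (K.inv_mem hx) (g' * z).2) hx
        rw [extendByZero_apply_mem K β hmem]
        simp only [β]
        have hcond : g'⁻¹ * (⟨x⁻¹ * ((g' * z : K) : H) * x, hmem⟩ : K) ∈ Z' := by
          rw [Subgroup.mem_subgroupOf]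
          rw [← QuotientGroup.eq_one_iff]
          have hab := hQ1 x hx
          simp only [Subgroup.coe_mul, Subgroup.coe_inv, QuotientGroup.mk_mul,
            QuotientGroup.mk_inv, g', hz1, mul_one]
          rw [mul_assoc (QuotientGroup.mk x : H ⧸ Z)⁻¹, ← hab, inv_mul_cancel_left,
            inv_mul_cancel]
        rw [if_pos hcond]
        have h9 := hφcf (g' * z) ((⟨x, hx⟩ : K)⁻¹)
        rw [← h9]
        congr 1
        apply Subtype.ext
        simp
      · rw [if_neg hx]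
        by_cases hmem : x⁻¹ * ((g' * z : K) : H) * x ∈ K
        · rw [extendByZero_apply_mem K β hmem]
          simp only [β]
          rw [if_neg]
          intro hcond
          apply hx
          apply hQ2
          rw [Subgroup.mem_subgroupOf, ← QuotientGroup.eq_one_iff] at hcond
          simp only [Subgroup.coe_mul, Subgroup.coe_inv, QuotientGroup.mk_mul,
            QuotientGroup.mk_inv, g', hz1, mul_one] at hcond
          have h10 : (QuotientGroup.mk g : H ⧸ Z)
              = (QuotientGroup.mk x)⁻¹ * QuotientGroup.mk g * QuotientGroup.mk x :=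
            inv_mul_eq_one.mp hcond
          calc (QuotientGroup.mk x : H ⧸ Z) * QuotientGroup.mk g
              = QuotientGroup.mk x * ((QuotientGroup.mk x)⁻¹ * QuotientGroup.mk g
                  * QuotientGroup.mk x) := by rw [← h10]
            _ = QuotientGroup.mk g * QuotientGroup.mk x := by group
        · exact extendByZero_apply_not_mem K β hmem
    rw [Finset.sum_congr rfl (fun x _ => hterm x), ← sum_subgroup_ite' K (fun _ => φ (g' * z))]
    have hK0 : (Nat.card K : ℂ) ≠ 0 := by exact_mod_cast Nat.card_pos.ne'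
    simp only [Finset.sum_const, Finset.card_univ, nsmul_eq_mul, ← Nat.card_eq_fintype_card]
    field_simp
  have hzero : ∑ z : Z', ρ.character (g' * z) * ρ.character ((g' * z)⁻¹) = 0 := by
    apply Finset.sum_eq_zero
    intro z _
    have h8 : ρ.character (g' * z) = 0 := by
      rw [congrFun hρchar, ← hval z, hΩ0]; rfl
    rw [h8, zero_mul]
  rw [hzero] at hnorm
  have hpos : (Nat.card Z' : ℂ) ≠ 0 := by exact_mod_cast Nat.card_pos.ne'
  exact hpos hnorm.symm

end FullRam

end Cfsg.Agent.Lib.helper24
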