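import Cfsg.Agent.Lib.helper24.GlaubBelow
import Cfsg.Agent.Lib.helper24.CharGallagher2
import Cfsg.Agent.Lib.helper24.CharRamified

set_option autoImplicit false

namespace Cfsg.Agent.Lib.helper24
open Cfsg
open Cfsg.Agent.Lib.helper23 Cfsg.Agent.Lib.helper5
open scoped ComplexConjugate

universe u v

/-- twisting by linear characters of an abelian quotient is transitive on the irreducible
characters lying over an invariant irreducible character -/
theorem exists_twist_of_over {G : Type u} [Group G] [Fintype G] (N : Subgroup G) [hN : N.Normal]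
    [Fintype N] (hab : commutator G ≤ N) (θ : IrrCharacter N)
    (hinv : ∀ (g : G) (n : N), θ.1 ⟨g * n * g⁻¹, hN.conj_mem (n : G) n.2 g⟩ = θ.1 n)
    (χ χ' : IrrCharacter G) (hχ : classInner (fun n : N => χ.1 n) θ.1 ≠ 0)
    (hχ' : classInner (fun n : N => χ'.1 n) θ.1 ≠ 0) :
    ∃ f : G ⧸ N →* ℂˣ, ∀ g : G, χ'.1 g = (f (QuotientGroup.mk g) : ℂ) * χ.1 g := by
  classical
  haveI : Fintype (IrrCharacter G) := Fintype.ofFinite _
  have hr' := restrict_eq_smul_of_invariant N χ'.1 χ'.2 θ.1 θ.2 hχ' hinv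
  have h1 : classInner (fun n : N => χ.1 n) (fun n : N => χ'.1 n) ≠ 0 := by
    rw [hr', classInner_smul_right]
    exact mul_ne_zero ((map_ne_zero _).2 hχ') hχ
  have h2 : classInner (indFun N (fun n : N => χ.1 n)) χ'.1 ≠ 0 := by
    rw [frobenius_reciprocity N _ (isClassFunction_irr χ')]
    exact h1
  have h3 : indFun N (fun n : N => χ.1 n) = indFun N (fun _ => (1 : ℂ)) * χ.1 := by
    have := indFun_mul_restrict N (fun _ => (1 : ℂ)) (isClassFunction_irr χ)
    rw [← this]
    congr 1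
    funext n
    simp
  have h4 : indFun N (fun _ => (1 : ℂ))
      = ∑ β : IrrCharacter G, classInner (indFun N (fun _ => (1 : ℂ))) β.1 • β.1 :=
    classFunction_expansion (isCharacter_conj_class (isCharacter_indFun N isCharacter_trivial))
  have h5 : classInner (indFun N (fun n : N => χ.1 n)) χ'.1
      = ∑ β : IrrCharacter G, classInner (indFun N (fun _ => (1 : ℂ))) β.1
          * classInner (β.1 * χ.1) χ'.1 := by
    rw [h3]
    conv_lhs => rw [h4]
    rw [Finset.sum_mul, classInner_sum_left]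
    refine Finset.sum_congr rfl (fun β _ => ?_)
    rw [smul_mul_assoc, classInner_smul_left]
  rw [h5] at h2
  obtain ⟨β, -, hβ⟩ := Finset.exists_ne_zero_of_sum_ne_zero h2
  have hβ1 : classInner (indFun N (fun _ => (1 : ℂ))) β.1 ≠ 0 := left_ne_zero_of_mul hβ
  have hβ2 : classInner (β.1 * χ.1) χ'.1 ≠ 0 := right_ne_zero_of_mul hβ
  have hker : ∀ n ∈ N, β.1 n = β.1 1 := (inner_indFun_one_ne_zero_iff N β).1 hβ1
  have hlin : β.1 1 = 1 := irr_linear_of_commutator_le_ker β.2 (fun k hk => hker k (hab hk))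
  obtain ⟨f₀, hf₀⟩ := exists_hom_of_linear (isCharacter_irr β) hlin
  have hf₀N : N ≤ f₀.ker := by
    intro n hn
    rw [MonoidHom.mem_ker]
    apply Units.ext
    rw [← hf₀, hker n hn, hlin]; rfl
  refine ⟨QuotientGroup.lift N f₀ hf₀N, ?_⟩
  have hirr : IsIrrCharacter G (fun g => (f₀ g : ℂ) * χ.1 g) := isIrrCharacter_hom_mul f₀ χ.2
  have heq : β.1 * χ.1 = fun g => (f₀ g : ℂ) * χ.1 g := by
    funext g
    rw [Pi.mul_apply, hf₀]
  rw [heq] at hβ2
  have h6 := irr_eq_of_inner_ne_zero (χ := ⟨_, hirr⟩) (ψ := χ') hβ2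
  intro g
  rw [← h6]
  rfl

/-- the action on the linear characters induced by an action on the group -/
def homAct {Q : Type u} [Group Q] {A : Type v} [Group A] (ρ : A →* MulAut Q) :
    A →* MulAut (Q →* ℂˣ) where
  toFun a :=
    { toFun := fun f => f.comp (ρ a⁻¹).toMonoidHom
      invFun := fun f => f.comp (ρ a).toMonoidHom
      left_inv := fun f => MonoidHom.ext fun q => by
        show f (ρ a⁻¹ (ρ a q)) = f q
        rw [← MulAut.mul_apply, ← map_mul, inv_mul_cancel, map_one]; rfl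
      right_inv := fun f => MonoidHom.ext fun q => by
        show f (ρ a (ρ a⁻¹ q)) = f q
        rw [← MulAut.mul_apply, ← map_mul, mul_inv_cancel, map_one]; rfl
      map_mul' := fun f f' => rfl }
  map_one' := MulEquiv.ext fun f => MonoidHom.ext fun q => by
    show f (ρ 1⁻¹ q) = f q
    rw [inv_one, map_one]; rfl
  map_mul' := fun a b => MulEquiv.ext fun f => MonoidHom.ext fun q => by
    show f (ρ (a * b)⁻¹ q) = f (ρ b⁻¹ (ρ a⁻¹ q))
    rw [mul_inv_rev, map_mul]; rfl

/-- the case of an abelian quotient and an invariant character -/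
theorem exists_inv_over_abelian {A : Type v} [Group A] [Finite A] {G : Type u} [Group G]
    [Finite G] (φ : A →* MulAut G) (N : Subgroup G) [hN : N.Normal]
    (hNs : ∀ a, ∀ n ∈ N, φ a n ∈ N) (hcop : (N.index).Coprime (Nat.card A))
    (hab : commutator G ≤ N) [Fintype N] (θ : IrrCharacter N)
    (hθ : IsInvFun (subAct φ N hNs) θ.1)
    (hinv : ∀ (g : G) (n : N), θ.1 ⟨g * n * g⁻¹, hN.conj_mem (n : G) n.2 g⟩ = θ.1 n) :
    ∃ χ : IrrCharacter G, IsInvFun φ χ.1 ∧ classInner (fun n : N => χ.1 n) θ.1 ≠ 0 := by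
  classical
  haveI : Fintype G := Fintype.ofFinite G
  let _ : MulAction (G ⧸ N →* ℂˣ) (IrrCharacter G) :=
    { smul := fun f χ => ⟨fun g => (f (QuotientGroup.mk g) : ℂ) * χ.1 g,
        isIrrCharacter_hom_mul (f.comp (QuotientGroup.mk' N)) χ.2⟩
      one_smul := fun χ => Subtype.ext (funext fun g => by
        show (((1 : G ⧸ N →* ℂˣ) (QuotientGroup.mk g) : ℂˣ) : ℂ) * χ.1 g = χ.1 g
        simp)
      mul_smul := fun f f' χ => Subtype.ext (funext fun g => by
        show (((f * f') (QuotientGroup.mk g) : ℂˣ) : ℂ) * χ.1 g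
          = (f (QuotientGroup.mk g) : ℂ) * ((f' (QuotientGroup.mk g) : ℂ) * χ.1 g)
        rw [MonoidHom.mul_apply, Units.val_mul, mul_assoc]) }
  let _ : MulAction A (IrrCharacter G) := MulAction.compHom _ (irrPerm φ)
  have hcompat : ∀ (a : A) (f : G ⧸ N →* ℂˣ) (χ : IrrCharacter G),
      a • f • χ = (homAct (quotAut φ N hNs) a f) • a • χ := by
    intro a f χ
    apply Subtype.ext
    funext g
    rfl
  have hcopK : (Nat.card A).Coprime (Nat.card (G ⧸ N →* ℂˣ)) := by
    apply Nat.Coprime.symm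
    apply Nat.coprime_of_dvd
    intro p hp hpK hpA
    haveI : Fact p.Prime := ⟨hp⟩
    obtain ⟨f, hf⟩ := exists_prime_orderOf_dvd_card' p hpK
    have hfm : f ^ (Nat.card (G ⧸ N)) = 1 := by
      apply MonoidHom.ext
      intro q
      rw [MonoidHom.pow_apply, ← map_pow, pow_card_eq_one', map_one]; rfl
    have hdvd : p ∣ Nat.card (G ⧸ N) := hf ▸ orderOf_dvd_of_pow_eq_one hfm
    rw [← Subgroup.index_eq_card] at hdvd
    have := Nat.dvd_gcd hdvd hpA
    rw [Nat.Coprime.gcd_eq_one hcop] at this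
    exact hp.one_lt.ne' (Nat.dvd_one.1 this)
  obtain ⟨χ₀, hχ₀⟩ := Cfsg.Agent.Lib.helper22.exists_irr_over N θ.2
  have hconA : ∀ (a : A) (χ : IrrCharacter G),
      classInner (fun n : N => (a • χ).1 n) θ.1 = classInner (fun n : N => χ.1 n) θ.1 := by
    intro a χ
    have h1 := classInner_comp_equiv (subAct φ N hNs a⁻¹) (fun n : N => χ.1 n) θ.1
    have h2 : θ.1 ∘ (subAct φ N hNs a⁻¹) = θ.1 := funext fun n => hθ a⁻¹ n
    rw [h2] at h1
    exact h1
  have hx : ∀ a : A, ∃ f : G ⧸ N →* ℂˣ, a • χ₀ = f • χ₀ := by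
    intro a
    have hc : classInner (fun n : N => (a • χ₀).1 n) θ.1 ≠ 0 := by
      rw [hconA]; exact hχ₀
    obtain ⟨f, hf⟩ := exists_twist_of_over N hab θ hinv χ₀ (a • χ₀) hχ₀ hc
    exact ⟨f, Subtype.ext (funext hf)⟩
  obtain ⟨f, hf⟩ := glauberman_lemma (homAct (quotAut φ N hNs)) hcompat hcopK
    (Or.inr inferInstance) χ₀ hx
  refine ⟨f • χ₀, ?_, ?_⟩
  · intro a g
    have h1 := congrArg (fun t : IrrCharacter G => t.1 g) (hf a⁻¹)
    have h2 : (a⁻¹ • f • χ₀).1 g = (f • χ₀).1 (φ a⁻¹⁻¹ g) := rfl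
    rw [inv_inv] at h2
    exact h2.symm.trans h1
  · have h3 : (fun n : N => (f • χ₀).1 n) = fun n : N => χ₀.1 n := by
      funext n
      show (f (QuotientGroup.mk (n : G)) : ℂ) * χ₀.1 n = χ₀.1 n
      rw [(QuotientGroup.eq_one_iff (n : G)).2 n.2, map_one]; simp
    rw [h3]; exact hχ₀

/-- induction commutes with automorphisms stabilising the subgroup and the function -/
theorem indFun_comp_aut {G : Type u} [Group G] [Fintype G] (σ : MulAut G) (H : Subgroup G)
    (hH : ∀ h ∈ H, σ h ∈ H) (hH' : ∀ h ∈ H, σ.symm h ∈ H) (θ : H → ℂ)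
    (hθ : ∀ h : H, θ ⟨σ h, hH h h.2⟩ = θ h) (g : G) : indFun H θ (σ g) = indFun H θ g := by
  unfold indFun
  congr 1
  symm
  refine Fintype.sum_equiv σ.toEquiv _ _ (fun y => ?_)
  show extendByZero H θ (y⁻¹ * g * y) = extendByZero H θ ((σ y)⁻¹ * σ g * σ y)
  have e : (σ y)⁻¹ * σ g * σ y = σ (y⁻¹ * g * y) := by
    rw [map_mul, map_mul, map_inv]
  rw [e]
  by_cases hz : y⁻¹ * g * y ∈ H
  · rw [extendByZero_apply_mem H θ hz, extendByZero_apply_mem H θ (hH _ hz)]
    exact (hθ ⟨_, hz⟩).symm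
  · have hz' : σ (y⁻¹ * g * y) ∉ H := by
      intro h
      apply hz
      have := hH' _ h
      rwa [MulEquiv.symm_apply_apply] at this
    rw [extendByZero_apply_not_mem H θ hz, extendByZero_apply_not_mem H θ hz']

/-- lying over is transitive -/
theorem over_trans {G : Type u} [Group G] [Fintype G] (M : Subgroup G) [Fintype M]
    (N : Subgroup G) (hNM : N ≤ M) [Fintype N] (χ : IrrCharacter G) (ψ : IrrCharacter M)
    (θ : IrrCharacter N) (h1 : classInner (fun x : M => χ.1 x) ψ.1 ≠ 0)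
    (h2 : classInner (fun n : N => ψ.1 ⟨n, hNM n.2⟩) θ.1 ≠ 0) :
    classInner (fun n : N => χ.1 n) θ.1 ≠ 0 := by
  classical
  haveI : Fintype (IrrCharacter M) := Fintype.ofFinite _
  have hex_a : ∀ ψ' : IrrCharacter M, ∃ k : ℕ, classInner (fun x : M => χ.1 x) ψ'.1 = k :=
    fun ψ' => isCharacter_inner_irr_nat (isCharacter_restrict M (isCharacter_irr χ)) ψ'
  choose a ha using hex_a
  have hex_b : ∀ ψ' : IrrCharacter M, ∃ k : ℕ,
      classInner (fun n : N => ψ'.1 ⟨n, hNM n.2⟩) θ.1 = k :=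
    fun ψ' => isCharacter_inner_irr_nat
      (isCharacter_comp (Subgroup.inclusion hNM) (isCharacter_irr ψ')) θ
  choose b hb using hex_b
  have hexp : (fun n : N => χ.1 n)
      = ∑ ψ' : IrrCharacter M, (a ψ' : ℂ) • (fun n : N => ψ'.1 ⟨n, hNM n.2⟩) := by
    funext n
    have h := classFunction_expansion_apply (f := fun x : M => χ.1 x)
      (isCharacter_conj_class (isCharacter_restrict M (isCharacter_irr χ))) ⟨n, hNM n.2⟩
    rw [Finset.sum_apply]
    simp only [Pi.smul_apply, smul_eq_mul]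
    refine h.trans ?_
    exact Finset.sum_congr rfl (fun ψ' _ => by rw [ha])
  have hsum : classInner (fun n : N => χ.1 n) θ.1
      = ((∑ ψ' : IrrCharacter M, a ψ' * b ψ' : ℕ) : ℂ) := by
    rw [hexp, classInner_sum_left, Nat.cast_sum]
    refine Finset.sum_congr rfl (fun ψ' _ => ?_)
    rw [classInner_smul_left, hb]; push_cast; ring
  rw [hsum]
  have ha0 : a ψ ≠ 0 := by
    intro h0
    apply h1
    rw [ha ψ, h0]; simp
  have hb0 : b ψ ≠ 0 := by
    intro h0
    apply h2
    rw [hb ψ, h0]; simp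
  have hpos : 0 < ∑ ψ' : IrrCharacter M, a ψ' * b ψ' := by
    have h3 : a ψ * b ψ ≤ ∑ ψ' : IrrCharacter M, a ψ' * b ψ' :=
      Finset.single_le_sum (f := fun ψ' => a ψ' * b ψ') (fun _ _ => Nat.zero_le _)
        (Finset.mem_univ ψ)
    have h4 : 0 < a ψ * b ψ := Nat.mul_pos (Nat.pos_of_ne_zero ha0) (Nat.pos_of_ne_zero hb0)
    omega
  exact_mod_cast hpos.ne'

/-- solvability of a section -/
theorem solvable_sub_quot {G : Type u} [Group G] (N L : Subgroup G) [N.Normal]
    (hsolv : Group.IsSolvable (G ⧸ N)) : Group.IsSolvable (L ⧸ N.subgroupOf L) := by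
  let f : L ⧸ N.subgroupOf L →* G ⧸ N :=
    QuotientGroup.map (N.subgroupOf L) N L.subtype (fun x hx => hx)
  have hf : Function.Injective f := by
    rw [injective_iff_map_eq_one]
    intro q hq
    induction q using QuotientGroup.induction_on with
    | H l =>
      have h1 : f (QuotientGroup.mk l) = QuotientGroup.mk (l : G) := rfl
      rw [h1, QuotientGroup.eq_one_iff] at hq
      exact (QuotientGroup.eq_one_iff l).2 hq
  exact solvable_of_solvable_injective hf

theorem solvable_quot_of_le {G : Type u} [Group G] (N M : Subgroup G) [N.Normal] [M.Normal]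
    (h : N ≤ M) (hsolv : Group.IsSolvable (G ⧸ N)) : Group.IsSolvable (G ⧸ M) := by
  let f : G ⧸ N →* G ⧸ M := QuotientGroup.map N M (MonoidHom.id G) (fun x hx => h hx)
  have hf : Function.Surjective f := by
    intro q
    induction q using QuotientGroup.induction_on with
    | H g => exact ⟨QuotientGroup.mk g, rfl⟩
  exact Group.isSolvable_of_surjective hf

/-- transport of the induction hypothesis to a subgroup containing `N` -/
theorem step_sub {A : Type v} [Group A] {G : Type u} [Group G]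
    (φ : A →* MulAut G) (N : Subgroup G) (hNs : ∀ a, ∀ n ∈ N, φ a n ∈ N) [Fintype N]
    (L : Subgroup G) (hNL : N ≤ L) (hLs : ∀ a, ∀ x ∈ L, φ a x ∈ L) [Fintype L]
    [Fintype (N.subgroupOf L)]
    (hN's : ∀ a, ∀ n ∈ N.subgroupOf L, subAct φ L hLs a n ∈ N.subgroupOf L)
    (θ : IrrCharacter N) (hθ : IsInvFun (subAct φ N hNs) θ.1)
    (hstep : ∀ θ' : IrrCharacter (N.subgroupOf L),
      IsInvFun (subAct (subAct φ L hLs) (N.subgroupOf L) hN's) θ'.1 →
      ∃ ψ : IrrCharacter L, IsInvFun (subAct φ L hLs) ψ.1 ∧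
        classInner (fun n : N.subgroupOf L => ψ.1 n) θ'.1 ≠ 0) :
    ∃ ψ : IrrCharacter L, IsInvFun (subAct φ L hLs) ψ.1 ∧
      classInner (fun n : N => ψ.1 ⟨n, hNL n.2⟩) θ.1 ≠ 0 := by
  obtain ⟨ψ, hψ1, hψ2⟩ := hstep (irrCongr (Subgroup.subgroupOfEquivOfLe hNL) θ) (by
    intro a n
    show θ.1 (Subgroup.subgroupOfEquivOfLe hNL _) = θ.1 (Subgroup.subgroupOfEquivOfLe hNL n)
    exact hθ a (Subgroup.subgroupOfEquivOfLe hNL n))
  refine ⟨ψ, hψ1, ?_⟩
  have h1 := classInner_comp_equiv (Subgroup.subgroupOfEquivOfLe hNL)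
    (fun n : N => ψ.1 ⟨n, hNL n.2⟩) θ.1
  rw [← h1]
  exact hψ2

theorem exists_inv_over_sq_aux {A : Type v} [Group A] [Finite A] : ∀ (m : ℕ) {G : Type u}
    [Group G] [Finite G] (φ : A →* MulAut G) (N : Subgroup G) [hN : N.Normal]
    (hNs : ∀ a, ∀ n ∈ N, φ a n ∈ N) [Fintype N], N.index = m →
    (N.index).Coprime (Nat.card A) → Group.IsSolvable (G ⧸ N) →
    ∀ θ : IrrCharacter N, IsInvFun (subAct φ N hNs) θ.1 →
    ∃ χ : IrrCharacter G, IsInvFun φ χ.1 ∧ classInner (fun n : N => χ.1 n) θ.1 ≠ 0 := by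
  intro m
  induction m using Nat.strong_induction_on with
  | _ m ih =>
  intro G _ _ φ N hN hNs hFN hm hcop hsolv θ hθ
  classical
  haveI : Fintype G := Fintype.ofFinite G
  have hN0 : N.index ≠ 0 := Subgroup.index_ne_zero_of_finite
  have hsub : ∀ (L : Subgroup G) [Fintype L] (hNL : N ≤ L) (hLs : ∀ a, ∀ x ∈ L, φ a x ∈ L),
      L ≠ ⊤ → ∃ ψ : IrrCharacter L, IsInvFun (subAct φ L hLs) ψ.1 ∧
        classInner (fun n : N => ψ.1 ⟨n, hNL n.2⟩) θ.1 ≠ 0 := by
    intro L hFL hNL hLs hLtop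
    haveI : Fintype (N.subgroupOf L) := Fintype.ofFinite _
    have hN's : ∀ a, ∀ n ∈ N.subgroupOf L, subAct φ L hLs a n ∈ N.subgroupOf L :=
      fun a n hn => hNs a n.1 hn
    have hidx : N.relIndex L * L.index = N.index := Subgroup.relIndex_mul_index hNL
    have hL1 : L.index ≠ 1 := fun h => hLtop (Subgroup.index_eq_one.1 h)
    have hL0 : L.index ≠ 0 := Subgroup.index_ne_zero_of_finite
    have hlt : (N.subgroupOf L).index < m := by
      show N.relIndex L < m
      rw [← hm, ← hidx]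
      have h2 : 2 ≤ L.index := by omega
      have h3 : 0 < N.relIndex L := by
        rcases Nat.eq_zero_or_pos (N.relIndex L) with h | h
        · rw [h, zero_mul] at hidx; exact absurd hidx.symm hN0
        · exact h
      nlinarith
    have hcop' : ((N.subgroupOf L).index).Coprime (Nat.card A) :=
      Nat.Coprime.coprime_dvd_left ⟨L.index, hidx.symm⟩ hcop
    apply step_sub φ N hNs L hNL hLs hN's θ hθ
    intro θ' hθ'
    exact ih _ hlt (subAct φ L hLs) (N.subgroupOf L) hN's rfl hcop'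
      (solvable_sub_quot N L hsolv) θ' hθ'
  by_cases hinv : ∀ (g : G) (n : N), θ.1 ⟨g * n * g⁻¹, hN.conj_mem (n : G) n.2 g⟩ = θ.1 n
  · by_cases hab : commutator G ≤ N
    · exact exists_inv_over_abelian φ N hNs hcop hab θ hθ hinv
    · have hNM : N ≤ N ⊔ commutator G := le_sup_left
      have hMtop : N ⊔ commutator G ≠ ⊤ := by
        intro hM
        have hNtop : N ≠ ⊤ := fun h => hab (h ▸ le_top)
        haveI : Nontrivial (G ⧸ N) := by
          by_contra hnt
          rw [not_nontrivial_iff_subsingleton] at hnt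
          exact hNtop (QuotientGroup.subgroup_eq_top_of_subsingleton N hnt)
        haveI := hsolv
        have hlt := IsSolvable.commutator_lt_top_of_nontrivial (G ⧸ N)
        apply hlt.ne
        rw [eq_top_iff]
        calc (⊤ : Subgroup (G ⧸ N)) = (⊤ : Subgroup G).map (QuotientGroup.mk' N) :=
              (Subgroup.map_top_of_surjective _ (QuotientGroup.mk'_surjective N)).symm
          _ = (N ⊔ commutator G).map (QuotientGroup.mk' N) := by rw [hM]
          _ = N.map (QuotientGroup.mk' N) ⊔ (commutator G).map (QuotientGroup.mk' N) :=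
              Subgroup.map_sup _ _ _
          _ ≤ commutator (G ⧸ N) := by
            apply sup_le
            · rw [QuotientGroup.map_mk'_self]; exact bot_le
            · rw [commutator_def, Subgroup.map_commutator, commutator_def]
              exact Subgroup.commutator_mono le_top le_top
      have hMs : ∀ a, ∀ x ∈ N ⊔ commutator G, φ a x ∈ N ⊔ commutator G := by
        intro a x hx
        have h1 : (N ⊔ commutator G).map (φ a).toMonoidHom ≤ N ⊔ commutator G := by
          rw [Subgroup.map_sup]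
          apply sup_le_sup
          · rintro _ ⟨n, hn, rfl⟩
            exact hNs a n hn
          · rw [commutator_def, Subgroup.map_commutator]
            exact Subgroup.commutator_mono le_top le_top
        exact h1 (Subgroup.mem_map_of_mem _ hx)
      haveI : Fintype (N ⊔ commutator G : Subgroup G) := Fintype.ofFinite _
      obtain ⟨ψ, hψinv, hψover⟩ := hsub (N ⊔ commutator G) hNM hMs hMtop
      have hNMne : ¬ (N ⊔ commutator G ≤ N) := fun h => hab (le_trans le_sup_right h)
      have hidx : N.relIndex (N ⊔ commutator G) * (N ⊔ commutator G).index = N.index :=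
        Subgroup.relIndex_mul_index hNM
      have hrel1 : N.relIndex (N ⊔ commutator G) ≠ 1 :=
        fun h => hNMne (Subgroup.relIndex_eq_one.1 h)
      have hM0 : (N ⊔ commutator G).index ≠ 0 := Subgroup.index_ne_zero_of_finite
      have hltM : (N ⊔ commutator G).index < m := by
        rw [← hm, ← hidx]
        have hr0 : N.relIndex (N ⊔ commutator G) ≠ 0 := by
          intro h
          rw [h, zero_mul] at hidx
          exact hN0 hidx.symm
        have h2 : 2 ≤ N.relIndex (N ⊔ commutator G) := by omega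
        nlinarith [Nat.pos_of_ne_zero hM0]
      have hcopM : ((N ⊔ commutator G).index).Coprime (Nat.card A) :=
        Nat.Coprime.coprime_dvd_left ⟨N.relIndex (N ⊔ commutator G), by
          rw [mul_comm]; exact hidx.symm⟩ hcop
      obtain ⟨χ, hχinv, hχover⟩ := ih _ hltM φ (N ⊔ commutator G) hMs rfl hcopM
        (solvable_quot_of_le N (N ⊔ commutator G) hNM hsolv) ψ hψinv
      exact ⟨χ, hχinv, over_trans (N ⊔ commutator G) N hNM χ ψ θ hχover hψover⟩
  · have hTmem : ∀ g : G, g ∈ conjStab N θ.1 ↔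
        ∀ n : N, θ.1 ⟨g * n * g⁻¹, hN.conj_mem (n : G) n.2 g⟩ = θ.1 n := by
      intro g
      rw [mem_conjStab]
      constructor
      · intro h n
        exact congrFun h n
      · intro h
        funext n
        exact h n
    have hNT : N ≤ conjStab N θ.1 := by
      intro n₀ hn₀
      rw [hTmem]
      intro n
      exact isClassFunction_irr θ n ⟨n₀, hn₀⟩
    have hTtop : conjStab N θ.1 ≠ ⊤ := by
      intro h
      apply hinv
      intro g n
      exact (hTmem g).1 (h ▸ Subgroup.mem_top g) n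
    have hTs : ∀ a, ∀ g ∈ conjStab N θ.1, φ a g ∈ conjStab N θ.1 := by
      intro a g hg
      rw [hTmem] at hg ⊢
      intro n
      have e1 : (⟨φ a g * n * (φ a g)⁻¹, hN.conj_mem (n : G) n.2 (φ a g)⟩ : N)
          = subAct φ N hNs a ⟨g * (subAct φ N hNs a⁻¹ n : N) * g⁻¹,
              hN.conj_mem _ (subAct φ N hNs a⁻¹ n).2 g⟩ := by
        apply Subtype.ext
        show φ a g * n * (φ a g)⁻¹ = φ a (g * φ a⁻¹ n * g⁻¹)
        have e2 : φ a (φ a⁻¹ (n : G)) = n := by
          rw [← MulAut.mul_apply, ← map_mul, mul_inv_cancel, map_one]; rfl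
        rw [map_mul, map_mul, e2, map_inv]
      rw [e1, hθ a, hg, hθ a⁻¹]
    haveI : Fintype (conjStab N θ.1) := Fintype.ofFinite _
    haveI : Fintype (IrrCharacter (conjStab N θ.1)) := Fintype.ofFinite _
    obtain ⟨ψ, hψinv, hψover⟩ := hsub (conjStab N θ.1) hNT hTs hTtop
    obtain ⟨c, hc1, hc2, hc3, hc4⟩ := clifford_correspondence N θ.1 θ.2 (conjStab N θ.1) hTmem hNT
    have hcψ : c ψ ≠ 0 := by
      intro h0
      apply hψover
      rw [hc1 ψ, h0]; simp
    have hirr := hc3 ψ hcψ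
    refine ⟨⟨indFun (conjStab N θ.1) ψ.1, hirr⟩, ?_, ?_⟩
    · intro a g
      refine indFun_comp_aut (φ a) (conjStab N θ.1) (hTs a) (fun h hh => ?_) ψ.1 (hψinv a) g
      have e3 : (φ a).symm h = φ a⁻¹ h := by
        rw [map_inv]; rfl
      rw [e3]
      exact hTs a⁻¹ h hh
    · have h1 : classInner (indFun N θ.1) (indFun (conjStab N θ.1) ψ.1) = c ψ := by
        rw [hc2, classInner_sum_left, Finset.sum_eq_single ψ]
        · rw [classInner_smul_left, irr_inner_self ⟨_, hirr⟩, mul_one]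
        · intro ψ' _ hne
          rw [classInner_smul_left]
          by_cases h0 : c ψ' = 0
          · rw [h0]; simp
          · rw [hc4 ψ' ψ h0 hcψ hne, mul_zero]
        · intro h; exact absurd (Finset.mem_univ ψ) h
      have h2 := frobenius_reciprocity N θ.1
        (isCharacter_conj_class (isCharacter_of_isIrrCharacter hirr))
      rw [h1] at h2
      rw [classInner_conj_symm, ← h2]
      simpa using hcψ

/-- **Invariant constituents above an invariant character of a stable normal subgroup with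
solvable quotient of coprime index** (Isaacs 13.28), abstract form. -/
theorem exists_inv_over_sq {A : Type v} [Group A] [Finite A] {G : Type u} [Group G] [Finite G]
    (φ : A →* MulAut G) (N : Subgroup G) [hN : N.Normal] (hNs : ∀ a, ∀ n ∈ N, φ a n ∈ N)
    (hcop : (N.index).Coprime (Nat.card A)) (hsolv : Group.IsSolvable (G ⧸ N)) [Fintype N]
    (θ : IrrCharacter N) (hθ : IsInvFun (subAct φ N hNs) θ.1) :
    ∃ χ : IrrCharacter G, IsInvFun φ χ.1 ∧ classInner (fun n : N => χ.1 n) θ.1 ≠ 0 :=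
  exists_inv_over_sq_aux N.index φ N hNs rfl hcop hsolv θ hθ

/-- subgroup form (S4448) -/
theorem exists_inv_over_sq_subgroups {Γ : Type u} [Group Γ] [Fintype Γ] (G S N : Subgroup Γ)
    [Fintype G] [Fintype N] (hnorm : ∀ s ∈ S, ∀ g ∈ G, s * g * s⁻¹ ∈ G) (hNG : N ≤ G)
    [hNn : (N.subgroupOf G).Normal] (hNS : ∀ s ∈ S, ∀ n ∈ N, s * n * s⁻¹ ∈ N)
    (hcop : (N.relIndex G).Coprime (Nat.card S))
    (hsolv : Group.IsSolvable (G ⧸ N.subgroupOf G)) (θ : IrrCharacter N)
    (hinv : ∀ s ∈ S, ∀ g g' : N, (g' : Γ) = s * g * s⁻¹ → θ.1 g' = θ.1 g) :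
    ∃ χ : IrrCharacter G, classInner (fun n : N => χ.1 ⟨n, hNG n.2⟩) θ.1 ≠ 0 ∧
      (∀ s ∈ S, ∀ g g' : G, (g' : Γ) = s * g * s⁻¹ → χ.1 g' = χ.1 g) := by
  classical
  have hNs : ∀ a : S, ∀ n ∈ N.subgroupOf G, conjAct G S hnorm a n ∈ N.subgroupOf G := by
    intro a n hn
    exact hNS a a.2 n hn
  haveI : Fintype (N.subgroupOf G) := Fintype.ofFinite _
  let θ₀ : IrrCharacter (N.subgroupOf G) := irrCongr (Subgroup.subgroupOfEquivOfLe hNG) θ
  have hθ₀ : IsInvFun (subAct (conjAct G S hnorm) (N.subgroupOf G) hNs) θ₀.1 := by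
    intro a n
    show θ.1 (Subgroup.subgroupOfEquivOfLe hNG _) = θ.1 (Subgroup.subgroupOfEquivOfLe hNG n)
    exact hinv a a.2 _ _ rfl
  obtain ⟨χ, hχinv, hχover⟩ := exists_inv_over_sq (conjAct G S hnorm) (N.subgroupOf G) hNs
    hcop hsolv θ₀ hθ₀
  refine ⟨χ, ?_, (isInvFun_conjAct_iff G S hnorm χ.1).1 hχinv⟩
  have h1 := classInner_comp_equiv (Subgroup.subgroupOfEquivOfLe hNG)
    (fun n : N => χ.1 ⟨n, hNG n.2⟩) θ.1
  rw [← h1]
  exact hχover

end Cfsg.Agent.Lib.helper24
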