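import Cfsg.Agent.Lib.helper8.CoprimeAction

set_option autoImplicit false

namespace Cfsg.Agent.Lib.helper24

universe u v w

/-- **Glauberman's lemma** for two groups acting compatibly on a set: `A` acts on `K` by
automorphisms and both act on `X`, with `a • (k • x) = (a·k) • (a • x)`; coprime orders, one of
them solvable; if the `K`-orbit of `x` is `A`-stable then it contains an `A`-fixed point. -/
theorem glauberman_lemma {K : Type u} {A : Type v} {X : Type w} [Group K] [Group A] [Finite K]
    [Finite A] [MulAction K X] [MulAction A X] (ψ : A →* MulAut K)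
    (hcompat : ∀ (a : A) (k : K) (x : X), a • k • x = (ψ a k) • a • x)
    (hcop : (Nat.card A).Coprime (Nat.card K))
    (hsolv : Group.IsSolvable A ∨ Group.IsSolvable K) (x : X)
    (hx : ∀ a : A, ∃ k : K, a • x = k • x) : ∃ k : K, ∀ a : A, a • k • x = k • x := by
  classical
  let Gs := K ⋊[ψ] A
  haveI : Finite Gs := Finite.of_equiv _ (SemidirectProduct.equivProd (φ := ψ)).symm
  let act : MulAction Gs X :=
    { smul := fun g x => g.left • g.right • x
      one_smul := fun x => by
        show (1 : K) • (1 : A) • x = x
        rw [one_smul, one_smul]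
      mul_smul := fun g h x => by
        show (g.left * ψ g.right h.left) • (g.right * h.right) • x
          = g.left • g.right • h.left • h.right • x
        rw [mul_smul, mul_smul, hcompat] }
  let A' : Subgroup Gs := (SemidirectProduct.inr : A →* Gs).range
  let K' : Subgroup Gs := (SemidirectProduct.inl : K →* Gs).range
  have hKn : K'.Normal := by
    show ((SemidirectProduct.inl : K →* Gs).range).Normal
    rw [SemidirectProduct.range_inl_eq_ker_rightHom]
    infer_instance
  have hAK : A' ≤ Subgroup.normalizer (K' : Set Gs) := by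
    intro a _
    rw [Subgroup.mem_normalizer_iff]
    intro h
    constructor
    · intro hh
      exact hKn.conj_mem h hh a
    · intro hh
      have := hKn.conj_mem _ hh a⁻¹
      have e : a⁻¹ * (a * h * a⁻¹) * a⁻¹⁻¹ = h := by
        rw [inv_inv, mul_assoc, inv_mul_cancel_right, inv_mul_cancel_left]
      rwa [e] at this
  let eA : A ≃* A' := MonoidHom.ofInjective SemidirectProduct.inr_injective
  let eK : K ≃* K' := MonoidHom.ofInjective SemidirectProduct.inl_injective
  have hcop' : (Nat.card A').Coprime (Nat.card K') := by
    rw [← Nat.card_congr eA.toEquiv, ← Nat.card_congr eK.toEquiv]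
    exact hcop
  have hsolv' : Group.IsSolvable A' ∨ Group.IsSolvable K' := by
    rcases hsolv with h | h
    · left
      exact Group.isSolvable_of_surjective (f := eA.toMonoidHom) eA.surjective
    · right
      exact Group.isSolvable_of_surjective (f := eK.toMonoidHom) eK.surjective
  have hsmulA : ∀ (a : A) (y : X), (SemidirectProduct.inr a : Gs) • y = a • y := by
    intro a y
    show (1 : K) • a • y = a • y
    rw [one_smul]
  have hsmulK : ∀ (k : K) (y : X), (SemidirectProduct.inl k : Gs) • y = k • y := by
    intro k y
    show k • (1 : A) • y = k • y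
    rw [one_smul]
  obtain ⟨k', hk', hfix⟩ := Cfsg.Agent.Lib.helper8.fix_internal (X := X) A' K' hAK hcop' hsolv' x
    (by
      rintro _ ⟨a, rfl⟩
      obtain ⟨k, hk⟩ := hx a
      refine ⟨SemidirectProduct.inl k, ⟨k, rfl⟩, ?_⟩
      rw [hsmulA, hsmulK, hk])
  obtain ⟨k, rfl⟩ := hk'
  refine ⟨k, fun a => ?_⟩
  have := hfix (SemidirectProduct.inr a) ⟨a, rfl⟩
  rw [hsmulA, hsmulK] at this
  exact this

end Cfsg.Agent.Lib.helper24
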