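import Cfsg.Agent.Lib.helper24.GlaubOver
import Cfsg.Agent.Lib.helper24.GlaubLemma
import Cfsg.Agent.Lib.helper24.CharChief

set_option autoImplicit false

namespace Cfsg.Agent.Lib.helper24
open Cfsg
open Cfsg.Agent.Lib.helper23 Cfsg.Agent.Lib.helper5
open scoped ComplexConjugate

universe u v

section irrperm

variable {G : Type u} [Group G] {A : Type v} [Group A]

/-- the permutation action on irreducible characters induced by an action on the group -/
def irrPerm (φ : A →* MulAut G) : A →* Equiv.Perm (IrrCharacter G) where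
  toFun a := irrCongr (φ a⁻¹)
  map_one' := Equiv.ext fun χ => Subtype.ext (funext fun g => by
    show χ.1 (φ 1⁻¹ g) = χ.1 g
    rw [inv_one, map_one]; rfl)
  map_mul' := fun a b => Equiv.ext fun χ => Subtype.ext (funext fun g => by
    show χ.1 (φ (a * b)⁻¹ g) = χ.1 (φ b⁻¹ (φ a⁻¹ g))
    rw [mul_inv_rev, map_mul]; rfl)

theorem irrPerm_apply (φ : A →* MulAut G) (a : A) (χ : IrrCharacter G) (g : G) :
    (irrPerm φ a χ).1 g = χ.1 (φ a⁻¹ g) := rfl

/-- the induced action on the quotient by a stable normal subgroup -/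
def quotAut (φ : A →* MulAut G) (N : Subgroup G) [N.Normal] (hNs : ∀ a, ∀ n ∈ N, φ a n ∈ N) :
    A →* MulAut (G ⧸ N) where
  toFun a := QuotientGroup.congr N N (φ a) (by
    ext x
    constructor
    · rintro ⟨n, hn, rfl⟩
      exact hNs a n hn
    · intro hx
      refine ⟨φ a⁻¹ x, hNs a⁻¹ x hx, ?_⟩
      show φ a (φ a⁻¹ x) = x
      rw [← MulAut.mul_apply, ← map_mul, mul_inv_cancel, map_one]; rfl)
  map_one' := MulEquiv.ext fun q => by
    induction q using QuotientGroup.induction_on with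
    | H g => rw [QuotientGroup.congr_mk, map_one]; rfl
  map_mul' := fun a b => MulEquiv.ext fun q => by
    induction q using QuotientGroup.induction_on with
    | H g =>
      rw [MulAut.mul_apply, QuotientGroup.congr_mk, QuotientGroup.congr_mk,
        QuotientGroup.congr_mk, map_mul]; rfl

theorem quotAut_mk (φ : A →* MulAut G) (N : Subgroup G) [N.Normal]
    (hNs : ∀ a, ∀ n ∈ N, φ a n ∈ N) (a : A) (g : G) :
    quotAut φ N hNs a (QuotientGroup.mk g) = QuotientGroup.mk (φ a g) := rfl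

/-- the action of the quotient by a normal subgroup on its irreducible characters -/
def quotIrrHom (N : Subgroup G) [hN : N.Normal] : G ⧸ N →* Equiv.Perm (IrrCharacter N) :=
  QuotientGroup.lift N (irrPerm (MulAut.conjNormal : G →* MulAut N)) (by
    intro n hn
    apply Equiv.ext
    intro θ
    apply Subtype.ext
    funext x
    show θ.1 (MulAut.conjNormal n⁻¹ x) = θ.1 x
    have h := isClassFunction_irr θ x ⟨n⁻¹, N.inv_mem hn⟩
    have e : MulAut.conjNormal n⁻¹ x = (⟨n⁻¹, N.inv_mem hn⟩ : N) * x * (⟨n⁻¹, N.inv_mem hn⟩ : N)⁻¹ := by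
      apply Subtype.ext
      simp [MulAut.conjNormal_apply]
    rw [e]
    exact h)

theorem quotIrrHom_mk (N : Subgroup G) [hN : N.Normal] (g : G) (θ : IrrCharacter N) (n : N) :
    (quotIrrHom N (QuotientGroup.mk g) θ).1 n = θ.1 (MulAut.conjNormal g⁻¹ n) := rfl

end irrperm

/-- **Invariant constituents of the restriction to a stable normal subgroup of coprime
index** (Isaacs 13.27), abstract form. -/
theorem exists_inv_below {A : Type v} [Group A] [Finite A] {G : Type u} [Group G] [Finite G]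
    (φ : A →* MulAut G) (N : Subgroup G) [hN : N.Normal] (hNs : ∀ a, ∀ n ∈ N, φ a n ∈ N)
    (hcop : (N.index).Coprime (Nat.card A))
    (hsolv : Group.IsSolvable A ∨ Group.IsSolvable (G ⧸ N))
    [Fintype N] (χ : IrrCharacter G) (hχ : IsInvFun φ χ.1) :
    ∃ θ : IrrCharacter N, classInner (fun n : N => χ.1 n) θ.1 ≠ 0 ∧
      IsInvFun (subAct φ N hNs) θ.1 := by
  classical
  haveI : Fintype G := Fintype.ofFinite G
  let _ : MulAction (G ⧸ N) (IrrCharacter N) := MulAction.compHom _ (quotIrrHom N)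
  let _ : MulAction A (IrrCharacter N) := MulAction.compHom _ (irrPerm (subAct φ N hNs))
  have hK : ∀ (g : G) (θ : IrrCharacter N) (n : N),
      ((QuotientGroup.mk g : G ⧸ N) • θ).1 n = θ.1 (MulAut.conjNormal g⁻¹ n) := fun g θ n => rfl
  have hA : ∀ (a : A) (θ : IrrCharacter N) (n : N),
      (a • θ).1 n = θ.1 (subAct φ N hNs a⁻¹ n) := fun a θ n => rfl
  obtain ⟨θ₀, hθ₀⟩ := exists_constituent (isCharacter_restrict N (isCharacter_irr χ))
    (irr_one_ne_zero χ)
  have hconK : ∀ (g : G) (θ : IrrCharacter N),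
      classInner (fun n : N => χ.1 n) ((QuotientGroup.mk g : G ⧸ N) • θ).1
        = classInner (fun n : N => χ.1 n) θ.1 := by
    intro g θ
    have h1 := classInner_comp_equiv (MulAut.conjNormal g⁻¹ : MulAut N) (fun n : N => χ.1 n) θ.1
    have h2 : (fun n : N => χ.1 (n : G)) ∘ (MulAut.conjNormal g⁻¹ : MulAut N)
        = fun n : N => χ.1 n := by
      funext n
      show χ.1 ((MulAut.conjNormal g⁻¹ n : N) : G) = χ.1 n
      rw [MulAut.conjNormal_apply]
      exact isClassFunction_irr χ (n : G) g⁻¹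
    rw [h2] at h1
    exact h1
  have hconA : ∀ (a : A) (θ : IrrCharacter N),
      classInner (fun n : N => χ.1 n) (a • θ).1 = classInner (fun n : N => χ.1 n) θ.1 := by
    intro a θ
    have h1 := classInner_comp_equiv (subAct φ N hNs a⁻¹) (fun n : N => χ.1 n) θ.1
    have h2 : (fun n : N => χ.1 (n : G)) ∘ (subAct φ N hNs a⁻¹) = fun n : N => χ.1 n := by
      funext n
      exact hχ a⁻¹ n
    rw [h2] at h1
    exact h1
  have hcompat : ∀ (a : A) (k : G ⧸ N) (θ : IrrCharacter N),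
      a • k • θ = (quotAut φ N hNs a k) • a • θ := by
    intro a k θ
    induction k using QuotientGroup.induction_on with
    | H g =>
      apply Subtype.ext
      funext n
      rw [quotAut_mk]
      show θ.1 (MulAut.conjNormal g⁻¹ (subAct φ N hNs a⁻¹ n))
        = θ.1 (subAct φ N hNs a⁻¹ (MulAut.conjNormal (φ a g)⁻¹ n))
      apply congrArg θ.1
      apply Subtype.ext
      have e : φ a⁻¹ (φ a g) = g := by
        rw [← MulAut.mul_apply, ← map_mul, inv_mul_cancel, map_one]; rfl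
      rw [MulAut.conjNormal_apply, subAct_apply, subAct_apply, MulAut.conjNormal_apply,
        inv_inv, inv_inv]
      generalize φ a⁻¹ = τ at e ⊢
      rw [map_mul, map_mul, map_inv, e]
  have hcop' : (Nat.card A).Coprime (Nat.card (G ⧸ N)) := by
    rw [← Subgroup.index_eq_card]
    exact hcop.symm
  have hx : ∀ a : A, ∃ k : G ⧸ N, a • θ₀ = k • θ₀ := by
    intro a
    have hc : classInner (fun n : N => χ.1 n) (a • θ₀).1 ≠ 0 := by
      rw [hconA]; exact hθ₀
    obtain ⟨g, hg⟩ := clifford_conj N χ.1 χ.2 (a • θ₀).1 θ₀.1 (a • θ₀).2 θ₀.2 hc hθ₀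
    refine ⟨QuotientGroup.mk g⁻¹, Subtype.ext ?_⟩
    rw [hg]
    funext n
    show conjFun N θ₀.1 g n = θ₀.1 (MulAut.conjNormal g⁻¹⁻¹ n)
    rw [inv_inv]; rfl
  obtain ⟨k, hk⟩ := glauberman_lemma (quotAut φ N hNs) hcompat hcop' hsolv θ₀ hx
  induction k using QuotientGroup.induction_on with
  | H g =>
    refine ⟨(QuotientGroup.mk g : G ⧸ N) • θ₀, ?_, ?_⟩
    · rw [hconK]; exact hθ₀
    · intro a n
      have h1 := congrArg (fun t : IrrCharacter N => t.1 n) (hk a⁻¹)
      have h2 : (a⁻¹ • (QuotientGroup.mk g : G ⧸ N) • θ₀).1 n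
          = ((QuotientGroup.mk g : G ⧸ N) • θ₀).1 (subAct φ N hNs a⁻¹⁻¹ n) := rfl
      rw [inv_inv] at h2
      exact h2.symm.trans h1

/-- subgroup form (S4447) -/
theorem exists_inv_below_subgroups {Γ : Type u} [Group Γ] [Fintype Γ] (G S N : Subgroup Γ)
    [Fintype G] [Fintype N] (hnorm : ∀ s ∈ S, ∀ g ∈ G, s * g * s⁻¹ ∈ G) (hNG : N ≤ G)
    [hNn : (N.subgroupOf G).Normal] (hNS : ∀ s ∈ S, ∀ n ∈ N, s * n * s⁻¹ ∈ N)
    (hcop : (N.relIndex G).Coprime (Nat.card S))
    (hsolv : Group.IsSolvable S ∨ Group.IsSolvable (G ⧸ N.subgroupOf G))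
    (χ : IrrCharacter G)
    (hinv : ∀ s ∈ S, ∀ g g' : G, (g' : Γ) = s * g * s⁻¹ → χ.1 g' = χ.1 g) :
    ∃ θ : IrrCharacter N, classInner (fun n : N => χ.1 ⟨n, hNG n.2⟩) θ.1 ≠ 0 ∧
      (∀ s ∈ S, ∀ g g' : N, (g' : Γ) = s * g * s⁻¹ → θ.1 g' = θ.1 g) := by
  classical
  have hNs : ∀ a : S, ∀ n ∈ N.subgroupOf G, conjAct G S hnorm a n ∈ N.subgroupOf G := by
    intro a n hn
    exact hNS a a.2 n hn
  haveI : Fintype (N.subgroupOf G) := Fintype.ofFinite _
  obtain ⟨θ₁, hθ₁, hθ₁inv⟩ := exists_inv_below (conjAct G S hnorm) (N.subgroupOf G) hNs hcop hsolv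
    χ ((isInvFun_conjAct_iff G S hnorm χ.1).2 hinv)
  let e := Subgroup.subgroupOfEquivOfLe hNG
  refine ⟨irrCongr e.symm θ₁, ?_, ?_⟩
  · have h1 := classInner_comp_equiv e (fun n : N => χ.1 ⟨n, hNG n.2⟩) (irrCongr e.symm θ₁).1
    have h2 : (irrCongr e.symm θ₁).1 ∘ e = θ₁.1 := by
      funext x
      show θ₁.1 (e.symm (e x)) = θ₁.1 x
      rw [e.symm_apply_apply]
    rw [h2] at h1
    rw [← h1]
    exact hθ₁
  · intro s hs g g' hgg'
    show θ₁.1 (e.symm g') = θ₁.1 (e.symm g)
    have h3 : e.symm g' = subAct (conjAct G S hnorm) (N.subgroupOf G) hNs ⟨s, hs⟩ (e.symm g) := by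
      apply e.injective
      rw [e.apply_symm_apply]
      apply Subtype.ext
      rw [hgg']
      rfl
    rw [h3]
    exact hθ₁inv ⟨s, hs⟩ (e.symm g)

end Cfsg.Agent.Lib.helper24
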