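import Cfsg.Agent.Lib.helper24.GlaubP2
import Cfsg.Agent.Lib.helper8.CoprimeSZ

set_option autoImplicit false

namespace Cfsg.Agent.Lib.helper24
open Cfsg
open Cfsg.Agent.Lib.helper23 Cfsg.Agent.Lib.helper5
open scoped ComplexConjugate

universe u v

theorem card_class_dvd {G : Type u} [Group G] [Finite G] (K : ConjClasses G) :
    Nat.card {g : G // ConjClasses.mk g = K} ∣ Nat.card G := by
  obtain ⟨g₀, rfl⟩ := ConjClasses.mk_surjective K
  have h1 : {g : G | ConjClasses.mk g = ConjClasses.mk g₀} = MulAction.orbit (ConjAct G) g₀ := by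
    rw [ConjAct.orbit_eq_carrier_conjClasses]
    ext g
    exact ConjClasses.mem_carrier_iff_mk_eq.symm
  have h2 : Nat.card {g : G // ConjClasses.mk g = ConjClasses.mk g₀}
      = (MulAction.orbit (ConjAct G) g₀).ncard := by
    rw [← h1]
    exact Nat.card_coe_set_eq _
  rw [h2, ← MulAction.index_stabilizer]
  have h3 : Nat.card (ConjAct G) = Nat.card G := Nat.card_congr ConjAct.ofConjAct.toEquiv
  rw [← h3]
  exact Subgroup.index_dvd_card _

theorem exists_fix_in_class {G : Type u} [Group G] [Finite G] {A : Type v} [Group A] [Finite A]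
    {p : ℕ} [Fact p.Prime] (hA : IsPGroup p A) (hpG : ¬ p ∣ Nat.card G) (φ : A →* MulAut G)
    (K : ConjClasses G) (hK : ∀ a g, ConjClasses.mk g = K → ConjClasses.mk (φ a g) = K) :
    ∃ b : fixSub φ, ConjClasses.mk (b : G) = K := by
  let X : Type u := {g : G // ConjClasses.mk g = K}
  let act : MulAction A X :=
    { smul := fun a x => ⟨φ a x.1, hK a x.1 x.2⟩
      one_smul := fun x => Subtype.ext (by
        show φ 1 x.1 = x.1
        rw [map_one]; rfl)
      mul_smul := fun a b x => Subtype.ext (by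
        show φ (a * b) x.1 = φ a (φ b x.1)
        rw [map_mul]; rfl) }
  have hnd : ¬ p ∣ Nat.card X := fun h => hpG (h.trans (card_class_dvd K))
  haveI : Finite X := Subtype.finite
  obtain ⟨x, hx⟩ := hA.nonempty_fixed_point_of_prime_not_dvd_card X hnd
  rw [MulAction.mem_fixedPoints] at hx
  exact ⟨⟨x.1, fun a => congrArg Subtype.val (hx a)⟩, x.2⟩

section res

variable {G : Type u} [Group G] {A : Type v} [Group A]

theorem fix_stable (φ : A →* MulAut G) (T : Subgroup A) [hT : T.Normal] (a : A) (b : G)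
    (hb : b ∈ fixSub (φ.comp T.subtype)) : φ a b ∈ fixSub (φ.comp T.subtype) := by
  intro t
  show φ (t : A) (φ a b) = φ a b
  have h1 : φ (t : A) (φ a b) = φ a (φ (a⁻¹ * t * a) b) := by
    rw [← MulAut.mul_apply, ← MulAut.mul_apply, ← map_mul, ← map_mul]
    congr 2; group
  have h2 : a⁻¹ * t * a ∈ T := by
    have := hT.conj_mem t t.2 a⁻¹
    simpa using this
  have h3 : φ (a⁻¹ * t * a) b = b := hb ⟨_, h2⟩
  rw [h1, h3]

/-- the action induced on the fixed points of a normal subgroup -/
def resAct (φ : A →* MulAut G) (T : Subgroup A) [hT : T.Normal] :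
    A →* MulAut (fixSub (φ.comp T.subtype)) where
  toFun a :=
    { toFun := fun b => ⟨φ a b.1, fix_stable φ T a b.1 b.2⟩
      invFun := fun b => ⟨φ a⁻¹ b.1, fix_stable φ T a⁻¹ b.1 b.2⟩
      left_inv := fun b => Subtype.ext (by
        show φ a⁻¹ (φ a b.1) = b.1
        rw [← MulAut.mul_apply, ← map_mul, inv_mul_cancel, map_one]; rfl)
      right_inv := fun b => Subtype.ext (by
        show φ a (φ a⁻¹ b.1) = b.1
        rw [← MulAut.mul_apply, ← map_mul, mul_inv_cancel, map_one]; rfl)
      map_mul' := fun x y => Subtype.ext (by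
        show φ a (x.1 * y.1) = φ a x.1 * φ a y.1
        rw [map_mul]) }
  map_one' := MulEquiv.ext fun b => Subtype.ext (by
    show φ 1 b.1 = b.1
    rw [map_one]; rfl)
  map_mul' := fun a a' => MulEquiv.ext fun b => Subtype.ext (by
    show φ (a * a') b.1 = φ a (φ a' b.1)
    rw [map_mul]; rfl)

theorem resAct_apply (φ : A →* MulAut G) (T : Subgroup A) [hT : T.Normal] (a : A)
    (b : fixSub (φ.comp T.subtype)) : ((resAct φ T a b : fixSub (φ.comp T.subtype)) : G) = φ a b :=
  rfl

/-- the action of the quotient on the fixed points of a normal subgroup -/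
def quotAct (φ : A →* MulAut G) (T : Subgroup A) [hT : T.Normal] :
    A ⧸ T →* MulAut (fixSub (φ.comp T.subtype)) :=
  QuotientGroup.lift T (resAct φ T) (fun t ht => MulEquiv.ext fun b => Subtype.ext (by
    show φ t b.1 = b.1
    exact b.2 ⟨t, ht⟩))

theorem quotAct_mk (φ : A →* MulAut G) (T : Subgroup A) [hT : T.Normal] (a : A) :
    quotAct φ T (QuotientGroup.mk a) = resAct φ T a := rfl

end res

theorem count_inv_aux : ∀ (n : ℕ) {A : Type v} [Group A] [Finite A] {G : Type u} [Group G]
    [Finite G], Nat.card A = n → Group.IsSolvable A → (Nat.card G).Coprime (Nat.card A) →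
    ∀ φ : A →* MulAut G, Nat.card {χ : IrrCharacter G // IsInvFun φ χ.1}
      = Nat.card {K : ConjClasses G // ∀ a g, ConjClasses.mk g = K → ConjClasses.mk (φ a g) = K} := by
  intro n
  induction n using Nat.strong_induction_on with
  | _ n ih =>
  intro A _ _ G _ _ hn hsolv hcop φ
  classical
  rcases subsingleton_or_nontrivial A with hsub | hnt
  · have hφ : ∀ a g, φ a g = g := by
      intro a g
      rw [Subsingleton.elim a 1, map_one]; rfl
    have e1 : {χ : IrrCharacter G // IsInvFun φ χ.1} ≃ IrrCharacter G :=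
      Equiv.subtypeUnivEquiv (fun χ a g => by rw [hφ])
    have e2 : {K : ConjClasses G // ∀ a g, ConjClasses.mk g = K → ConjClasses.mk (φ a g) = K}
        ≃ ConjClasses G :=
      Equiv.subtypeUnivEquiv (fun K a g hg => by rw [hφ]; exact hg)
    rw [Nat.card_congr e1, Nat.card_congr e2]
    exact card_irr_eq_card_conjClasses
  · obtain ⟨p, T, hp, hTn, hTbot, hTp⟩ := Cfsg.Agent.Lib.helper8.exists_normal_pgroup A
    haveI : Fact p.Prime := ⟨hp⟩
    haveI := hTn
    have hT1 : Nat.card T ≠ 1 := fun h => hTbot (Subgroup.card_eq_one.1 h)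
    have hpT : p ∣ Nat.card T := hTp.card_eq_or_dvd.resolve_left hT1
    have hpA : p ∣ Nat.card A := hpT.trans (Subgroup.card_subgroup_dvd_card T)
    have hpG : ¬ p ∣ Nat.card G := by
      intro h
      have := Nat.dvd_gcd h hpA
      rw [Nat.Coprime.gcd_eq_one hcop] at this
      exact hp.one_lt.ne' (Nat.dvd_one.1 this)
    set φT : T →* MulAut G := φ.comp T.subtype with hφT
    haveI : Fintype (fixSub φT) := Fintype.ofFinite _
    haveI : Fintype G := Fintype.ofFinite _
    obtain ⟨a1, -, a3, a4⟩ := glauberman_p p hTp hpG φT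
    set ψ := resAct φ T with hψ
    set ψ' := quotAct φ T with hψ'
    have hinvψ : ∀ β : fixSub φT → ℂ, IsInvFun ψ' β ↔ IsInvFun ψ β := by
      intro β
      constructor
      · intro h a b
        exact h (QuotientGroup.mk a) b
      · intro h q b
        induction q using QuotientGroup.induction_on with
        | H a => exact h a b
    -- restriction commutes with the action
    have hres : ∀ (χ : G → ℂ) (a : A), (fun c : fixSub φT => χ (c : G)) ∘ (ψ a)
        = fun c : fixSub φT => (χ ∘ (φ a)) (c : G) := fun χ a => rfl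
    -- step 1: characters
    have hcorr : ∀ χ : IrrCharacter G, IsInvFun φ χ.1 → ∃ β : IrrCharacter (fixSub φT),
        IsInvFun ψ' β.1 ∧ ∃ m : ℕ, classInner (fun c : fixSub φT => χ.1 c) β.1 = m ∧ ¬ p ∣ m := by
      intro χ hχ
      have hχT : IsInvFun φT χ.1 := fun t g => hχ (t : A) g
      obtain ⟨β, ⟨m, hm, hpm⟩, huniq⟩ := a1 χ hχT
      refine ⟨β, ?_, m, hm, hpm⟩
      rw [hinvψ]
      intro a b
      let βa : IrrCharacter (fixSub φT) := ⟨β.1 ∘ (ψ a), isIrrCharacter_comp_equiv (ψ a) β.2⟩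
      have h1 := classInner_comp_equiv (ψ a) (fun c : fixSub φT => χ.1 c) β.1
      have h2 : (fun c : fixSub φT => χ.1 (c : G)) ∘ (ψ a) = fun c : fixSub φT => χ.1 c := by
        funext c
        exact hχ a c
      rw [h2] at h1
      have h3 : βa = β := huniq βa ⟨m, h1.trans hm, hpm⟩
      exact congrFun (congrArg Subtype.val h3) b
    have hsurj : ∀ β : IrrCharacter (fixSub φT), IsInvFun ψ' β.1 → ∃ χ : IrrCharacter G,
        IsInvFun φ χ.1 ∧ ∃ m : ℕ, classInner (fun c : fixSub φT => χ.1 c) β.1 = m ∧ ¬ p ∣ m := by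
      intro β hβ
      rw [hinvψ] at hβ
      obtain ⟨χ, hχT, m, hm, hpm⟩ := a4 β
      refine ⟨χ, ?_, m, hm, hpm⟩
      intro a g
      let χa : IrrCharacter G := ⟨χ.1 ∘ (φ a), isIrrCharacter_comp_equiv (φ a) χ.2⟩
      have hχaT : IsInvFun φT χa.1 := by
        intro t g
        show χ.1 (φ a (φ (t : A) g)) = χ.1 (φ a g)
        have h1 : φ a (φ (t : A) g) = φ (a * t * a⁻¹) (φ a g) := by
          rw [← MulAut.mul_apply, ← MulAut.mul_apply, ← map_mul, ← map_mul]
          congr 2; group
        have h2 : a * t * a⁻¹ ∈ T := hTn.conj_mem t t.2 a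
        rw [h1]
        exact hχT ⟨_, h2⟩ (φ a g)
      have h1 := classInner_comp_equiv (ψ a) (fun c : fixSub φT => χ.1 c) β.1
      have h2 : β.1 ∘ (ψ a) = β.1 := by
        funext b
        exact hβ a b
      rw [h2] at h1
      have h3 : classInner (fun c : fixSub φT => χa.1 c) β.1 = m := h1.trans hm
      have h4 : χa = χ := a3 χa χ hχaT hχT β m m h3 hpm hm hpm
      exact congrFun (congrArg Subtype.val h4) g
    have step1 : Nat.card {χ : IrrCharacter G // IsInvFun φ χ.1}
        = Nat.card {β : IrrCharacter (fixSub φT) // IsInvFun ψ' β.1} := by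
      let F : {χ : IrrCharacter G // IsInvFun φ χ.1}
          → {β : IrrCharacter (fixSub φT) // IsInvFun ψ' β.1} :=
        fun χ => ⟨(hcorr χ.1 χ.2).choose, (hcorr χ.1 χ.2).choose_spec.1⟩
      have hF : ∀ χ : {χ : IrrCharacter G // IsInvFun φ χ.1}, ∃ m : ℕ,
          classInner (fun c : fixSub φT => χ.1.1 c) (F χ).1.1 = m ∧ ¬ p ∣ m :=
        fun χ => (hcorr χ.1 χ.2).choose_spec.2
      apply Nat.card_congr (Equiv.ofBijective F ⟨?_, ?_⟩)
      · intro χ χ' hFF
        obtain ⟨m, hm, hpm⟩ := hF χ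
        obtain ⟨m', hm', hpm'⟩ := hF χ'
        rw [hFF] at hm
        exact Subtype.ext (a3 χ.1 χ'.1 (fun t g => χ.2 (t : A) g) (fun t g => χ'.2 (t : A) g)
          (F χ').1 m m' hm hpm hm' hpm')
      · intro β
        obtain ⟨χ, hχ, m, hm, hpm⟩ := hsurj β.1 β.2
        refine ⟨⟨χ, hχ⟩, ?_⟩
        obtain ⟨m', hm', hpm'⟩ := hF ⟨χ, hχ⟩
        obtain ⟨β₀, -, huniq⟩ := a1 χ (fun t g => hχ (t : A) g)
        apply Subtype.ext
        rw [huniq (F ⟨χ, hχ⟩).1 ⟨m', hm', hpm'⟩, huniq β.1 ⟨m, hm, hpm⟩]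
    -- step 2: classes
    have step2 : Nat.card {L : ConjClasses (fixSub φT) // ∀ q x, ConjClasses.mk x = L →
          ConjClasses.mk (ψ' q x) = L}
        = Nat.card {K : ConjClasses G // ∀ a g, ConjClasses.mk g = K →
          ConjClasses.mk (φ a g) = K} := by
      have hconjB : ∀ (a : A) (x y : fixSub φT), IsConj x y → IsConj (ψ a x) (ψ a y) :=
        fun a x y h => (ψ a).toMonoidHom.map_isConj h
      let H : {L : ConjClasses (fixSub φT) // ∀ q x, ConjClasses.mk x = L →
            ConjClasses.mk (ψ' q x) = L}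
          → {K : ConjClasses G // ∀ a g, ConjClasses.mk g = K → ConjClasses.mk (φ a g) = K} :=
        fun L => ⟨ConjClasses.map (fixSub φT).subtype L.1, by
          intro a g hg
          obtain ⟨b, hb⟩ := ConjClasses.mk_surjective L.1
          rw [← hb] at hg ⊢
          have h1 : IsConj g (b : G) := ConjClasses.mk_eq_mk_iff_isConj.1 hg
          have h2 : IsConj (φ a g) (φ a (b : G)) := (φ a).toMonoidHom.map_isConj h1
          have h3 : ConjClasses.mk (ψ' (QuotientGroup.mk a) b) = ConjClasses.mk b := by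
            rw [hb]; exact L.2 (QuotientGroup.mk a) b hb
          have h4 := congrArg (ConjClasses.map (fixSub φT).subtype) h3
          rw [ConjClasses.mk_eq_mk_iff_isConj.2 h2]
          exact h4⟩
      apply Nat.card_congr (Equiv.ofBijective H ⟨?_, ?_⟩)
      · intro L₁ L₂ hH
        obtain ⟨b₁, hb₁⟩ := ConjClasses.mk_surjective L₁.1
        obtain ⟨b₂, hb₂⟩ := ConjClasses.mk_surjective L₂.1
        have h1 : ConjClasses.map (fixSub φT).subtype L₁.1
            = ConjClasses.map (fixSub φT).subtype L₂.1 := congrArg Subtype.val hH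
        rw [← hb₁, ← hb₂] at h1
        have h2 : IsConj (b₁ : G) (b₂ : G) := ConjClasses.mk_eq_mk_iff_isConj.1 h1
        have h3 := isConj_fix_of_isConj hTp hpG φT b₁ b₂ h2
        apply Subtype.ext
        rw [← hb₁, ← hb₂]
        exact ConjClasses.mk_eq_mk_iff_isConj.2 h3
      · intro K
        obtain ⟨b, hb⟩ := exists_fix_in_class hTp hpG φT K.1 (fun t g hg => K.2 (t : A) g hg)
        refine ⟨⟨ConjClasses.mk b, ?_⟩, Subtype.ext hb⟩
        intro q x hx
        induction q using QuotientGroup.induction_on with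
        | H a =>
          have h1 : IsConj x b := ConjClasses.mk_eq_mk_iff_isConj.1 hx
          have h2 := hconjB a x b h1
          have h3 : ConjClasses.mk (φ a (b : G)) = ConjClasses.mk (b : G) := by
            rw [hb]; exact K.2 a b hb
          have h4 : IsConj (((ψ a b : fixSub φT) : G)) (b : G) :=
            ConjClasses.mk_eq_mk_iff_isConj.1 h3
          have h5 := isConj_fix_of_isConj hTp hpG φT (ψ a b) b h4
          exact ConjClasses.mk_eq_mk_iff_isConj.2 (h2.trans h5)
    -- step 3: induction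
    have hcardT : Nat.card A = Nat.card (A ⧸ T) * Nat.card T :=
      Subgroup.card_eq_card_quotient_mul_card_subgroup T
    have hlt : Nat.card (A ⧸ T) < n := by
      rw [← hn, hcardT]
      have hpos : 0 < Nat.card (A ⧸ T) := Nat.card_pos
      have h2 : 2 ≤ Nat.card T := by
        have : 0 < Nat.card T := Nat.card_pos
        omega
      nlinarith
    have hcop' : (Nat.card (fixSub φT)).Coprime (Nat.card (A ⧸ T)) := by
      apply Nat.Coprime.coprime_dvd_left (Subgroup.card_subgroup_dvd_card _)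
      apply Nat.Coprime.coprime_dvd_right _ hcop
      exact ⟨Nat.card T, hcardT⟩
    have hsolv' : Group.IsSolvable (A ⧸ T) := by
      haveI := hsolv
      infer_instance
    have hIH := ih (Nat.card (A ⧸ T)) hlt (A := A ⧸ T) (G := fixSub φT) rfl hsolv' hcop' ψ'
    rw [step1, hIH, step2]

theorem count_inv {A : Type v} [Group A] [Finite A] {G : Type u} [Group G] [Finite G]
    (hsolv : Group.IsSolvable A) (hcop : (Nat.card G).Coprime (Nat.card A))
    (φ : A →* MulAut G) : Nat.card {χ : IrrCharacter G // IsInvFun φ χ.1}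
      = Nat.card {K : ConjClasses G // ∀ a g, ConjClasses.mk g = K → ConjClasses.mk (φ a g) = K} :=
  count_inv_aux (Nat.card A) rfl hsolv hcop φ

theorem count_inv_subgroups {Γ : Type u} [Group Γ] [Fintype Γ] (G S : Subgroup Γ) [Fintype G]
    (hnorm : ∀ s ∈ S, ∀ g ∈ G, s * g * s⁻¹ ∈ G) (hcop : (Nat.card G).Coprime (Nat.card S))
    (hsolv : Group.IsSolvable S) :
    Nat.card {χ : Cfsg.IrrCharacter G // (∀ s ∈ S, ∀ g g' : G, (g' : Γ) = s * g * s⁻¹ → (χ : G → ℂ) g' = (χ : G → ℂ) g)} = Nat.card {K : ConjClasses G // ∀ s ∈ S, ∀ g g' : G, (g' : Γ) = s * g * s⁻¹ → ConjClasses.mk g = K → ConjClasses.mk g' = K} := by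
  classical
  set φ := conjAct G S hnorm with hφ
  have e1 : {χ : Cfsg.IrrCharacter G // (∀ s ∈ S, ∀ g g' : G, (g' : Γ) = s * g * s⁻¹ →
      (χ : G → ℂ) g' = (χ : G → ℂ) g)} ≃ {χ : IrrCharacter G // IsInvFun φ χ.1} :=
    Equiv.subtypeEquivRight (fun χ => (isInvFun_conjAct_iff G S hnorm χ.1).symm)
  have e2 : {K : ConjClasses G // ∀ s ∈ S, ∀ g g' : G, (g' : Γ) = s * g * s⁻¹ →
      ConjClasses.mk g = K → ConjClasses.mk g' = K}
      ≃ {K : ConjClasses G // ∀ a g, ConjClasses.mk g = K → ConjClasses.mk (φ a g) = K} :=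
    Equiv.subtypeEquivRight (fun K => by
      constructor
      · intro h a g hg
        exact h a a.2 g (φ a g) (conjAct_apply G S hnorm a g) hg
      · intro h s hs g g' hg' hg
        have h1 := h ⟨s, hs⟩ g hg
        have e : φ ⟨s, hs⟩ g = g' := Subtype.ext (by rw [hφ, conjAct_apply, hg'])
        rwa [e] at h1)
  rw [Nat.card_congr e1, Nat.card_congr e2]
  exact count_inv hsolv hcop φ

end Cfsg.Agent.Lib.helper24
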