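import Cfsg.Agent.Lib.helper24.GlaubCount
import Cfsg.Agent.Lib.helper24.CharExt815
import Cfsg.Agent.Lib.helper24.CharGallagher2
import Cfsg.Agent.Lib.helper24.CharRamified
import Cfsg.Agent.Lib.helper24.CharProj2
import Cfsg.Agent.Lib.helper24.CharRelM2
import Cfsg.Agent.Lib.helper22.DetChar

set_option autoImplicit false

namespace Cfsg.Agent.Lib.helper24
open Cfsg
open Cfsg.Agent.Lib.helper23 Cfsg.Agent.Lib.helper5
open scoped ComplexConjugate

universe u v

/-- counting the irreducible characters of degree prime to `|G : K|` when `K` is a normal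
Hall subgroup: they are the extensions of the invariant irreducible characters of `K`. -/
theorem card_coprime_degree {G : Type u} [Group G] [Finite G] {Q : Type v} [Group Q] [Finite Q]
    (K : Subgroup G) [hK : K.Normal] (π : G →* Q) (hπ : Function.Surjective π)
    (hker : π.ker = K) (hcop : (Nat.card K).Coprime (Nat.card Q)) :
    Nat.card {χ : IrrCharacter G // (charDegree χ.1).Coprime (Nat.card Q)}
      = Nat.card {θ : IrrCharacter K // ∀ (g : G) (n : K),
          θ.1 ⟨g * n * g⁻¹, hK.conj_mem n n.2 g⟩ = θ.1 n}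
        * Nat.card {μ : IrrCharacter Q // μ.1 1 = 1} := by
  classical
  haveI : Fintype G := Fintype.ofFinite G
  haveI : Fintype K := Fintype.ofFinite K
  have hmemK : ∀ g : G, g ∈ K ↔ π g = 1 := fun g => by rw [← hker, MonoidHom.mem_ker]
  have hidx : K.index = Nat.card Q := by
    rw [← hker, Subgroup.index_ker, MonoidHom.range_eq_top.2 hπ, Subgroup.card_top]
  have hext : ∀ θ : {θ : IrrCharacter K // ∀ (g : G) (n : K),
      θ.1 ⟨g * n * g⁻¹, hK.conj_mem n n.2 g⟩ = θ.1 n},
      ∃ χ : G → ℂ, IsIrrCharacter G χ ∧ ∀ n : K, χ n = θ.1.1 n := by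
    intro θ
    obtain ⟨d, hd, hdK⟩ := irr_degree_dvd_card θ.1
    have hc : Nat.Coprime K.index (Cfsg.detOrder θ.1.1 * d) := by
      rw [hidx]
      apply Nat.Coprime.mul_right
      · exact (Nat.Coprime.coprime_dvd_left
          (Cfsg.Agent.Lib.helper22.detOrder_dvd_card θ.1.1) hcop).symm
      · exact (Nat.Coprime.coprime_dvd_left hdK hcop).symm
    obtain ⟨χ, ⟨h1, h2, -⟩, -⟩ := ext_coprime_unique K θ.1.1 θ.1.2 θ.2 d hd hc
    exact ⟨χ, h1, h2⟩
  choose ext hext1 hext2 using hext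
  have hresθ : ∀ θ, IsIrrCharacter K (fun n : K => ext θ n) := by
    intro θ
    have : (fun n : K => ext θ n) = θ.1.1 := funext (hext2 θ)
    rw [this]; exact θ.1.2
  have hmemβ : ∀ μ : {μ : IrrCharacter Q // μ.1 1 = 1},
      (μ.1.1 ∘ π) ∈ {β : G → ℂ | IsIrrCharacter G β ∧ ∀ n ∈ K, β n = β 1} := by
    intro μ
    refine ⟨isIrrCharacter_comp_surjective π hπ μ.1.2, fun n hn => ?_⟩
    show μ.1.1 (π n) = μ.1.1 (π 1)
    rw [(hmemK n).1 hn, map_one]
  have hirrE : ∀ θ (μ : {μ : IrrCharacter Q // μ.1 1 = 1}),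
      IsIrrCharacter G ((μ.1.1 ∘ π) * ext θ) := by
    intro θ μ
    exact ((gallagher_quotient K (ext θ) (hext1 θ) (hresθ θ)).mapsTo (hmemβ μ)).1
  have hdegE : ∀ θ (μ : {μ : IrrCharacter Q // μ.1 1 = 1}),
      ((μ.1.1 ∘ π) * ext θ) 1 = θ.1.1 1 := by
    intro θ μ
    show μ.1.1 (π 1) * ext θ 1 = θ.1.1 1
    rw [map_one, μ.2, one_mul]
    exact hext2 θ 1
  let E : {θ : IrrCharacter K // ∀ (g : G) (n : K),
        θ.1 ⟨g * n * g⁻¹, hK.conj_mem n n.2 g⟩ = θ.1 n} × {μ : IrrCharacter Q // μ.1 1 = 1}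
      → {χ : IrrCharacter G // (charDegree χ.1).Coprime (Nat.card Q)} :=
    fun x => ⟨⟨(x.2.1.1 ∘ π) * ext x.1, hirrE x.1 x.2⟩, by
      obtain ⟨d, hd, hdK⟩ := irr_degree_dvd_card x.1.1
      have h1 : charDegree ((x.2.1.1 ∘ π) * ext x.1) = d := by
        unfold charDegree
        rw [hdegE, hd]; simp
      show (charDegree ((x.2.1.1 ∘ π) * ext x.1)).Coprime (Nat.card Q)
      rw [h1]
      exact Nat.Coprime.coprime_dvd_left hdK hcop⟩
  rw [← Nat.card_prod]
  symm
  apply Nat.card_congr (Equiv.ofBijective E ⟨?_, ?_⟩)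
  · rintro ⟨θ, μ⟩ ⟨θ', μ'⟩ hEE
    have hfun : (μ.1.1 ∘ π) * ext θ = (μ'.1.1 ∘ π) * ext θ' :=
      congrArg (fun χ : {χ : IrrCharacter G // (charDegree χ.1).Coprime (Nat.card Q)} => χ.1.1) hEE
    have hθ : θ = θ' := by
      apply Subtype.ext; apply Subtype.ext; funext n
      have h1 := congrFun hfun n
      have e1 : (μ.1.1 ∘ π) n = 1 := by
        show μ.1.1 (π n) = 1
        rw [(hmemK n).1 n.2]; exact μ.2
      have e2 : (μ'.1.1 ∘ π) n = 1 := by
        show μ'.1.1 (π n) = 1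
        rw [(hmemK n).1 n.2]; exact μ'.2
      simp only [Pi.mul_apply] at h1
      rw [e1, e2, one_mul, one_mul, hext2, hext2] at h1
      exact h1
    subst hθ
    have hinj := (gallagher_quotient K (ext θ) (hext1 θ) (hresθ θ)).injOn
    have h2 : μ.1.1 ∘ π = μ'.1.1 ∘ π := hinj (hmemβ μ) (hmemβ μ') hfun
    have hμ : μ = μ' := by
      apply Subtype.ext; apply Subtype.ext; funext q
      obtain ⟨g, rfl⟩ := hπ q
      exact congrFun h2 g
    rw [hμ]
  · intro χ
    obtain ⟨c, hc, -⟩ := irr_degree_dvd_card χ.1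
    have hcc : charDegree χ.1.1 = c := by
      unfold charDegree; rw [hc]; simp
    have hχK : IsCharacter K (fun n : K => χ.1.1 n) :=
      isCharacter_restrict K (isCharacter_irr χ.1)
    have hne1 : (fun n : K => χ.1.1 n) 1 ≠ 0 := irr_one_ne_zero χ.1
    obtain ⟨θ, hθ⟩ := exists_constituent hχK hne1
    obtain ⟨d, hd, hdK⟩ := irr_degree_dvd_card θ
    obtain ⟨hdc, hratio⟩ := degree_ratio_dvd_index K χ.1.1 χ.1.2 θ.1 θ.2 hθ c d hc hd
    have hcd : c = d := by
      have hcop2 : Nat.Coprime c (Nat.card Q) := hcc ▸ χ.2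
      rw [hidx] at hratio
      have h1 : c / d ∣ c := Nat.div_dvd_of_dvd hdc
      have h2 : c / d ∣ Nat.gcd c (Nat.card Q) := Nat.dvd_gcd h1 hratio
      rw [hcop2.gcd_eq_one] at h2
      have h3 := Nat.div_mul_cancel hdc
      rw [Nat.dvd_one.1 h2, one_mul] at h3
      exact h3.symm
    have hresχ : (fun n : K => χ.1.1 n) = θ.1 := by
      have hsub := isCharacter_sub_irr hχK θ hθ
      have h0 : ((fun n : K => χ.1.1 n) - θ.1) 1 = 0 := by
        show χ.1.1 ((1 : K) : G) - θ.1 1 = 0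
        rw [hd, Subgroup.coe_one, hc, hcd, sub_self]
      exact sub_eq_zero.1 (isCharacter_eq_zero_of_one hsub h0)
    have hθinv : ∀ (g : G) (n : K), θ.1 ⟨g * n * g⁻¹, hK.conj_mem n n.2 g⟩ = θ.1 n := by
      intro g n
      rw [← hresχ]
      exact isClassFunction_irr χ.1 n g
    let θ' : {θ : IrrCharacter K // ∀ (g : G) (n : K),
        θ.1 ⟨g * n * g⁻¹, hK.conj_mem n n.2 g⟩ = θ.1 n} := ⟨θ, hθinv⟩
    have hmem : χ.1.1 ∈ {ψ : G → ℂ | IsIrrCharacter G ψ ∧
        classInner (fun n : K => ψ n) (fun n : K => ext θ' n) ≠ 0} := by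
      refine ⟨χ.1.2, ?_⟩
      have e1 : (fun n : K => ext θ' n) = θ.1 := funext (hext2 θ')
      rw [e1, hresχ, irr_orthonormal θ θ, if_pos rfl]
      exact one_ne_zero
    obtain ⟨β, ⟨hβirr, hβK⟩, hβχ⟩ :=
      (gallagher_quotient K (ext θ') (hext1 θ') (hresθ θ')).surjOn hmem
    have hβ1 : β 1 = 1 := by
      have h1 := congrFun hβχ 1
      have h2 : ext θ' 1 = (d : ℂ) := by
        have := hext2 θ' 1
        rw [← hd]; exact this
      have hd0 : (d : ℂ) ≠ 0 := by rw [← hd]; exact irr_one_ne_zero θ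
      simp only [Pi.mul_apply] at h1
      rw [h2, hc, hcd] at h1
      exact mul_right_cancel₀ hd0 (by rw [h1, one_mul])
    obtain ⟨β', hβ'irr, hβ'⟩ := isIrrCharacter_deflate K hβirr hβK
    let f : G ⧸ K →* Q := QuotientGroup.lift K π (fun k hk => (hmemK k).1 hk)
    have hfbij : Function.Bijective f := by
      constructor
      · rw [injective_iff_map_eq_one]
        intro q hq
        induction q using QuotientGroup.induction_on with
        | H g =>
          have h1 : π g = 1 := hq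
          exact (QuotientGroup.eq_one_iff g).2 ((hmemK g).2 h1)
      · intro q
        obtain ⟨g, rfl⟩ := hπ q
        exact ⟨QuotientGroup.mk g, rfl⟩
    let e : G ⧸ K ≃* Q := MulEquiv.ofBijective f hfbij
    let μ : IrrCharacter Q := ⟨β' ∘ e.symm, isIrrCharacter_comp_equiv e.symm hβ'irr⟩
    have hμπ : ∀ g, μ.1 (π g) = β g := by
      intro g
      show β' (e.symm (π g)) = β g
      have h1 : e.symm (π g) = QuotientGroup.mk g := by
        rw [MulEquiv.symm_apply_eq]; rfl
      rw [h1, hβ']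
    have hμ1 : μ.1 1 = 1 := by rw [← map_one π, hμπ, hβ1]
    refine ⟨(θ', ⟨μ, hμ1⟩), ?_⟩
    apply Subtype.ext; apply Subtype.ext
    show (μ.1 ∘ π) * ext θ' = χ.1.1
    rw [← hβχ]
    congr 1
    funext g
    exact hμπ g

/-- transport of irreducible characters along an isomorphism -/
def irrCongr {H₁ : Type u} {H₂ : Type v} [Group H₁] [Group H₂] (e : H₁ ≃* H₂) :
    IrrCharacter H₂ ≃ IrrCharacter H₁ where
  toFun χ := ⟨χ.1 ∘ e, isIrrCharacter_comp_equiv e χ.2⟩
  invFun χ := ⟨χ.1 ∘ e.symm, isIrrCharacter_comp_equiv e.symm χ.2⟩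
  left_inv χ := Subtype.ext (by funext x; simp)
  right_inv χ := Subtype.ext (by funext x; simp)

theorem card_conjClasses_congr {H₁ : Type u} {H₂ : Type v} [Group H₁] [Group H₂] [Finite H₁]
    [Finite H₂] (e : H₁ ≃* H₂) : Nat.card (ConjClasses H₁) = Nat.card (ConjClasses H₂) := by
  rw [← card_irr_eq_card_conjClasses, ← card_irr_eq_card_conjClasses]
  exact Nat.card_congr (irrCongr e).symm

theorem card_inv_step {A : Type v} [Group A] [Finite A] {G : Type u} [Group G] [Finite G]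
    (φ : A →* MulAut G) (T : Subgroup A) [hTn : T.Normal] {p : ℕ} [Fact p.Prime]
    (hTp : IsPGroup p T) (hpG : ¬ p ∣ Nat.card G) :
    Nat.card {χ : IrrCharacter G // IsInvFun φ χ.1}
      = Nat.card {β : IrrCharacter (fixSub (φ.comp T.subtype)) // IsInvFun (quotAct φ T) β.1} := by
  classical
  set φT : T →* MulAut G := φ.comp T.subtype with hφT
  haveI : Fintype (fixSub φT) := Fintype.ofFinite _
  haveI : Fintype G := Fintype.ofFinite _
  obtain ⟨a1, -, a3, a4⟩ := glauberman_p p hTp hpG φT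
  set ψ := resAct φ T with hψ
  set ψ' := quotAct φ T with hψ'
  have hinvψ : ∀ β : fixSub φT → ℂ, IsInvFun ψ' β ↔ IsInvFun ψ β := by
    intro β
    constructor
    · intro h a b
      exact h (QuotientGroup.mk a) b
    · intro h q b
      induction q using QuotientGroup.induction_on with
      | H a => exact h a b
  have hcorr : ∀ χ : IrrCharacter G, IsInvFun φ χ.1 → ∃ β : IrrCharacter (fixSub φT),
      IsInvFun ψ' β.1 ∧ ∃ m : ℕ, classInner (fun c : fixSub φT => χ.1 c) β.1 = m ∧ ¬ p ∣ m := by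
    intro χ hχ
    have hχT : IsInvFun φT χ.1 := fun t g => hχ (t : A) g
    obtain ⟨β, ⟨m, hm, hpm⟩, huniq⟩ := a1 χ hχT
    refine ⟨β, ?_, m, hm, hpm⟩
    rw [hinvψ]
    intro a b
    let βa : IrrCharacter (fixSub φT) := ⟨β.1 ∘ (ψ a), isIrrCharacter_comp_equiv (ψ a) β.2⟩
    have h1 := classInner_comp_equiv (ψ a) (fun c : fixSub φT => χ.1 c) β.1
    have h2 : (fun c : fixSub φT => χ.1 (c : G)) ∘ (ψ a) = fun c : fixSub φT => χ.1 c := by
      funext c
      exact hχ a c
    rw [h2] at h1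
    have h3 : βa = β := huniq βa ⟨m, h1.trans hm, hpm⟩
    exact congrFun (congrArg Subtype.val h3) b
  have hsurj : ∀ β : IrrCharacter (fixSub φT), IsInvFun ψ' β.1 → ∃ χ : IrrCharacter G,
      IsInvFun φ χ.1 ∧ ∃ m : ℕ, classInner (fun c : fixSub φT => χ.1 c) β.1 = m ∧ ¬ p ∣ m := by
    intro β hβ
    rw [hinvψ] at hβ
    obtain ⟨χ, hχT, m, hm, hpm⟩ := a4 β
    refine ⟨χ, ?_, m, hm, hpm⟩
    intro a g
    let χa : IrrCharacter G := ⟨χ.1 ∘ (φ a), isIrrCharacter_comp_equiv (φ a) χ.2⟩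
    have hχaT : IsInvFun φT χa.1 := by
      intro t g
      show χ.1 (φ a (φ (t : A) g)) = χ.1 (φ a g)
      have h1 : φ a (φ (t : A) g) = φ (a * t * a⁻¹) (φ a g) := by
        rw [← MulAut.mul_apply, ← MulAut.mul_apply, ← map_mul, ← map_mul]
        congr 2; group
      have h2 : a * t * a⁻¹ ∈ T := hTn.conj_mem t t.2 a
      rw [h1]
      exact hχT ⟨_, h2⟩ (φ a g)
    have h1 := classInner_comp_equiv (ψ a) (fun c : fixSub φT => χ.1 c) β.1
    have h2 : β.1 ∘ (ψ a) = β.1 := by
      funext b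
      exact hβ a b
    rw [h2] at h1
    have h3 : classInner (fun c : fixSub φT => χa.1 c) β.1 = m := h1.trans hm
    have h4 : χa = χ := a3 χa χ hχaT hχT β m m h3 hpm hm hpm
    exact congrFun (congrArg Subtype.val h4) g
  let F : {χ : IrrCharacter G // IsInvFun φ χ.1}
      → {β : IrrCharacter (fixSub φT) // IsInvFun ψ' β.1} :=
    fun χ => ⟨(hcorr χ.1 χ.2).choose, (hcorr χ.1 χ.2).choose_spec.1⟩
  have hF : ∀ χ : {χ : IrrCharacter G // IsInvFun φ χ.1}, ∃ m : ℕ,
      classInner (fun c : fixSub φT => χ.1.1 c) (F χ).1.1 = m ∧ ¬ p ∣ m :=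
    fun χ => (hcorr χ.1 χ.2).choose_spec.2
  apply Nat.card_congr (Equiv.ofBijective F ⟨?_, ?_⟩)
  · intro χ χ' hFF
    obtain ⟨m, hm, hpm⟩ := hF χ
    obtain ⟨m', hm', hpm'⟩ := hF χ'
    rw [hFF] at hm
    exact Subtype.ext (a3 χ.1 χ'.1 (fun t g => χ.2 (t : A) g) (fun t g => χ'.2 (t : A) g)
      (F χ').1 m m' hm hpm hm' hpm')
  · intro β
    obtain ⟨χ, hχ, m, hm, hpm⟩ := hsurj β.1 β.2
    refine ⟨⟨χ, hχ⟩, ?_⟩
    obtain ⟨m', hm', hpm'⟩ := hF ⟨χ, hχ⟩
    obtain ⟨β₀, -, huniq⟩ := a1 χ (fun t g => hχ (t : A) g)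
    apply Subtype.ext
    rw [huniq (F ⟨χ, hχ⟩).1 ⟨m', hm', hpm'⟩, huniq β.1 ⟨m, hm, hpm⟩]

/-- fixed points of the quotient action on the fixed points are the fixed points -/
def fixQuotEquiv {A : Type v} [Group A] {G : Type u} [Group G] (φ : A →* MulAut G)
    (T : Subgroup A) [hTn : T.Normal] : fixSub (quotAct φ T) ≃* fixSub φ where
  toFun x := ⟨((x : fixSub (φ.comp T.subtype)) : G), fun a =>
    congrArg Subtype.val (x.2 (QuotientGroup.mk a))⟩
  invFun y := ⟨⟨y.1, fun t => y.2 (t : A)⟩, fun q => by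
    induction q using QuotientGroup.induction_on with
    | H a => exact Subtype.ext (y.2 a)⟩
  left_inv x := rfl
  right_inv y := rfl
  map_mul' x y := rfl

theorem count_fix_aux : ∀ (n : ℕ) {A : Type v} [Group A] [Finite A] {G : Type u} [Group G]
    [Finite G], Nat.card A = n → Group.IsSolvable A → (Nat.card G).Coprime (Nat.card A) →
    ∀ φ : A →* MulAut G, Nat.card {χ : IrrCharacter G // IsInvFun φ χ.1}
      = Nat.card (ConjClasses (fixSub φ)) := by
  intro n
  induction n using Nat.strong_induction_on with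
  | _ n ih =>
  intro A _ _ G _ _ hn hsolv hcop φ
  classical
  rcases subsingleton_or_nontrivial A with hsub | hnt
  · have hφ : ∀ a g, φ a g = g := by
      intro a g
      rw [Subsingleton.elim a 1, map_one]; rfl
    have e1 : {χ : IrrCharacter G // IsInvFun φ χ.1} ≃ IrrCharacter G :=
      Equiv.subtypeUnivEquiv (fun χ a g => by rw [hφ])
    let e₀ : fixSub φ ≃* G :=
      { toFun := fun x => x.1
        invFun := fun g => ⟨g, fun a => hφ a g⟩
        left_inv := fun x => rfl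
        right_inv := fun g => rfl
        map_mul' := fun x y => rfl }
    rw [Nat.card_congr e1, card_conjClasses_congr e₀]
    exact card_irr_eq_card_conjClasses
  · obtain ⟨p, T, hp, hTn, hTbot, hTp⟩ := Cfsg.Agent.Lib.helper8.exists_normal_pgroup A
    haveI : Fact p.Prime := ⟨hp⟩
    haveI := hTn
    have hT1 : Nat.card T ≠ 1 := fun h => hTbot (Subgroup.card_eq_one.1 h)
    have hpT : p ∣ Nat.card T := hTp.card_eq_or_dvd.resolve_left hT1
    have hpA : p ∣ Nat.card A := hpT.trans (Subgroup.card_subgroup_dvd_card T)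
    have hpG : ¬ p ∣ Nat.card G := by
      intro h
      have := Nat.dvd_gcd h hpA
      rw [Nat.Coprime.gcd_eq_one hcop] at this
      exact hp.one_lt.ne' (Nat.dvd_one.1 this)
    have hcardT : Nat.card A = Nat.card (A ⧸ T) * Nat.card T :=
      Subgroup.card_eq_card_quotient_mul_card_subgroup T
    have hlt : Nat.card (A ⧸ T) < n := by
      rw [← hn, hcardT]
      have hpos : 0 < Nat.card (A ⧸ T) := Nat.card_pos
      have h2 : 2 ≤ Nat.card T := by
        have : 0 < Nat.card T := Nat.card_pos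
        omega
      nlinarith
    have hcop' : (Nat.card (fixSub (φ.comp T.subtype))).Coprime (Nat.card (A ⧸ T)) := by
      apply Nat.Coprime.coprime_dvd_left (Subgroup.card_subgroup_dvd_card _)
      apply Nat.Coprime.coprime_dvd_right _ hcop
      exact ⟨Nat.card T, hcardT⟩
    have hsolv' : Group.IsSolvable (A ⧸ T) := by
      haveI := hsolv
      infer_instance
    have hIH := ih (Nat.card (A ⧸ T)) hlt (A := A ⧸ T) (G := fixSub (φ.comp T.subtype)) rfl
      hsolv' hcop' (quotAct φ T)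
    rw [card_inv_step φ T hTp hpG, hIH]
    exact card_conjClasses_congr (fixQuotEquiv φ T)

theorem count_fix {A : Type v} [Group A] [Finite A] {G : Type u} [Group G] [Finite G]
    (hsolv : Group.IsSolvable A) (hcop : (Nat.card G).Coprime (Nat.card A))
    (φ : A →* MulAut G) : Nat.card {χ : IrrCharacter G // IsInvFun φ χ.1}
      = Nat.card (ConjClasses (fixSub φ)) :=
  count_fix_aux (Nat.card A) rfl hsolv hcop φ

theorem card_coprime_degree_normalizer {G : Type u} [Group G] [Finite G] (K H : Subgroup G)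
    [hKn : K.Normal] (hKH : K ⊔ H = ⊤) (hcop : (Nat.card K).Coprime (Nat.card H))
    (hsolv : Group.IsSolvable H) :
    Nat.card {χ : Cfsg.IrrCharacter G // (Cfsg.charDegree (χ : G → ℂ)).Coprime (Nat.card H)} = Nat.card {η : Cfsg.IrrCharacter (Subgroup.normalizer (H : Set G)) // (Cfsg.charDegree (η : Subgroup.normalizer (H : Set G) → ℂ)).Coprime (Nat.card H)} := by
  classical
  have hKH' : K ⊓ H = ⊥ := Subgroup.inf_eq_bot_of_coprime hcop
  let f : H →* G ⧸ K := (QuotientGroup.mk' K).comp H.subtype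
  have hfbij : Function.Bijective f := by
    constructor
    · rw [injective_iff_map_eq_one]
      intro h hh
      have h1 : (h : G) ∈ K := (QuotientGroup.eq_one_iff (h : G)).1 hh
      have h2 : (h : G) ∈ K ⊓ H := ⟨h1, h.2⟩
      rw [hKH', Subgroup.mem_bot] at h2
      exact Subtype.ext h2
    · intro q
      induction q using QuotientGroup.induction_on with
      | H g =>
        have hg : g ∈ (↑(K ⊔ H) : Set G) := by rw [hKH]; trivial
        rw [Subgroup.normal_mul] at hg
        obtain ⟨k, hk, h, hh, rfl⟩ := Set.mem_mul.1 hg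
        refine ⟨⟨h, hh⟩, ?_⟩
        show QuotientGroup.mk' K h = QuotientGroup.mk' K (k * h)
        rw [map_mul]
        have : QuotientGroup.mk' K k = 1 := (QuotientGroup.eq_one_iff k).2 hk
        rw [this, one_mul]
  let eH : H ≃* G ⧸ K := MulEquiv.ofBijective f hfbij
  let πG : G →* H := eH.symm.toMonoidHom.comp (QuotientGroup.mk' K)
  have hπh : ∀ h : H, πG h = h := by
    intro h
    show eH.symm (QuotientGroup.mk' K (h : G)) = h
    rw [MulEquiv.symm_apply_eq]; rfl
  have hπsurj : Function.Surjective πG := fun h => ⟨h, hπh h⟩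
  have hπker : ∀ g : G, πG g = 1 ↔ g ∈ K := by
    intro g
    show eH.symm (QuotientGroup.mk' K g) = 1 ↔ g ∈ K
    rw [MulEquiv.map_eq_one_iff]
    exact QuotientGroup.eq_one_iff g
  have hkerG : πG.ker = K := by
    ext g
    rw [MonoidHom.mem_ker]
    exact hπker g
  have L1 := card_coprime_degree K πG hπsurj hkerG hcop
  set N := Subgroup.normalizer (H : Set G) with hN
  have hHN : H ≤ N := Subgroup.le_normalizer
  let πN : N →* H := πG.comp N.subtype
  have hπNsurj : Function.Surjective πN := fun h => ⟨⟨h, hHN h.2⟩, hπh h⟩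
  have hkerN : πN.ker = K.subgroupOf N := by
    ext x
    rw [MonoidHom.mem_ker, Subgroup.mem_subgroupOf]
    exact hπker x
  have hcomm : ∀ x : G, x ∈ N → x ∈ K → ∀ s ∈ H, s * x = x * s := by
    intro x hxN hxK s hs
    have h1 : x * s * x⁻¹ ∈ H := (Subgroup.mem_normalizer_iff.1 hxN s).1 hs
    have h2 : x * s * x⁻¹ * s⁻¹ ∈ H := H.mul_mem h1 (H.inv_mem hs)
    have h3 : x * s * x⁻¹ * s⁻¹ ∈ K := by
      have h5 : s * x⁻¹ * s⁻¹ ∈ K := hKn.conj_mem _ (K.inv_mem hxK) s
      have h6 := K.mul_mem hxK h5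
      have e : x * (s * x⁻¹ * s⁻¹) = x * s * x⁻¹ * s⁻¹ := by group
      rwa [e] at h6
    have h4 : x * s * x⁻¹ * s⁻¹ ∈ K ⊓ H := ⟨h3, h2⟩
    rw [hKH', Subgroup.mem_bot] at h4
    calc s * x = (x * s * x⁻¹ * s⁻¹) * (s * x) := by rw [h4, one_mul]
      _ = x * s := by group
  have hn : ∀ s ∈ H, ∀ g ∈ K, s * g * s⁻¹ ∈ K := fun s _ g hg => hKn.conj_mem g hg s
  set φ := conjAct K H hn with hφ
  let eC : K.subgroupOf N ≃* fixSub φ :=
    { toFun := fun x => ⟨⟨((x : N) : G), Subgroup.mem_subgroupOf.1 x.2⟩, fun s => Subtype.ext (by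
          show (s : G) * ((x : N) : G) * (s : G)⁻¹ = ((x : N) : G)
          rw [hcomm _ x.1.2 (Subgroup.mem_subgroupOf.1 x.2) s s.2]; group)⟩
      invFun := fun y => ⟨⟨((y : K) : G), by
          apply Subgroup.centralizer_le_normalizer
          rw [Subgroup.mem_centralizer_iff]
          intro s hs
          have h1 : (s : G) * ((y : K) : G) * (s : G)⁻¹ = ((y : K) : G) :=
            congrArg Subtype.val (y.2 ⟨s, hs⟩)
          calc s * ((y : K) : G) = (s * ((y : K) : G) * s⁻¹) * s := by group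
            _ = ((y : K) : G) * s := by rw [h1]⟩, by
          rw [Subgroup.mem_subgroupOf]
          exact y.1.2⟩
      left_inv := fun x => rfl
      right_inv := fun y => rfl
      map_mul' := fun x y => rfl }
  have hcopN : (Nat.card (K.subgroupOf N)).Coprime (Nat.card H) := by
    rw [Nat.card_congr eC.toEquiv]
    exact Nat.Coprime.coprime_dvd_left (Subgroup.card_subgroup_dvd_card _) hcop
  have L2 := card_coprime_degree (K.subgroupOf N) πN hπNsurj hkerN hcopN
  have hA : Nat.card {θ : IrrCharacter K // ∀ (g : G) (n : K),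
      θ.1 ⟨g * n * g⁻¹, hKn.conj_mem n n.2 g⟩ = θ.1 n} = Nat.card (ConjClasses (fixSub φ)) := by
    rw [← count_fix hsolv hcop φ]
    apply Nat.card_congr (Equiv.subtypeEquivRight (fun θ => ?_))
    constructor
    · intro h s n
      exact h (s : G) n
    · intro h g n
      have hg : g ∈ (↑(K ⊔ H) : Set G) := by rw [hKH]; trivial
      rw [Subgroup.normal_mul] at hg
      obtain ⟨k, hk, s, hs, rfl⟩ := Set.mem_mul.1 hg
      have e : (⟨k * s * n * (k * s)⁻¹, hKn.conj_mem n n.2 (k * s)⟩ : K)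
          = ⟨k, hk⟩ * (φ ⟨s, hs⟩ n) * ⟨k, hk⟩⁻¹ := Subtype.ext (by
        show k * s * (n : G) * (k * s)⁻¹ = k * (s * (n : G) * s⁻¹) * k⁻¹
        group)
      rw [e, isClassFunction_irr θ _ _, h]
  have hB : Nat.card {θ : IrrCharacter (K.subgroupOf N) // ∀ (g : N) (n : K.subgroupOf N),
      θ.1 ⟨g * n * g⁻¹, (inferInstance : (K.subgroupOf N).Normal).conj_mem (n : N) n.2 g⟩ = θ.1 n}
      = Nat.card (ConjClasses (fixSub φ)) := by
    rw [← card_conjClasses_congr eC, ← card_irr_eq_card_conjClasses]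
    apply Nat.card_congr (Equiv.subtypeUnivEquiv (fun θ g n => ?_))
    set h : H := πG (g : G) with hh
    have hkK : (g : G) * (h : G)⁻¹ ∈ K := by
      rw [← hπker, map_mul, map_inv, hπh h, hh, mul_inv_cancel]
    have hkN : (g : G) * (h : G)⁻¹ ∈ N := N.mul_mem g.2 (N.inv_mem (hHN h.2))
    let kN : K.subgroupOf N := ⟨⟨(g : G) * (h : G)⁻¹, hkN⟩, Subgroup.mem_subgroupOf.2 hkK⟩
    have hc := hcomm ((n : N) : G) n.1.2 (Subgroup.mem_subgroupOf.1 n.2) (h : G) h.2
    have e : (⟨g * n * g⁻¹, (inferInstance : (K.subgroupOf N).Normal).conj_mem (n : N) n.2 g⟩ : K.subgroupOf N)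
        = kN * n * kN⁻¹ := Subtype.ext (Subtype.ext (by
      show (g : G) * ((n : N) : G) * (g : G)⁻¹
        = (g : G) * (h : G)⁻¹ * ((n : N) : G) * ((g : G) * (h : G)⁻¹)⁻¹
      have e2 : (g : G) * (h : G)⁻¹ * ((n : N) : G) * ((g : G) * (h : G)⁻¹)⁻¹
          = (g : G) * ((h : G)⁻¹ * (((n : N) : G) * (h : G))) * (g : G)⁻¹ := by group
      rw [e2, ← hc]; group))
    rw [e]
    exact isClassFunction_irr θ n kN
  rw [L1, L2, hA, hB]

end Cfsg.Agent.Lib.helper24
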