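import Cfsg.Agent.Lib.helper24.GlaubAbove

set_option autoImplicit false

namespace Cfsg.Agent.Lib.helper24
open Cfsg
open Cfsg.Agent.Lib.helper23 Cfsg.Agent.Lib.helper5
open scoped ComplexConjugate

universe u v

/-- invariant constituents over an invariant character of a normal subgroup contained in a
normal Hall subgroup -/
theorem hall_inv_over {Γ : Type u} [Group Γ] [Fintype Γ] (G N : Subgroup Γ) [hG : G.Normal]
    [hN : N.Normal] [Fintype G] [Fintype N] (hNG : N ≤ G)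
    (hcop : (Nat.card G).Coprime G.index)
    (hsolv : Group.IsSolvable (Γ ⧸ G) ∨ Group.IsSolvable (G ⧸ N.subgroupOf G))
    (θ : IrrCharacter N)
    (hinv : ∀ (x : Γ) (n : N), θ.1 ⟨x * n * x⁻¹, hN.conj_mem n n.2 x⟩ = θ.1 n) :
    ∃ χ : IrrCharacter G, classInner (fun n : N => χ.1 ⟨n, hNG n.2⟩) θ.1 ≠ 0 ∧
      ∀ (x : Γ) (g : G), χ.1 ⟨x * g * x⁻¹, hG.conj_mem g g.2 x⟩ = χ.1 g := by
  classical
  obtain ⟨S, hS⟩ := Subgroup.exists_right_complement'_of_coprime hcop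
  have hcardS : G.index = Nat.card S := hS.symm.index_eq_card
  have hnorm : ∀ s ∈ S, ∀ g ∈ G, s * g * s⁻¹ ∈ G := fun s _ g hg => hG.conj_mem g hg s
  have hNS : ∀ s ∈ S, ∀ n ∈ N, s * n * s⁻¹ ∈ N := fun s _ n hn => hN.conj_mem n hn s
  have hNnormal : ∀ g ∈ G, ∀ n ∈ N, g * n * g⁻¹ ∈ N := fun g _ n hn => hN.conj_mem n hn g
  have hcopS : (Nat.card G).Coprime (Nat.card S) := by
    rw [← hcardS]; exact hcop
  have hinvS : ∀ s ∈ S, ∀ g g' : N, (g' : Γ) = s * g * s⁻¹ → θ.1 g' = θ.1 g := by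
    intro s _ g g' hgg'
    have e : g' = ⟨s * g * s⁻¹, hN.conj_mem g g.2 s⟩ := Subtype.ext hgg'
    rw [e]
    exact hinv s g
  have key : ∃ χ : IrrCharacter G, classInner (fun n : N => χ.1 ⟨n, hNG n.2⟩) θ.1 ≠ 0 ∧
      (∀ s ∈ S, ∀ g g' : G, (g' : Γ) = s * g * s⁻¹ → χ.1 g' = χ.1 g) := by
    rcases hsolv with h | h
    · have hsolvS : Group.IsSolvable S := by
        let f : S →* Γ ⧸ G := (QuotientGroup.mk' G).comp S.subtype
        have hf : Function.Injective f := by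
          rw [injective_iff_map_eq_one]
          intro s hs
          have h1 : (s : Γ) ∈ G := (QuotientGroup.eq_one_iff (s : Γ)).1 hs
          have h2 : (s : Γ) ∈ G ⊓ S := ⟨h1, s.2⟩
          rw [hS.disjoint.eq_bot] at h2
          exact Subtype.ext (Subgroup.mem_bot.1 h2)
        exact solvable_of_solvable_injective hf
      exact exists_inv_over_subgroups G S N hnorm hNG hNnormal hNS hcopS hsolvS θ hinvS
    · have hcop' : (N.relIndex G).Coprime (Nat.card S) := by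
        apply Nat.Coprime.coprime_dvd_left _ hcopS
        exact Subgroup.index_dvd_card _
      exact exists_inv_over_sq_subgroups G S N hnorm hNG hNS hcop' h θ hinvS
  obtain ⟨χ, hχ1, hχ2⟩ := key
  refine ⟨χ, hχ1, ?_⟩
  intro x g
  obtain ⟨⟨g₀, s⟩, hgs, -⟩ := (Subgroup.isComplement_iff_existsUnique.1 hS) x
  have hgs' : (g₀ : Γ) * (s : Γ) = x := hgs
  have h1 : χ.1 ⟨s * g * (s : Γ)⁻¹, hG.conj_mem g g.2 s⟩ = χ.1 g :=
    hχ2 s s.2 g _ rfl
  have h2 := isClassFunction_irr χ ⟨s * g * (s : Γ)⁻¹, hG.conj_mem g g.2 s⟩ ⟨g₀, g₀.2⟩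
  have e : (⟨x * g * x⁻¹, hG.conj_mem g g.2 x⟩ : G)
      = ⟨g₀, g₀.2⟩ * ⟨s * g * (s : Γ)⁻¹, hG.conj_mem g g.2 s⟩ * (⟨g₀, g₀.2⟩ : G)⁻¹ := by
    apply Subtype.ext
    rw [← hgs']
    simp [mul_assoc]
  rw [e, h2, h1]

end Cfsg.Agent.Lib.helper24
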