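import Cfsg.Agent.Lib.helper24.GlaubHall
import Cfsg.Agent.Lib.helper24.CharDet

set_option autoImplicit false

namespace Cfsg.Agent.Lib.helper24
open Cfsg
open Cfsg.Agent.Lib.helper23 Cfsg.Agent.Lib.helper5
open scoped ComplexConjugate

universe u v

/-- raising to a high power of `k` kills the `k`-part of the order -/
theorem orderOf_pow_pow_coprime {M : Type*} [Group M] [Finite M] (x : M) (k : ℕ) (hk : k ≠ 0) :
    (orderOf (x ^ (k ^ orderOf x))).Coprime k := by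
  have hm : orderOf x ≠ 0 := (orderOf_pos x).ne'
  rw [orderOf_pow]
  set m := orderOf x with hm'
  have hg : Nat.gcd m (k ^ m) ∣ m := Nat.gcd_dvd_left _ _
  have hg0 : Nat.gcd m (k ^ m) ≠ 0 := fun h => hm (Nat.eq_zero_of_gcd_eq_zero_left h)
  have hq0 : m / Nat.gcd m (k ^ m) ≠ 0 := by
    intro h
    have := Nat.div_mul_cancel hg
    rw [h, zero_mul] at this
    exact hm this.symm
  apply Nat.coprime_of_dvd
  intro p hp hpq hpk
  have h1 := hp.factorization_pos_of_dvd hq0 hpq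
  have h2 : (m / Nat.gcd m (k ^ m)).factorization p
      = m.factorization p - (Nat.gcd m (k ^ m)).factorization p := by
    rw [Nat.factorization_div hg]; rfl
  have h3 : (Nat.gcd m (k ^ m)).factorization p
      = min (m.factorization p) ((k ^ m).factorization p) := by
    rw [Nat.factorization_gcd hm (pow_ne_zero _ hk)]; rfl
  have h4 : (k ^ m).factorization p = m * k.factorization p := by
    rw [Nat.factorization_pow]; rfl
  have h5 := hp.factorization_pos_of_dvd hk hpk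
  have h6 := Nat.factorization_lt p hm
  have h7 : m.factorization p ≤ (k ^ m).factorization p := by
    rw [h4]
    nlinarith
  rw [h2, h3, min_eq_left h7] at h1
  omega

/-- splitting a linear character into parts of coprime orders -/
theorem elt_split {N : Type u} [Group N] [Finite N] (μ : N) (i j : ℕ) (hi : i ≠ 0)
    (hj : j ≠ 0) (hij : i.Coprime j) :
    ∃ s t : ℤ, μ = μ ^ s * μ ^ t ∧ (orderOf (μ ^ s)).Coprime j ∧ (orderOf (μ ^ t)).Coprime i := by
  set m := orderOf μ with hm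
  have hA := orderOf_pow_pow_coprime μ j hj
  have hB := orderOf_pow_pow_coprime μ i hi
  have hc : IsCoprime ((i ^ m : ℕ) : ℤ) ((j ^ m : ℕ) : ℤ) :=
    Nat.isCoprime_iff_coprime.2 (Nat.Coprime.pow m m hij)
  obtain ⟨u, v, huv⟩ := hc
  refine ⟨v * ((j ^ m : ℕ) : ℤ), u * ((i ^ m : ℕ) : ℤ), ?_, ?_, ?_⟩
  · rw [← zpow_add, add_comm, huv, zpow_one]
  · have e : μ ^ (v * ((j ^ m : ℕ) : ℤ)) = (μ ^ (j ^ m)) ^ v := by
      rw [mul_comm, zpow_mul, zpow_natCast]
    rw [e]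
    apply Nat.Coprime.coprime_dvd_left _ hA
    apply orderOf_dvd_of_pow_eq_one
    rw [← zpow_natCast, ← zpow_mul, mul_comm, zpow_mul, zpow_natCast, pow_orderOf_eq_one, one_zpow]
  · have e : μ ^ (u * ((i ^ m : ℕ) : ℤ)) = (μ ^ (i ^ m)) ^ u := by
      rw [mul_comm, zpow_mul, zpow_natCast]
    rw [e]
    apply Nat.Coprime.coprime_dvd_left _ hB
    apply orderOf_dvd_of_pow_eq_one
    rw [← zpow_natCast, ← zpow_mul, mul_comm, zpow_mul, zpow_natCast, pow_orderOf_eq_one, one_zpow]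

theorem hom_pow_orderOf_apply {N : Type u} [Group N] (f : N →* ℂˣ) (n : N) :
    (f n) ^ orderOf f = 1 := by
  have h := pow_orderOf_eq_one f
  exact congrArg (fun g : N →* ℂˣ => g n) h

section lin

variable {Γ : Type u} [Group Γ]

/-- the invariant linear characters of a normal subgroup -/
def invHoms (N : Subgroup Γ) [hN : N.Normal] : Subgroup (N →* ℂˣ) where
  carrier := {f | ∀ (x : Γ) (n : N), f ⟨x * n * x⁻¹, hN.conj_mem n n.2 x⟩ = f n}
  mul_mem' := by
    intro f f' hf hf' x n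
    show f _ * f' _ = f n * f' n
    rw [hf x n, hf' x n]
  one_mem' := fun x n => rfl
  inv_mem' := by
    intro f hf x n
    show (f _)⁻¹ = (f n)⁻¹
    rw [hf x n]

theorem mem_invHoms (N : Subgroup Γ) [hN : N.Normal] (f : N →* ℂˣ) :
    f ∈ invHoms N ↔ ∀ (x : Γ) (n : N), f ⟨x * n * x⁻¹, hN.conj_mem n n.2 x⟩ = f n := Iff.rfl

/-- an invariant linear character of order prime to the index extends invariantly -/
theorem linear_ext_inv [Finite Γ] (G N : Subgroup Γ) [hG : G.Normal] [hN : N.Normal]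
    (hNG : N ≤ G) (α : N →* ℂˣ) (hinv : α ∈ invHoms N)
    (hcop : (N.relIndex G).Coprime (orderOf α)) :
    ∃ ν : G →* ℂˣ, (∀ n : N, ν ⟨n, hNG n.2⟩ = α n) ∧
      ∀ (x : Γ) (g : G), ν ⟨x * g * x⁻¹, hG.conj_mem g g.2 x⟩ = ν g := by
  classical
  let e := Subgroup.subgroupOfEquivOfLe hNG
  let α₁ : N.subgroupOf G →* ℂˣ := α.comp e.toMonoidHom
  have hinv₁ : ∀ (g : G) (n : N.subgroupOf G),
      α₁ ⟨g * n * g⁻¹, (inferInstance : (N.subgroupOf G).Normal).conj_mem (n : G) n.2 g⟩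
        = α₁ n := by
    intro g n
    show α (e _) = α (e n)
    have e1 : e ⟨g * n * g⁻¹, (inferInstance : (N.subgroupOf G).Normal).conj_mem (n : G) n.2 g⟩
        = ⟨(g : Γ) * (e n : Γ) * (g : Γ)⁻¹, hN.conj_mem _ (e n).2 g⟩ := Subtype.ext rfl
    rw [e1]
    exact hinv (g : Γ) (e n)
  have hdvd : orderOf α₁ ∣ orderOf α :=
    orderOf_dvd_of_pow_eq_one (MonoidHom.ext fun n => hom_pow_orderOf_apply α (e n))
  have hcop₁ : Nat.Coprime (N.subgroupOf G).index (orderOf α₁) :=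
    Nat.Coprime.coprime_dvd_right hdvd hcop
  obtain ⟨ν, hν1, hν2, huniq⟩ := linear_ext_coprime (N.subgroupOf G) α₁ hinv₁ hcop₁
  refine ⟨ν, fun n => ?_, fun x g => ?_⟩
  · exact hν1 ⟨⟨n, hNG n.2⟩, n.2⟩
  · let c : MulAut G := MulAut.conjNormal x
    let ν' : G →* ℂˣ := ν.comp c.toMonoidHom
    have h1 : ∀ n : N.subgroupOf G, ν' n = α₁ n := by
      intro n
      have hmem : c (n : G) ∈ N.subgroupOf G := by
        show ((c (n : G) : G) : Γ) ∈ N
        rw [MulAut.conjNormal_apply]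
        exact hN.conj_mem _ n.2 x
      have h2 := hν1 ⟨c (n : G), hmem⟩
      show ν (c (n : G)) = α₁ n
      rw [h2]
      show α (e _) = α (e n)
      have e1 : e ⟨c (n : G), hmem⟩ = ⟨x * (e n : Γ) * x⁻¹, hN.conj_mem _ (e n).2 x⟩ :=
        Subtype.ext (MulAut.conjNormal_apply x (n : G))
      rw [e1]
      exact hinv x (e n)
    have hdvd' : orderOf ν' ∣ orderOf ν :=
      orderOf_dvd_of_pow_eq_one (MonoidHom.ext fun n => hom_pow_orderOf_apply ν (c n))
    have h3 : Nat.Coprime (N.subgroupOf G).index (orderOf ν') := by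
      apply Nat.Coprime.coprime_dvd_right hdvd'
      rw [hν2]; exact hcop₁
    have h4 := huniq ν' h1 h3
    have h5 := congrArg (fun f : G →* ℂˣ => f g) h4
    have e2 : (⟨x * g * x⁻¹, hG.conj_mem g g.2 x⟩ : G) = c g :=
      Subtype.ext (MulAut.conjNormal_apply x g).symm
    rw [e2]
    exact h5

/-- an irreducible character over an invariant linear character restricts to a multiple -/
theorem restrict_linear_of_over [Fintype Γ] (G N : Subgroup Γ) [hN : N.Normal] [Fintype G]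
    [Fintype N] (hNG : N ≤ G) (χ : IrrCharacter G) (f : N →* ℂˣ) (hinv : f ∈ invHoms N)
    (hover : classInner (fun n : N => χ.1 ⟨n, hNG n.2⟩) (fun n => (f n : ℂ)) ≠ 0) :
    ∀ n : N, χ.1 ⟨n, hNG n.2⟩ = χ.1 1 * (f n : ℂ) := by
  classical
  let e := Subgroup.subgroupOfEquivOfLe hNG
  haveI : Fintype (N.subgroupOf G) := Fintype.ofFinite _
  have hθ₁ : IsIrrCharacter (N.subgroupOf G) ((fun n : N => (f n : ℂ)) ∘ e) :=
    isIrrCharacter_comp_equiv e (isIrrCharacter_of_hom f)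
  have hcon : classInner (fun n : N.subgroupOf G => χ.1 n) ((fun n : N => (f n : ℂ)) ∘ e)
      ≠ 0 := by
    have h1 := classInner_comp_equiv e (fun n : N => χ.1 ⟨n, hNG n.2⟩) (fun n => (f n : ℂ))
    rw [← h1] at hover
    exact hover
  have hinv₁ : ∀ (g : G) (n : N.subgroupOf G), ((fun n : N => (f n : ℂ)) ∘ e)
      ⟨g * n * g⁻¹, (inferInstance : (N.subgroupOf G).Normal).conj_mem (n : G) n.2 g⟩
        = ((fun n : N => (f n : ℂ)) ∘ e) n := by
    intro g n
    show ((f (e _) : ℂˣ) : ℂ) = (f (e n) : ℂ)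
    have e1 : e ⟨g * n * g⁻¹, (inferInstance : (N.subgroupOf G).Normal).conj_mem (n : G) n.2 g⟩
        = ⟨(g : Γ) * (e n : Γ) * (g : Γ)⁻¹, hN.conj_mem _ (e n).2 g⟩ := Subtype.ext rfl
    rw [e1, hinv (g : Γ) (e n)]
  have hres := restrict_eq_smul_of_invariant (N.subgroupOf G) χ.1 χ.2 _ hθ₁ hcon hinv₁
  have hc : classInner (fun n : N.subgroupOf G => χ.1 n) ((fun n : N => (f n : ℂ)) ∘ e)
      = χ.1 1 := by
    have h1 := congrFun hres 1
    have h2 : ((fun n : N => (f n : ℂ)) ∘ e) 1 = 1 := by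
      show ((f (e 1) : ℂˣ) : ℂ) = 1
      rw [map_one, map_one]; rfl
    simp only [Pi.smul_apply, smul_eq_mul] at h1
    rw [h2, mul_one] at h1
    exact h1.symm
  intro n
  have h3 := congrFun hres (e.symm n)
  simp only [Pi.smul_apply, smul_eq_mul] at h3
  rw [hc] at h3
  have h4 : ((fun n : N => (f n : ℂ)) ∘ e) (e.symm n) = (f n : ℂ) := by
    show ((f (e (e.symm n)) : ℂˣ) : ℂ) = (f n : ℂ)
    rw [e.apply_symm_apply]
  rw [h4] at h3
  exact h3

end lin

/-- the linear case with order prime to the upper index: pass to the quotient by the kernel -/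
theorem linear_inv_over_cop {Γ : Type u} [Group Γ] [Fintype Γ] (G N : Subgroup Γ)
    [hG : G.Normal] [hN : N.Normal] [Fintype G] [Fintype N] (hNG : N ≤ G)
    (hcop : (G.index).Coprime (N.relIndex G))
    (hsolv : Group.IsSolvable (Γ ⧸ G) ∨ Group.IsSolvable (G ⧸ N.subgroupOf G))
    (β : N →* ℂˣ) (hinv : β ∈ invHoms N) (hβ : (orderOf β).Coprime G.index) :
    ∃ χ : IrrCharacter G, (∀ n : N, χ.1 ⟨n, hNG n.2⟩ = χ.1 1 * (β n : ℂ)) ∧
      ∀ (x : Γ) (g : G), χ.1 ⟨x * g * x⁻¹, hG.conj_mem g g.2 x⟩ = χ.1 g := by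
  classical
  let K₀ : Subgroup Γ := β.ker.map N.subtype
  have hK₀mem : ∀ x : Γ, x ∈ K₀ ↔ ∃ h : x ∈ N, β ⟨x, h⟩ = 1 := by
    intro x
    constructor
    · rintro ⟨n, hn, rfl⟩
      exact ⟨n.2, hn⟩
    · rintro ⟨h, hx⟩
      exact ⟨⟨x, h⟩, hx, rfl⟩
  have hK₀N : K₀ ≤ N := fun x hx => ((hK₀mem x).1 hx).1
  haveI hK₀n : K₀.Normal := ⟨fun k hk x => by
    obtain ⟨hkN, hk1⟩ := (hK₀mem k).1 hk
    exact (hK₀mem _).2 ⟨hN.conj_mem k hkN x, (hinv x ⟨k, hkN⟩).trans hk1⟩⟩
  let q : Γ →* Γ ⧸ K₀ := QuotientGroup.mk' K₀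
  have hq : Function.Surjective q := QuotientGroup.mk'_surjective K₀
  have hqker : q.ker = K₀ := QuotientGroup.ker_mk' K₀
  haveI : Fintype (Γ ⧸ K₀) := Fintype.ofFinite _
  haveI hGn : (G.map q).Normal := hG.map q hq
  haveI hNn : (N.map q).Normal := hN.map q hq
  have hNG' : N.map q ≤ G.map q := Subgroup.map_mono hNG
  haveI : Fintype (G.map q) := Fintype.ofFinite _
  haveI : Fintype (N.map q) := Fintype.ofFinite _
  let qN : N →* N.map q := q.subgroupMap N
  have hqN : Function.Surjective qN := q.subgroupMap_surjective N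
  let qG : G →* G.map q := q.subgroupMap G
  have hqG : Function.Surjective qG := q.subgroupMap_surjective G
  have hker : qN.ker ≤ β.ker := by
    intro n hn
    rw [MonoidHom.mem_ker] at hn ⊢
    have h1 : q (n : Γ) = 1 := congrArg Subtype.val hn
    have h2 : (n : Γ) ∈ K₀ := by rw [← hqker]; exact h1
    obtain ⟨h, h3⟩ := (hK₀mem _).1 h2
    exact h3
  let β' : N.map q →* ℂˣ := MonoidHom.liftOfSurjective qN hqN ⟨β, hker⟩
  have hβ' : ∀ n : N, β' (qN n) = β n := fun n =>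
    MonoidHom.liftOfRightInverse_comp_apply qN _ (Function.rightInverse_surjInv hqN) ⟨β, hker⟩ n
  let θ' : IrrCharacter (N.map q) := ⟨fun x => (β' x : ℂ), isIrrCharacter_of_hom β'⟩
  have hβ'inv : β' ∈ invHoms (N.map q) := by
    intro x' n'
    obtain ⟨x, rfl⟩ := hq x'
    obtain ⟨n, rfl⟩ := hqN n'
    have e : (⟨q x * (qN n : Γ ⧸ K₀) * (q x)⁻¹, hNn.conj_mem _ (qN n).2 (q x)⟩ : N.map q)
        = qN ⟨x * n * x⁻¹, hN.conj_mem n n.2 x⟩ := Subtype.ext (by
          show q x * q n * (q x)⁻¹ = q (x * n * x⁻¹)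
          rw [map_mul, map_mul, map_inv])
    rw [e, hβ', hβ']
    exact hinv x n
  have hinv' : ∀ (x' : Γ ⧸ K₀) (n' : N.map q),
      θ'.1 ⟨x' * n' * x'⁻¹, hNn.conj_mem n' n'.2 x'⟩ = θ'.1 n' := by
    intro x' n'
    show ((β' _ : ℂˣ) : ℂ) = (β' n' : ℂ)
    rw [hβ'inv x' n']
  have hidx : (G.map q).index = G.index :=
    Subgroup.index_map_eq G hq (by rw [hqker]; exact hK₀N.trans hNG)
  have hcop' : (Nat.card (G.map q)).Coprime (G.map q).index := by
    rw [hidx]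
    apply Nat.coprime_of_dvd
    intro p hp hpG hpi
    haveI : Fact p.Prime := ⟨hp⟩
    obtain ⟨g', hg'⟩ := exists_prime_orderOf_dvd_card' p hpG
    obtain ⟨⟨g, hgG⟩, rfl⟩ := hqG g'
    have hgp : g ^ p ∈ K₀ := by
      rw [← hqker, MonoidHom.mem_ker, map_pow]
      have h1 := pow_orderOf_eq_one (qG ⟨g, hgG⟩)
      rw [hg'] at h1
      exact congrArg Subtype.val h1
    have hg1 : g ∉ K₀ := by
      intro h
      have h1 : qG ⟨g, hgG⟩ = 1 := Subtype.ext (by
        show q g = 1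
        rw [← MonoidHom.mem_ker, hqker]; exact h)
      rw [h1, orderOf_one] at hg'
      exact hp.one_lt.ne hg'
    have hpj : ¬ p ∣ N.relIndex G := by
      intro h
      have := Nat.dvd_gcd hpi h
      rw [Nat.Coprime.gcd_eq_one hcop] at this
      exact hp.one_lt.ne' (Nat.dvd_one.1 this)
    have hgN : g ∈ N := by
      have h1 : ((QuotientGroup.mk ⟨g, hgG⟩ : G ⧸ N.subgroupOf G)) ^ p = 1 := by
        rw [← QuotientGroup.mk_pow, QuotientGroup.eq_one_iff]
        exact hK₀N hgp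
      have h2 : ((QuotientGroup.mk ⟨g, hgG⟩ : G ⧸ N.subgroupOf G)) ^ (N.relIndex G) = 1 := by
        have := pow_card_eq_one' (G := G ⧸ N.subgroupOf G) (x := QuotientGroup.mk ⟨g, hgG⟩)
        rwa [← Subgroup.index_eq_card] at this
      have h3 : orderOf (QuotientGroup.mk ⟨g, hgG⟩ : G ⧸ N.subgroupOf G)
          ∣ Nat.gcd p (N.relIndex G) :=
        Nat.dvd_gcd (orderOf_dvd_of_pow_eq_one h1) (orderOf_dvd_of_pow_eq_one h2)
      have h4 : Nat.gcd p (N.relIndex G) = 1 := (Nat.Prime.coprime_iff_not_dvd hp).2 hpj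
      rw [h4, Nat.dvd_one, orderOf_eq_one_iff, QuotientGroup.eq_one_iff] at h3
      exact h3
    obtain ⟨hgpN, hgp1⟩ := (hK₀mem _).1 hgp
    have hb1 : (β ⟨g, hgN⟩) ^ p = 1 := by
      rw [← map_pow]
      exact hgp1
    have hb2 : β ⟨g, hgN⟩ ≠ 1 := fun h => hg1 ((hK₀mem g).2 ⟨hgN, h⟩)
    have hb3 : orderOf (β ⟨g, hgN⟩) = p := orderOf_eq_prime hb1 hb2
    have hb4 : p ∣ orderOf β := by
      rw [← hb3]
      exact orderOf_dvd_of_pow_eq_one (hom_pow_orderOf_apply β ⟨g, hgN⟩)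
    have := Nat.dvd_gcd hb4 hpi
    rw [Nat.Coprime.gcd_eq_one hβ] at this
    exact hp.one_lt.ne' (Nat.dvd_one.1 this)
  have hsolv' : Group.IsSolvable ((Γ ⧸ K₀) ⧸ G.map q) ∨
      Group.IsSolvable (G.map q ⧸ (N.map q).subgroupOf (G.map q)) := by
    rcases hsolv with h | h
    · left
      let f : Γ ⧸ G →* (Γ ⧸ K₀) ⧸ G.map q :=
        QuotientGroup.map G (G.map q) q (Subgroup.le_comap_map q G)
      have hf : Function.Surjective f := by
        intro y
        induction y using QuotientGroup.induction_on with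
        | H y' =>
          obtain ⟨x, rfl⟩ := hq y'
          exact ⟨QuotientGroup.mk x, rfl⟩
      exact Group.isSolvable_of_surjective hf
    · right
      let f : G ⧸ N.subgroupOf G →* G.map q ⧸ (N.map q).subgroupOf (G.map q) :=
        QuotientGroup.map (N.subgroupOf G) ((N.map q).subgroupOf (G.map q)) qG (by
          intro g hg
          show (qG g : Γ ⧸ K₀) ∈ N.map q
          exact Subgroup.mem_map_of_mem q hg)
      have hf : Function.Surjective f := by
        intro y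
        induction y using QuotientGroup.induction_on with
        | H y' =>
          obtain ⟨x, rfl⟩ := hqG y'
          exact ⟨QuotientGroup.mk x, rfl⟩
      exact Group.isSolvable_of_surjective hf
  obtain ⟨χ', hχ'1, hχ'2⟩ := hall_inv_over (G.map q) (N.map q) hNG' hcop' hsolv' θ' hinv'
  have hres := restrict_linear_of_over (G.map q) (N.map q) hNG' χ' β' hβ'inv hχ'1
  refine ⟨⟨χ'.1 ∘ qG, isIrrCharacter_comp_surjective qG hqG χ'.2⟩, ?_, ?_⟩
  · intro n
    show χ'.1 (qG ⟨n, hNG n.2⟩) = χ'.1 (qG 1) * (β n : ℂ)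
    have e1 : qG ⟨n, hNG n.2⟩ = ⟨qN n, hNG' (qN n).2⟩ := Subtype.ext rfl
    rw [e1, hres, hβ', map_one]
  · intro x g
    show χ'.1 (qG ⟨x * g * x⁻¹, hG.conj_mem g g.2 x⟩) = χ'.1 (qG g)
    have e2 : qG ⟨x * g * x⁻¹, hG.conj_mem g g.2 x⟩
        = ⟨q x * (qG g : Γ ⧸ K₀) * (q x)⁻¹, hGn.conj_mem _ (qG g).2 (q x)⟩ := Subtype.ext (by
          show q (x * g * x⁻¹) = q x * q g * (q x)⁻¹
          rw [map_mul, map_mul, map_inv])
    rw [e2]
    exact hχ'2 (q x) (qG g)

/-- **the linear case**: an invariant linear character of `N` lies under an invariant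
irreducible character of `G` when the indices `|Γ : G|` and `|G : N|` are coprime -/
theorem linear_inv_over {Γ : Type u} [Group Γ] [Fintype Γ] (G N : Subgroup Γ) [hG : G.Normal]
    [hN : N.Normal] [Fintype G] [Fintype N] (hNG : N ≤ G)
    (hcop : (G.index).Coprime (N.relIndex G))
    (hsolv : Group.IsSolvable (Γ ⧸ G) ∨ Group.IsSolvable (G ⧸ N.subgroupOf G))
    (μ : N →* ℂˣ) (hinv : μ ∈ invHoms N) :
    ∃ χ : IrrCharacter G, (∀ n : N, χ.1 ⟨n, hNG n.2⟩ = χ.1 1 * (μ n : ℂ)) ∧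
      ∀ (x : Γ) (g : G), χ.1 ⟨x * g * x⁻¹, hG.conj_mem g g.2 x⟩ = χ.1 g := by
  classical
  have hi : G.index ≠ 0 := Subgroup.index_ne_zero_of_finite
  have hj : N.relIndex G ≠ 0 := Subgroup.index_ne_zero_of_finite
  obtain ⟨s, t, hμ, hs, ht⟩ := elt_split μ G.index (N.relIndex G) hi hj hcop
  have hα : μ ^ s ∈ invHoms N := Subgroup.zpow_mem _ hinv s
  have hβ : μ ^ t ∈ invHoms N := Subgroup.zpow_mem _ hinv t
  obtain ⟨ν, hν1, hν2⟩ := linear_ext_inv G N hNG (μ ^ s) hα hs.symm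
  obtain ⟨χ', hχ'1, hχ'2⟩ := linear_inv_over_cop G N hNG hcop hsolv (μ ^ t) hβ ht
  refine ⟨⟨fun g => (ν g : ℂ) * χ'.1 g, isIrrCharacter_hom_mul ν χ'.2⟩, ?_, ?_⟩
  · intro n
    show (ν ⟨n, hNG n.2⟩ : ℂ) * χ'.1 ⟨n, hNG n.2⟩ = ((ν 1 : ℂˣ) : ℂ) * χ'.1 1 * (μ n : ℂ)
    have h1 : (μ n : ℂ) = ((μ ^ s) n : ℂ) * ((μ ^ t) n : ℂ) := by
      have h2 := congrArg (fun f : N →* ℂˣ => (f n : ℂ)) hμ
      exact h2.trans (Units.val_mul _ _)
    rw [hν1, hχ'1, h1, map_one]
    push_cast; ring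
  · intro x g
    show (ν _ : ℂ) * χ'.1 _ = (ν g : ℂ) * χ'.1 g
    rw [hν2, hχ'2]

end Cfsg.Agent.Lib.helper24
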