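import Cfsg.Agent.Lib.helper24.GlaubExt
import Cfsg.Agent.Lib.helper22.CliffDeg

set_option autoImplicit false

namespace Cfsg.Agent.Lib.helper24
open Cfsg
open Cfsg.Agent.Lib.helper23 Cfsg.Agent.Lib.helper5
open scoped ComplexConjugate

universe u v

section subact

variable {G : Type u} [Group G] {A : Type v} [Group A]

/-- the action restricted to a stable subgroup -/
def subAct (φ : A →* MulAut G) (N : Subgroup G) (hNs : ∀ a, ∀ n ∈ N, φ a n ∈ N) :
    A →* MulAut N where
  toFun a :=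
    { toFun := fun b => ⟨φ a b.1, hNs a b.1 b.2⟩
      invFun := fun b => ⟨φ a⁻¹ b.1, hNs a⁻¹ b.1 b.2⟩
      left_inv := fun b => Subtype.ext (by
        show φ a⁻¹ (φ a b.1) = b.1
        rw [← MulAut.mul_apply, ← map_mul, inv_mul_cancel, map_one]; rfl)
      right_inv := fun b => Subtype.ext (by
        show φ a (φ a⁻¹ b.1) = b.1
        rw [← MulAut.mul_apply, ← map_mul, mul_inv_cancel, map_one]; rfl)
      map_mul' := fun x y => Subtype.ext (by
        show φ a (x.1 * y.1) = φ a x.1 * φ a y.1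
        rw [map_mul]) }
  map_one' := MulEquiv.ext fun b => Subtype.ext (by
    show φ 1 b.1 = b.1
    rw [map_one]; rfl)
  map_mul' := fun a a' => MulEquiv.ext fun b => Subtype.ext (by
    show φ (a * a') b.1 = φ a (φ a' b.1)
    rw [map_mul]; rfl)

theorem subAct_apply (φ : A →* MulAut G) (N : Subgroup G) (hNs : ∀ a, ∀ n ∈ N, φ a n ∈ N)
    (a : A) (b : N) : ((subAct φ N hNs a b : N) : G) = φ a b := rfl

/-- fixed points on a stable subgroup, as a subgroup of the fixed points -/
def subFixEquiv (φ : A →* MulAut G) (N : Subgroup G) (hNs : ∀ a, ∀ n ∈ N, φ a n ∈ N) :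
    fixSub (subAct φ N hNs) ≃* N.subgroupOf (fixSub φ) where
  toFun x := ⟨⟨x.1.1, fun a => congrArg Subtype.val (x.2 a)⟩, x.1.2⟩
  invFun y := ⟨⟨y.1.1, y.2⟩, fun a => Subtype.ext (y.1.2 a)⟩
  left_inv x := rfl
  right_inv y := rfl
  map_mul' x y := rfl

end subact

/-- the multiplicity of an irreducible constituent of the restriction to a normal subgroup
divides the index -/
theorem mult_dvd_index {G : Type u} [Group G] [Fintype G] (N : Subgroup G) [hN : N.Normal]
    [Fintype N] (χ : IrrCharacter G) (θ : IrrCharacter N) (e : ℕ)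
    (he : classInner (fun n : N => χ.1 n) θ.1 = e) (he0 : e ≠ 0) : e ∣ N.index := by
  classical
  have hcon : classInner (fun n : N => χ.1 n) θ.1 ≠ 0 := by
    rw [he]; exact_mod_cast he0
  have h1 := Cfsg.Agent.Lib.helper23.clifford_restrict N hN χ.1 χ.2 θ.1 θ.2 hcon
  rw [he] at h1
  set S : Set (N → ℂ) :=
    {ψ | ∃ g : G, ψ = fun n : N => θ.1 ⟨g * n * g⁻¹, hN.conj_mem n n.2 g⟩} with hS
  have hSfin : S.Finite := by
    have : S = Set.range (fun g : G => fun n : N => θ.1 ⟨g * n * g⁻¹, hN.conj_mem n n.2 g⟩) := by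
      ext ψ
      constructor
      · rintro ⟨g, rfl⟩
        exact ⟨g, rfl⟩
      · rintro ⟨g, rfl⟩
        exact ⟨g, rfl⟩
    rw [this]
    exact Set.finite_range _
  have h2 := congrFun h1 1
  rw [finsum_mem_eq_finite_toFinset_sum _ hSfin] at h2
  simp only [Pi.smul_apply, Finset.sum_apply, smul_eq_mul] at h2
  have h3 : ∀ ψ ∈ hSfin.toFinset, ψ 1 = θ.1 1 := by
    intro ψ hψ
    rw [Set.Finite.mem_toFinset] at hψ
    obtain ⟨g, rfl⟩ := hψ
    show θ.1 ⟨g * ((1 : N) : G) * g⁻¹, _⟩ = θ.1 1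
    exact congrArg θ.1 (Subtype.ext (by simp))
  rw [Finset.sum_congr rfl h3, Finset.sum_const] at h2
  have h6 := charDegree_cast χ
  have h7 := charDegree_cast θ
  have h8 : χ.1 ((1 : N) : G) = χ.1 1 := rfl
  have h5 : charDegree χ.1 = e * hSfin.toFinset.card * charDegree θ.1 := by
    have : ((charDegree χ.1 : ℕ) : ℂ) = ((e * hSfin.toFinset.card * charDegree θ.1 : ℕ) : ℂ) := by
      rw [h6, ← h8, h2]
      push_cast
      rw [h7]
      simp
      ring
    exact_mod_cast this
  obtain ⟨hd1, hd2⟩ := degree_ratio_dvd_index N χ.1 χ.2 θ.1 θ.2 hcon (charDegree χ.1)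
    (charDegree θ.1) h6.symm h7.symm
  have hpos : 0 < charDegree θ.1 := by
    rcases Nat.eq_zero_or_pos (charDegree θ.1) with h | h
    · exfalso
      rw [h] at h7
      exact irr_one_ne_zero θ (by rw [← h7]; simp)
    · exact h
  have h9 : charDegree χ.1 / charDegree θ.1 = e * hSfin.toFinset.card := by
    rw [h5, Nat.mul_div_cancel _ hpos]
  rw [h9] at hd2
  exact dvd_trans (Dvd.intro _ rfl) hd2

/-- compatibility of the `p`-group Glauberman correspondence with lying over a stable normal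
subgroup -/
theorem over_p {G : Type u} [Group G] [Finite G] {A : Type v} [Group A] [Finite A]
    (p : ℕ) [Fact p.Prime] (hA : IsPGroup p A) (hpG : ¬ p ∣ Nat.card G) (φ : A →* MulAut G)
    (N : Subgroup G) [hN : N.Normal] (hNs : ∀ a, ∀ n ∈ N, φ a n ∈ N)
    [Fintype N] [Fintype (fixSub φ)] [Fintype (N.subgroupOf (fixSub φ))]
    (χ : IrrCharacter G) (hχ : IsInvFun φ χ.1)
    (θ : IrrCharacter N) (hθ : IsInvFun (subAct φ N hNs) θ.1)
    (β : IrrCharacter (fixSub φ)) (m : ℕ)
    (hm : classInner (fun c : fixSub φ => χ.1 c) β.1 = m) (hpm : ¬ p ∣ m)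
    (η : IrrCharacter (N.subgroupOf (fixSub φ))) (m' : ℕ)
    (hm' : classInner (fun d : N.subgroupOf (fixSub φ) => θ.1 ⟨d.1.1, d.2⟩) η.1 = m')
    (hpm' : ¬ p ∣ m')
    (hover : classInner (fun d : N.subgroupOf (fixSub φ) => β.1 d.1) η.1 ≠ 0) :
    classInner (fun n : N => χ.1 n) θ.1 ≠ 0 := by
  classical
  have hp : p.Prime := Fact.out
  haveI : Fintype G := Fintype.ofFinite G
  haveI : Fintype (IrrCharacter G) := Fintype.ofFinite _
  haveI : Fintype (IrrCharacter N) := Fintype.ofFinite _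
  haveI : Fintype (IrrCharacter (fixSub φ)) := Fintype.ofFinite _
  haveI : Fintype (fixSub (subAct φ N hNs)) := Fintype.ofFinite _
  obtain ⟨M, hM⟩ := exists_isPModular p hp
  have hMp := isPModular_isPrime hM
  obtain ⟨a1, -, -, -⟩ := glauberman_p p hA hpG φ
  have hpN : ¬ p ∣ Nat.card N := fun h => hpG (dvd_trans h (Subgroup.card_subgroup_dvd_card N))
  obtain ⟨-, -, b3, -⟩ := glauberman_p p hA hpN (subAct φ N hNs)
  -- multiplicities
  have hex_a : ∀ β' : IrrCharacter (fixSub φ), ∃ k : ℕ,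
      classInner (fun c : fixSub φ => χ.1 c) β'.1 = k :=
    fun β' => isCharacter_inner_irr_nat (isCharacter_restrict (fixSub φ) (isCharacter_irr χ)) β'
  choose a ha using hex_a
  have hex_b : ∀ β' : IrrCharacter (fixSub φ), ∃ k : ℕ,
      classInner (fun d : N.subgroupOf (fixSub φ) => β'.1 d.1) η.1 = k :=
    fun β' => isCharacter_inner_irr_nat
      (isCharacter_restrict (N.subgroupOf (fixSub φ)) (isCharacter_irr β')) η
  choose b hb using hex_b
  have hex_c : ∀ θ' : IrrCharacter N, ∃ k : ℕ, classInner (fun n : N => χ.1 n) θ'.1 = k :=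
    fun θ' => isCharacter_inner_irr_nat (isCharacter_restrict N (isCharacter_irr χ)) θ'
  choose c hc using hex_c
  let ι : N.subgroupOf (fixSub φ) →* N :=
    { toFun := fun d => ⟨d.1.1, d.2⟩, map_one' := rfl, map_mul' := fun _ _ => rfl }
  have hex_d : ∀ θ' : IrrCharacter N, ∃ k : ℕ,
      classInner (fun d : N.subgroupOf (fixSub φ) => θ'.1 ⟨d.1.1, d.2⟩) η.1 = k :=
    fun θ' => isCharacter_inner_irr_nat (isCharacter_comp ι (isCharacter_irr θ')) η
  choose d hd using hex_d
  -- two expansions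
  have hχC : (fun x : N.subgroupOf (fixSub φ) => χ.1 x.1.1)
      = ∑ β' : IrrCharacter (fixSub φ),
          (a β' : ℂ) • (fun x : N.subgroupOf (fixSub φ) => β'.1 x.1) := by
    funext x
    have h := classFunction_expansion_apply (f := fun c : fixSub φ => χ.1 c)
      (isCharacter_conj_class (isCharacter_restrict (fixSub φ) (isCharacter_irr χ))) x.1
    rw [Finset.sum_apply]
    simp only [Pi.smul_apply, smul_eq_mul]
    refine h.trans ?_
    exact Finset.sum_congr rfl (fun β' _ => by rw [ha])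
  have hχN : (fun x : N.subgroupOf (fixSub φ) => χ.1 x.1.1)
      = ∑ θ' : IrrCharacter N,
          (c θ' : ℂ) • (fun x : N.subgroupOf (fixSub φ) => θ'.1 ⟨x.1.1, x.2⟩) := by
    funext x
    have h := classFunction_expansion_apply (f := fun n : N => χ.1 n)
      (isCharacter_conj_class (isCharacter_restrict N (isCharacter_irr χ))) ⟨x.1.1, x.2⟩
    rw [Finset.sum_apply]
    simp only [Pi.smul_apply, smul_eq_mul]
    refine h.trans ?_
    exact Finset.sum_congr rfl (fun θ' _ => by rw [hc])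
  have hkey : ∑ β' : IrrCharacter (fixSub φ), (a β' * b β' : ℕ)
      = ∑ θ' : IrrCharacter N, (c θ' * d θ' : ℕ) := by
    have h1 : classInner (fun x : N.subgroupOf (fixSub φ) => χ.1 x.1.1) η.1
        = ∑ β' : IrrCharacter (fixSub φ), ((a β' * b β' : ℕ) : ℂ) := by
      rw [hχC, classInner_sum_left]
      refine Finset.sum_congr rfl (fun β' _ => ?_)
      rw [classInner_smul_left, hb]; push_cast; ring
    have h2 : classInner (fun x : N.subgroupOf (fixSub φ) => χ.1 x.1.1) η.1
        = ∑ θ' : IrrCharacter N, ((c θ' * d θ' : ℕ) : ℂ) := by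
      rw [hχN, classInner_sum_left]
      refine Finset.sum_congr rfl (fun θ' _ => ?_)
      rw [classInner_smul_left, hd]; push_cast; ring
    have h3 := h1.symm.trans h2
    exact_mod_cast h3
  -- left side
  have hL : (∑ β' : IrrCharacter (fixSub φ), (a β' * b β' : ℕ)) ≡ m * b β [MOD p] := by
    rw [← Finset.add_sum_erase Finset.univ _ (Finset.mem_univ β)]
    have ham : a β = m := by
      have := (ha β).symm.trans hm
      exact_mod_cast this
    rw [ham]
    have h0 : (∑ β' ∈ Finset.univ.erase β, a β' * b β') ≡ 0 [MOD p] := by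
      rw [Nat.modEq_zero_iff_dvd]
      apply Finset.dvd_sum
      intro β' hβ'
      have hne : β' ≠ β := (Finset.mem_erase.1 hβ').1
      have : p ∣ a β' := by
        by_contra hnd
        obtain ⟨β₀, -, huniq⟩ := a1 χ hχ
        exact hne ((huniq β' ⟨a β', ha β', hnd⟩).trans (huniq β ⟨m, hm, hpm⟩).symm)
      exact Dvd.dvd.mul_right this _
    have := Nat.ModEq.add_left (m * b β) h0
    simpa using this
  -- right side
  let η' : IrrCharacter (fixSub (subAct φ N hNs)) := irrCongr (subFixEquiv φ N hNs) η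
  have hkeyd : ∀ θ' : IrrCharacter N,
      classInner (fun x : fixSub (subAct φ N hNs) => θ'.1 x) η'.1 = d θ' := by
    intro θ'
    have := classInner_comp_equiv (subFixEquiv φ N hNs)
      (fun x : N.subgroupOf (fixSub φ) => θ'.1 ⟨x.1.1, x.2⟩) η.1
    exact this.trans (hd θ')
  have hR : (∑ θ' : IrrCharacter N, (c θ' * d θ' : ℕ)) ≡ c θ * m' [MOD p] := by
    rw [← Fintype.sum_subtype_add_sum_subtype
      (fun θ' : IrrCharacter N => IsInvFun (subAct φ N hNs) θ'.1) (fun θ' => c θ' * d θ')]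
    have hnon : p ∣ ∑ θ' : {θ' : IrrCharacter N // ¬ IsInvFun (subAct φ N hNs) θ'.1},
        c θ'.1 * d θ'.1 := by
      let _ := actNonInv (subAct φ N hNs)
      have h := memLocalIdeal_sum_of_no_fixed hM hA
        (fun θ' : {θ' : IrrCharacter N // ¬ IsInvFun (subAct φ N hNs) θ'.1} =>
          ((c θ'.1 * d θ'.1 : ℕ) : ℂ)) ?_ ?_ ?_
      · rw [← Nat.cast_sum] at h
        exact (memLocalIdeal_natCast_iff hM _).1 h
      · intro s θ'
        have hsm : ∀ x : N, (s • θ').1.1 x = θ'.1.1 (subAct φ N hNs s⁻¹ x) := fun x => rfl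
        have e1 : c (s • θ').1 = c θ'.1 := by
          have h1 := classInner_comp_equiv (subAct φ N hNs s⁻¹) (fun n : N => χ.1 n) θ'.1.1
          have h2 : (fun n : N => χ.1 (n : G)) ∘ (subAct φ N hNs s⁻¹) = fun n : N => χ.1 n := by
            funext n
            exact hχ s⁻¹ n
          rw [h2] at h1
          have h3 : (s • θ').1.1 = θ'.1.1 ∘ (subAct φ N hNs s⁻¹) := rfl
          have h4 := (hc (s • θ').1).symm.trans ((congrArg _ h3).trans (h1.trans (hc θ'.1)))
          exact_mod_cast h4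
        have e2 : d (s • θ').1 = d θ'.1 := by
          have h3 : (fun x : N.subgroupOf (fixSub φ) => (s • θ').1.1 ⟨x.1.1, x.2⟩)
              = fun x : N.subgroupOf (fixSub φ) => θ'.1.1 ⟨x.1.1, x.2⟩ := by
            funext x
            rw [hsm]
            exact congrArg θ'.1.1 (Subtype.ext (x.1.2 s⁻¹))
          have h4 := (hd (s • θ').1).symm.trans ((congrArg (fun f => classInner f η.1) h3).trans
            (hd θ'.1))
          exact_mod_cast h4
        show (((c (s • θ').1 * d (s • θ').1 : ℕ)) : ℂ) = ((c θ'.1 * d θ'.1 : ℕ) : ℂ)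
        rw [e1, e2]
      · intro θ'
        exact memLocalRing_natCast hMp.ne_top _
      · intro θ'
        by_contra hcon
        push Not at hcon
        apply θ'.2
        intro s n
        have h1 := congrArg (fun x => x.1.1 n) (hcon s⁻¹)
        have h2 : (s⁻¹ • θ').1.1 n = θ'.1.1 (subAct φ N hNs s⁻¹⁻¹ n) := rfl
        rw [inv_inv] at h2
        exact h2.symm.trans h1
    have hinvpart : (∑ θ' : {θ' : IrrCharacter N // IsInvFun (subAct φ N hNs) θ'.1},
        c θ'.1 * d θ'.1) ≡ c θ * m' [MOD p] := by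
      rw [← Finset.add_sum_erase Finset.univ _ (Finset.mem_univ
        (⟨θ, hθ⟩ : {θ' : IrrCharacter N // IsInvFun (subAct φ N hNs) θ'.1}))]
      have hdm : d θ = m' := by
        have := (hd θ).symm.trans hm'
        exact_mod_cast this
      show c θ * d θ + _ ≡ _ [MOD p]
      rw [hdm]
      have h0 : (∑ θ' ∈ Finset.univ.erase
          (⟨θ, hθ⟩ : {θ' : IrrCharacter N // IsInvFun (subAct φ N hNs) θ'.1}),
          c θ'.1 * d θ'.1) ≡ 0 [MOD p] := by
        rw [Nat.modEq_zero_iff_dvd]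
        apply Finset.dvd_sum
        intro θ' hθ'
        have hne : θ' ≠ ⟨θ, hθ⟩ := (Finset.mem_erase.1 hθ').1
        have : p ∣ d θ'.1 := by
          by_contra hnd
          apply hne
          apply Subtype.ext
          exact b3 θ'.1 θ θ'.2 hθ η' (d θ'.1) m' (hkeyd θ'.1) hnd
            ((hkeyd θ).trans (by rw [hdm])) hpm'
        exact Dvd.dvd.mul_left this _
      have := Nat.ModEq.add_left (c θ * m') h0
      simpa using this
    have h5 := Nat.ModEq.add hinvpart ((Nat.modEq_zero_iff_dvd).2 hnon)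
    simpa using h5
  have hfin : m * b β ≡ c θ * m' [MOD p] := hL.symm.trans (hkey ▸ hR)
  have hbβ : ¬ p ∣ b β := by
    have hb0 : b β ≠ 0 := by
      intro h0
      apply hover
      rw [hb β, h0]; simp
    have h1 := mult_dvd_index (N.subgroupOf (fixSub φ)) β η (b β) (hb β) hb0
    intro hdiv
    apply hpG
    have h2 : (N.subgroupOf (fixSub φ)).index ∣ Nat.card (fixSub φ) := Subgroup.index_dvd_card _
    exact dvd_trans hdiv (dvd_trans h1 (dvd_trans h2 (Subgroup.card_subgroup_dvd_card _)))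
  intro hzero
  have hc0 : c θ = 0 := by
    have := (hc θ).symm.trans hzero
    exact_mod_cast this
  rw [hc0, zero_mul] at hfin
  have h3 : p ∣ m * b β := (Nat.modEq_zero_iff_dvd).1 hfin
  rcases hp.dvd_mul.1 h3 with h | h
  · exact hpm h
  · exact hbβ h

/-- the Glauberman correspondent of an invariant character of a stable subgroup, as a
character of the intersection with the fixed points -/
theorem glauberman_sub {G : Type u} [Group G] [Finite G] {A : Type v} [Group A] [Finite A]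
    (p : ℕ) [Fact p.Prime] (hA : IsPGroup p A) (hpG : ¬ p ∣ Nat.card G) (φ : A →* MulAut G)
    (N : Subgroup G) (hNs : ∀ a, ∀ n ∈ N, φ a n ∈ N)
    [Fintype N] [Fintype (N.subgroupOf (fixSub φ))]
    (θ : IrrCharacter N) (hθ : IsInvFun (subAct φ N hNs) θ.1) :
    ∃ η : IrrCharacter (N.subgroupOf (fixSub φ)),
      (∃ m : ℕ, classInner (fun d : N.subgroupOf (fixSub φ) => θ.1 ⟨d.1.1, d.2⟩) η.1 = m
        ∧ ¬ p ∣ m) ∧
      ∀ η' : IrrCharacter (N.subgroupOf (fixSub φ)),
        (∃ m : ℕ, classInner (fun d : N.subgroupOf (fixSub φ) => θ.1 ⟨d.1.1, d.2⟩) η'.1 = m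
          ∧ ¬ p ∣ m) → η' = η := by
  classical
  haveI : Fintype (fixSub (subAct φ N hNs)) := Fintype.ofFinite _
  have hpN : ¬ p ∣ Nat.card N := fun h => hpG (dvd_trans h (Subgroup.card_subgroup_dvd_card N))
  obtain ⟨b1, -, -, -⟩ := glauberman_p p hA hpN (subAct φ N hNs)
  obtain ⟨η₀, ⟨m', hm', hpm'⟩, huniq⟩ := b1 θ hθ
  have hkey : ∀ η' : IrrCharacter (N.subgroupOf (fixSub φ)),
      classInner (fun x : fixSub (subAct φ N hNs) => θ.1 x)
        (irrCongr (subFixEquiv φ N hNs) η').1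
      = classInner (fun d : N.subgroupOf (fixSub φ) => θ.1 ⟨d.1.1, d.2⟩) η'.1 := by
    intro η'
    exact classInner_comp_equiv (subFixEquiv φ N hNs)
      (fun x : N.subgroupOf (fixSub φ) => θ.1 ⟨x.1.1, x.2⟩) η'.1
  refine ⟨(irrCongr (subFixEquiv φ N hNs)).symm η₀, ⟨m', ?_, hpm'⟩, ?_⟩
  · rw [← hkey, Equiv.apply_symm_apply]
    exact hm'
  · rintro η' ⟨m, hm, hpm⟩
    rw [Equiv.eq_symm_apply]
    exact huniq _ ⟨m, (hkey η').trans hm, hpm⟩

theorem exists_inv_over_aux : ∀ (n : ℕ) {A : Type v} [Group A] [Finite A] {G : Type u} [Group G]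
    [Finite G], Nat.card A = n → Group.IsSolvable A → (Nat.card G).Coprime (Nat.card A) →
    ∀ (φ : A →* MulAut G) (N : Subgroup G) [N.Normal] (hNs : ∀ a, ∀ n ∈ N, φ a n ∈ N)
      [Fintype N] (θ : IrrCharacter N), IsInvFun (subAct φ N hNs) θ.1 →
      ∃ χ : IrrCharacter G, IsInvFun φ χ.1 ∧ classInner (fun n : N => χ.1 n) θ.1 ≠ 0 := by
  intro n
  induction n using Nat.strong_induction_on with
  | _ n ih =>
  intro A _ _ G _ _ hn hsolv hcop φ N hNn hNs hFN θ hθ
  classical
  rcases subsingleton_or_nontrivial A with hsub | hnt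
  · obtain ⟨χ, hχ⟩ := Cfsg.Agent.Lib.helper22.exists_irr_over N θ.2
    refine ⟨χ, ?_, hχ⟩
    intro a g
    rw [Subsingleton.elim a 1, map_one]; rfl
  · obtain ⟨p, T, hp, hTn, hTbot, hTp⟩ := Cfsg.Agent.Lib.helper8.exists_normal_pgroup A
    haveI : Fact p.Prime := ⟨hp⟩
    haveI := hTn
    have hT1 : Nat.card T ≠ 1 := fun h => hTbot (Subgroup.card_eq_one.1 h)
    have hpT : p ∣ Nat.card T := hTp.card_eq_or_dvd.resolve_left hT1
    have hpA : p ∣ Nat.card A := hpT.trans (Subgroup.card_subgroup_dvd_card T)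
    have hpG : ¬ p ∣ Nat.card G := by
      intro h
      have := Nat.dvd_gcd h hpA
      rw [Nat.Coprime.gcd_eq_one hcop] at this
      exact hp.one_lt.ne' (Nat.dvd_one.1 this)
    have hcardT : Nat.card A = Nat.card (A ⧸ T) * Nat.card T :=
      Subgroup.card_eq_card_quotient_mul_card_subgroup T
    have hlt : Nat.card (A ⧸ T) < n := by
      rw [← hn, hcardT]
      have hpos : 0 < Nat.card (A ⧸ T) := Nat.card_pos
      have h2 : 2 ≤ Nat.card T := by
        have : 0 < Nat.card T := Nat.card_pos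
        omega
      nlinarith
    have hcop' : (Nat.card (fixSub (φ.comp T.subtype))).Coprime (Nat.card (A ⧸ T)) := by
      apply Nat.Coprime.coprime_dvd_left (Subgroup.card_subgroup_dvd_card _)
      apply Nat.Coprime.coprime_dvd_right _ hcop
      exact ⟨Nat.card T, hcardT⟩
    have hsolv' : Group.IsSolvable (A ⧸ T) := by
      haveI := hsolv
      infer_instance
    haveI : Fintype (fixSub (φ.comp T.subtype)) := Fintype.ofFinite _
    haveI : Fintype G := Fintype.ofFinite _
    haveI : Fintype (N.subgroupOf (fixSub (φ.comp T.subtype))) := Fintype.ofFinite _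
    have hNsT : ∀ t : T, ∀ n ∈ N, (φ.comp T.subtype) t n ∈ N := fun t n hn => hNs (t : A) n hn
    have hN's : ∀ q : A ⧸ T, ∀ d ∈ N.subgroupOf (fixSub (φ.comp T.subtype)),
        quotAct φ T q d ∈ N.subgroupOf (fixSub (φ.comp T.subtype)) := by
      intro q d hd
      induction q using QuotientGroup.induction_on with
      | H a => exact hNs a d.1 hd
    have hθT : IsInvFun (subAct (φ.comp T.subtype) N hNsT) θ.1 := fun t n => hθ (t : A) n
    obtain ⟨η, ⟨m', hm', hpm'⟩, huniq⟩ :=
      glauberman_sub p hTp hpG (φ.comp T.subtype) N hNsT θ hθT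
    have hηinv : IsInvFun (subAct (quotAct φ T) (N.subgroupOf (fixSub (φ.comp T.subtype))) hN's)
        η.1 := by
      intro q d
      induction q using QuotientGroup.induction_on with
      | H a =>
        let σ : MulAut (N.subgroupOf (fixSub (φ.comp T.subtype))) :=
          subAct (quotAct φ T) (N.subgroupOf (fixSub (φ.comp T.subtype))) hN's
            (QuotientGroup.mk a)
        let ηa : IrrCharacter (N.subgroupOf (fixSub (φ.comp T.subtype))) :=
          ⟨η.1 ∘ σ, isIrrCharacter_comp_equiv σ η.2⟩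
        have h1 := classInner_comp_equiv σ
          (fun d : N.subgroupOf (fixSub (φ.comp T.subtype)) => θ.1 ⟨d.1.1, d.2⟩) η.1
        have h2 : (fun d : N.subgroupOf (fixSub (φ.comp T.subtype)) => θ.1 ⟨d.1.1, d.2⟩) ∘ σ
            = fun d : N.subgroupOf (fixSub (φ.comp T.subtype)) => θ.1 ⟨d.1.1, d.2⟩ := by
          funext d
          exact hθ a ⟨d.1.1, d.2⟩
        rw [h2] at h1
        have h3 : ηa = η := huniq ηa ⟨m', h1.trans hm', hpm'⟩
        exact congrFun (congrArg Subtype.val h3) d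
    obtain ⟨β, hβinv, hβover⟩ := ih (Nat.card (A ⧸ T)) hlt (A := A ⧸ T)
      (G := fixSub (φ.comp T.subtype)) rfl hsolv' hcop' (quotAct φ T)
      (N.subgroupOf (fixSub (φ.comp T.subtype))) hN's η hηinv
    obtain ⟨-, -, a3, a4⟩ := glauberman_p p hTp hpG (φ.comp T.subtype)
    obtain ⟨χ, hχT, m, hm, hpm⟩ := a4 β
    have hχA : IsInvFun φ χ.1 := by
      intro a g
      let χa : IrrCharacter G := ⟨χ.1 ∘ (φ a), isIrrCharacter_comp_equiv (φ a) χ.2⟩
      have hχaT : IsInvFun (φ.comp T.subtype) χa.1 := by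
        intro t g
        show χ.1 (φ a (φ (t : A) g)) = χ.1 (φ a g)
        have h1 : φ a (φ (t : A) g) = φ (a * t * a⁻¹) (φ a g) := by
          rw [← MulAut.mul_apply, ← MulAut.mul_apply, ← map_mul, ← map_mul]
          congr 2; group
        have h2 : a * t * a⁻¹ ∈ T := hTn.conj_mem t t.2 a
        rw [h1]
        exact hχT ⟨_, h2⟩ (φ a g)
      have h1 := classInner_comp_equiv (resAct φ T a)
        (fun c : fixSub (φ.comp T.subtype) => χ.1 c) β.1
      have h2 : β.1 ∘ (resAct φ T a) = β.1 := by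
        funext b
        exact hβinv (QuotientGroup.mk a) b
      rw [h2] at h1
      have h3 : classInner (fun c : fixSub (φ.comp T.subtype) => χa.1 c) β.1 = m := h1.trans hm
      have h4 : χa = χ := a3 χa χ hχaT hχT β m m h3 hpm hm hpm
      exact congrFun (congrArg Subtype.val h4) g
    refine ⟨χ, hχA, ?_⟩
    exact over_p p hTp hpG (φ.comp T.subtype) N hNsT χ hχT θ hθT β m hm hpm η m' hm' hpm' hβover

/-- **Invariant constituents above an invariant character** (Isaacs 13.31 for solvable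
operator groups), abstract form. -/
theorem exists_inv_over {A : Type v} [Group A] [Finite A] {G : Type u} [Group G] [Finite G]
    (hsolv : Group.IsSolvable A) (hcop : (Nat.card G).Coprime (Nat.card A))
    (φ : A →* MulAut G) (N : Subgroup G) [N.Normal] (hNs : ∀ a, ∀ n ∈ N, φ a n ∈ N)
    [Fintype N] (θ : IrrCharacter N) (hθ : IsInvFun (subAct φ N hNs) θ.1) :
    ∃ χ : IrrCharacter G, IsInvFun φ χ.1 ∧ classInner (fun n : N => χ.1 n) θ.1 ≠ 0 :=
  exists_inv_over_aux (Nat.card A) rfl hsolv hcop φ N hNs θ hθ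

/-- subgroup form -/
theorem exists_inv_over_subgroups {Γ : Type u} [Group Γ] [Fintype Γ] (G S N : Subgroup Γ)
    [Fintype G] [Fintype N]
    (hnorm : ∀ s ∈ S, ∀ g ∈ G, s * g * s⁻¹ ∈ G) (hNG : N ≤ G)
    (hNnormal : ∀ g ∈ G, ∀ n ∈ N, g * n * g⁻¹ ∈ N) (hNS : ∀ s ∈ S, ∀ n ∈ N, s * n * s⁻¹ ∈ N)
    (hcop : (Nat.card G).Coprime (Nat.card S)) (hsolv : Group.IsSolvable S) (θ : IrrCharacter N)
    (hinv : ∀ s ∈ S, ∀ g g' : N, (g' : Γ) = s * g * s⁻¹ → θ.1 g' = θ.1 g) :
    ∃ χ : IrrCharacter G, classInner (fun n : N => χ.1 ⟨n, hNG n.2⟩) θ.1 ≠ 0 ∧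
      (∀ s ∈ S, ∀ g g' : G, (g' : Γ) = s * g * s⁻¹ → χ.1 g' = χ.1 g) := by
  classical
  haveI : (N.subgroupOf G).Normal := ⟨fun n hn g => hNnormal g g.2 n hn⟩
  have hNs : ∀ a : S, ∀ n ∈ N.subgroupOf G, conjAct G S hnorm a n ∈ N.subgroupOf G := by
    intro a n hn
    exact hNS a a.2 n hn
  haveI : Fintype (N.subgroupOf G) := Fintype.ofFinite _
  let θ₀ : IrrCharacter (N.subgroupOf G) := irrCongr (Subgroup.subgroupOfEquivOfLe hNG) θ
  have hθ₀ : IsInvFun (subAct (conjAct G S hnorm) (N.subgroupOf G) hNs) θ₀.1 := by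
    intro a n
    show θ.1 (Subgroup.subgroupOfEquivOfLe hNG _) = θ.1 (Subgroup.subgroupOfEquivOfLe hNG n)
    exact hinv a a.2 _ _ rfl
  obtain ⟨χ, hχinv, hχover⟩ := exists_inv_over hsolv hcop (conjAct G S hnorm) (N.subgroupOf G)
    hNs θ₀ hθ₀
  refine ⟨χ, ?_, (isInvFun_conjAct_iff G S hnorm χ.1).1 hχinv⟩
  have h1 := classInner_comp_equiv (Subgroup.subgroupOfEquivOfLe hNG)
    (fun n : N => χ.1 ⟨n, hNG n.2⟩) θ.1
  rw [← h1]
  exact hχover

end Cfsg.Agent.Lib.helper24
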