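import Cfsg.Agent.Lib.helper5.BlockBrauer2
import Cfsg.Agent.Lib.helper24.CharOps
import Cfsg.Agent.Lib.helper24.CharClifford
import Cfsg.Agent.Lib.helper24.CharComplete
import Cfsg.Agent.Lib.helper24.CharOdd
import Cfsg.Agent.Lib.helper23.DefectBound

set_option autoImplicit false

namespace Cfsg.Agent.Lib.helper24
open Cfsg
open Cfsg.Agent.Lib.helper23 Cfsg.Agent.Lib.helper5
open scoped ComplexConjugate

universe u v

section glaub

variable {G : Type u} [Group G] {A : Type v} [Group A]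

/-- the subgroup of fixed points of an action by automorphisms -/
def fixSub (φ : A →* MulAut G) : Subgroup G where
  carrier := {g | ∀ a, φ a g = g}
  mul_mem' := by
    intro x y hx hy a
    show φ a (x * y) = x * y
    rw [map_mul, hx a, hy a]
  one_mem' := fun a => map_one _
  inv_mem' := by
    intro x hx a
    show φ a x⁻¹ = x⁻¹
    rw [map_inv, hx a]

theorem mem_fixSub (φ : A →* MulAut G) (g : G) : g ∈ fixSub φ ↔ ∀ a, φ a g = g := Iff.rfl

/-- a function on `G` invariant under the action -/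
def IsInvFun (φ : A →* MulAut G) (χ : G → ℂ) : Prop := ∀ a g, χ (φ a g) = χ g

/-- the action on the complement of the fixed points -/
def actCompl (φ : A →* MulAut G) : MulAction A {x : G // x ∉ fixSub φ} where
  smul a x := ⟨φ a x.1, fun h => x.2 (fun b => by
    have h1 := h (a * b * a⁻¹)
    have h2 : φ (a * b * a⁻¹) (φ a x.1) = φ a (φ b x.1) := by
      rw [map_mul, map_mul, MulAut.mul_apply, MulAut.mul_apply, map_inv, MulAut.inv_apply_self]
    rw [h2] at h1
    exact (φ a).injective h1)⟩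
  one_smul x := Subtype.ext (by
    show φ 1 x.1 = x.1
    rw [map_one]; rfl)
  mul_smul a b x := Subtype.ext (by
    show φ (a * b) x.1 = φ a (φ b x.1)
    rw [map_mul]; rfl)

theorem sum_sub_sum_fix_mem [Fintype G] [Finite A] {p : ℕ} {M : Ideal AlgInt}
    (hM : IsPModular p M) (hA : IsPGroup p A) (φ : A →* MulAut G) [hFC : Fintype (fixSub φ)]
    (f : G → ℂ) (hf : ∀ a g, f (φ a g) = f g) (hR : ∀ g, MemLocalRing M (f g)) :
    MemLocalIdeal M (∑ g : G, f g - ∑ c : fixSub φ, f c) := by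
  classical
  have h1 := (Fintype.sum_subtype_add_sum_subtype (fun g : G => g ∈ fixSub φ) f).symm
  have h2 : ∀ (inst1 inst2 : Fintype (fixSub φ)),
      (@Finset.univ _ inst1).sum (fun c : fixSub φ => f c)
        = (@Finset.univ _ inst2).sum (fun c : fixSub φ => f c) := by
    intro inst1 inst2
    rw [Subsingleton.elim inst1 inst2]
  rw [h1, h2 hFC (Subtype.fintype fun g => g ∈ fixSub φ), add_sub_cancel_left]
  let _ := actCompl φ
  apply memLocalIdeal_sum_of_no_fixed hM hA (fun x : {x : G // x ∉ fixSub φ} => f x)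
  · intro a x
    exact hf a x.1
  · intro x; exact hR _
  · intro x
    have hx := x.2
    rw [mem_fixSub] at hx
    push Not at hx
    obtain ⟨a, ha⟩ := hx
    exact ⟨a, fun h => ha (congrArg Subtype.val h)⟩

theorem coef_mul_fix [Fintype G] [Fintype (IrrCharacter G)] [Finite A] {p : ℕ}
    {M : Ideal AlgInt} (hM : IsPModular p M) (hA : IsPGroup p A) (φ : A →* MulAut G)
    [Fintype (fixSub φ)]
    (a b : IrrCharacter G → ℂ) (ha : ∀ s g, coef a (φ s g) = coef a g)
    (hb : ∀ s g, coef b (φ s g) = coef b g)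
    (haR : ∀ g, MemLocalRing M (coef a g)) (hbR : ∀ g, MemLocalRing M (coef b g))
    (c : fixSub φ) :
    MemLocalIdeal M (coef (a * b) (c : G)
      - conv (fun x : fixSub φ => coef a x) (fun x : fixSub φ => coef b x) c) := by
  have hMp := isPModular_isPrime hM
  rw [coef_mul]
  have key := sum_sub_sum_fix_mem hM hA φ (fun x => coef a x * coef b (x⁻¹ * (c : G)))
    (by
      intro s g
      show coef a (φ s g) * coef b ((φ s g)⁻¹ * (c : G)) = coef a g * coef b (g⁻¹ * (c : G))
      have h1 : (φ s g)⁻¹ * (c : G) = φ s (g⁻¹ * (c : G)) := by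
        rw [map_mul, map_inv, c.2 s]
      rw [ha, h1, hb])
    (fun g => memLocalRing_mul hMp (haR _) (hbR _))
  exact key

/-- conjugate fixed points are conjugate by a fixed point (for a `p`-group acting on a
group of order prime to `p`) -/
theorem isConj_fix_of_isConj [Finite G] [Finite A] {p : ℕ} [Fact p.Prime] (hA : IsPGroup p A)
    (hpG : ¬ p ∣ Nat.card G) (φ : A →* MulAut G) (c c' : fixSub φ)
    (h : IsConj (c : G) (c' : G)) : IsConj c c' := by
  classical
  obtain ⟨g₀, hg₀⟩ := isConj_iff.1 h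
  let X : Type u := {g : G // g * (c : G) * g⁻¹ = (c' : G)}
  let act : MulAction A X :=
    { smul := fun a x => ⟨φ a x.1, by
        have h1 := congrArg (φ a) x.2
        rw [map_mul, map_mul, map_inv, c.2 a, c'.2 a] at h1
        exact h1⟩
      one_smul := fun x => Subtype.ext (by
        show φ 1 x.1 = x.1
        rw [map_one]; rfl)
      mul_smul := fun a b x => Subtype.ext (by
        show φ (a * b) x.1 = φ a (φ b x.1)
        rw [map_mul]; rfl) }
  have hcard : Nat.card X ∣ Nat.card G := by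
    have e : X ≃ Subgroup.centralizer ({(c : G)} : Set G) :=
      { toFun := fun x => ⟨g₀⁻¹ * x.1, by
          rw [Subgroup.mem_centralizer_iff]
          intro y hy
          rw [Set.mem_singleton_iff] at hy
          subst hy
          have h1 := x.2
          have h2 : g₀⁻¹ * x.1 * (c : G) * (g₀⁻¹ * x.1)⁻¹ = (c : G) := by
            have : g₀⁻¹ * x.1 * (c : G) * (g₀⁻¹ * x.1)⁻¹ = g₀⁻¹ * (x.1 * (c : G) * x.1⁻¹) * g₀ := by
              group
            rw [this, h1, ← hg₀]; group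
          calc (c : G) * (g₀⁻¹ * x.1) = (g₀⁻¹ * x.1 * (c : G) * (g₀⁻¹ * x.1)⁻¹) * (g₀⁻¹ * x.1) := by
                rw [h2]
            _ = g₀⁻¹ * x.1 * (c : G) := by group⟩
        invFun := fun z => ⟨g₀ * z.1, by
          have hz := Subgroup.mem_centralizer_iff.1 z.2 (c : G) rfl
          have : g₀ * z.1 * (c : G) * (g₀ * z.1)⁻¹ = g₀ * (z.1 * (c : G)) * z.1⁻¹ * g₀⁻¹ := by group
          rw [this, ← hz, ← hg₀]; group⟩
        left_inv := fun x => Subtype.ext (by simp)
        right_inv := fun z => Subtype.ext (by simp) }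
    rw [Nat.card_congr e]
    exact Subgroup.card_subgroup_dvd_card _
  have hnd : ¬ p ∣ Nat.card X := fun hd => hpG (hd.trans hcard)
  haveI : Finite X := Subtype.finite
  obtain ⟨x, hx⟩ := hA.nonempty_fixed_point_of_prime_not_dvd_card X hnd
  rw [MulAction.mem_fixedPoints] at hx
  have hxfix : x.1 ∈ fixSub φ := fun a => congrArg Subtype.val (hx a)
  rw [isConj_iff]
  exact ⟨⟨x.1, hxfix⟩, Subtype.ext x.2⟩

end glaub

section glaub2

variable {G : Type u} [Group G] {A : Type v} [Group A] [Fintype G] [Fintype (IrrCharacter G)]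

/-- coefficient function of the primitive central idempotent of `χ` -/
noncomputable def idemFun (χ : IrrCharacter G) (g : G) : ℂ :=
  (Nat.card G : ℂ)⁻¹ * (χ.1 1 * conj (χ.1 g))

theorem coef_single [DecidableEq (IrrCharacter G)] (χ : IrrCharacter G) (g : G) :
    coef (Pi.single χ (1 : ℂ)) g = idemFun χ g := by
  unfold coef idemFun
  rw [Finset.sum_eq_single χ]
  · rw [Pi.single_eq_same, one_mul]
  · intro ψ _ hne
    rw [Pi.single_eq_of_ne hne, zero_mul]
  · intro h; exact absurd (Finset.mem_univ _) h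

theorem idemFun_inv (φ : A →* MulAut G) (χ : IrrCharacter G) (hχ : IsInvFun φ χ.1) (s : A)
    (g : G) : idemFun χ (φ s g) = idemFun χ g := by
  unfold idemFun; rw [hχ]

theorem idemFun_local {p : ℕ} {M : Ideal AlgInt} (hM : IsPModular p M)
    (hpG : ¬ p ∣ Nat.card G) (χ : IrrCharacter G) (g : G) : MemLocalRing M (idemFun χ g) := by
  have hMp := isPModular_isPrime hM
  unfold idemFun
  apply memLocalRing_mul hMp (memLocalRing_inv_natCast hM _ hpG)
  apply memLocalRing_of_isIntegral hMp.ne_top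
  exact (isCharacter_isIntegral (isCharacter_irr χ) 1).mul
    (map_isIntegral_int (starRingEnd ℂ) (isCharacter_isIntegral (isCharacter_irr χ) g))

theorem idemFun_conj (χ : IrrCharacter G) (g h : G) :
    idemFun χ (h * g * h⁻¹) = idemFun χ g := by
  unfold idemFun; rw [isClassFunction_irr χ g h]

theorem sum_idemFun (g : G) [Decidable (g = 1)] :
    ∑ χ : IrrCharacter G, idemFun χ g = if g = 1 then 1 else 0 := by
  rw [← coef_one g]
  unfold coef idemFun
  rw [Finset.mul_sum]
  apply Finset.sum_congr rfl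
  intro χ _
  simp

variable (φ : A →* MulAut G) [Fintype (fixSub φ)] [Fintype (IrrCharacter (fixSub φ))]

/-- the Brauer-map coordinate of the idempotent of `χ` at `β` -/
noncomputable def glX (χ : IrrCharacter G) (β : IrrCharacter (fixSub φ)) : ℂ :=
  coord (fun c : fixSub φ => idemFun χ (c : G)) β

theorem idemFun_res_classFunction (χ : IrrCharacter G) :
    IsClassFunction (fixSub φ) (fun c : fixSub φ => idemFun χ (c : G)) := by
  intro g h
  show idemFun χ ((h * g * h⁻¹ : fixSub φ) : G) = idemFun χ (g : G)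
  push_cast
  exact idemFun_conj χ _ _

theorem glX_local {p : ℕ} {M : Ideal AlgInt} (hM : IsPModular p M)
    (hpG : ¬ p ∣ Nat.card G) (χ : IrrCharacter G) (β : IrrCharacter (fixSub φ)) :
    MemLocalRing M (glX φ χ β) :=
  memLocalRing_coord_of_classFunction (isPModular_isPrime hM) (idemFun_res_classFunction φ χ)
    (fun c => idemFun_local hM hpG χ _) β

theorem glX_mul_of_ne [Finite A] {p : ℕ} {M : Ideal AlgInt} (hM : IsPModular p M)
    (hA : IsPGroup p A) (hpG : ¬ p ∣ Nat.card G) (χ ψ : IrrCharacter G)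
    (hχ : IsInvFun φ χ.1) (hψ : IsInvFun φ ψ.1) (hne : χ ≠ ψ) (β : IrrCharacter (fixSub φ)) :
    MemLocalIdeal M (glX φ χ β * glX φ ψ β) := by
  classical
  have hMp := isPModular_isPrime hM
  have h0 : (Pi.single χ (1 : ℂ) : IrrCharacter G → ℂ) * Pi.single ψ (1 : ℂ) = 0 := by
    funext ξ
    by_cases h : ξ = χ
    · subst h
      simp [Pi.single_eq_of_ne hne]
    · simp [Pi.single_eq_of_ne h]
  have key : ∀ c : fixSub φ, MemLocalIdeal M
      (conv (fun x : fixSub φ => idemFun χ (x : G)) (fun x : fixSub φ => idemFun ψ (x : G)) c) := by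
    intro c
    have h1 := coef_mul_fix hM hA φ (Pi.single χ (1 : ℂ)) (Pi.single ψ (1 : ℂ))
      (fun s g => by rw [coef_single, coef_single]; exact idemFun_inv φ χ hχ s g)
      (fun s g => by rw [coef_single, coef_single]; exact idemFun_inv φ ψ hψ s g)
      (fun g => by rw [coef_single]; exact idemFun_local hM hpG χ g)
      (fun g => by rw [coef_single]; exact idemFun_local hM hpG ψ g) c
    rw [h0, coef_zero, zero_sub] at h1
    have h2 := memLocalIdeal_neg h1
    rw [neg_neg] at h2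
    simpa only [coef_single] using h2
  have h3 := memLocalIdeal_coord_of_classFunction hMp
    (conv_isClassFunction (idemFun_res_classFunction φ χ) (idemFun_res_classFunction φ ψ)) key β
  rw [coord_conv (idemFun_res_classFunction φ χ) (idemFun_res_classFunction φ ψ)] at h3
  exact h3

theorem glX_centralChar [Finite A] {p : ℕ} [Fact p.Prime] {M : Ideal AlgInt} (hM : IsPModular p M)
    (hA : IsPGroup p A) (hpG : ¬ p ∣ Nat.card G) (χ : IrrCharacter G)
    (hχ : IsInvFun φ χ.1) (β : IrrCharacter (fixSub φ)) (c₀ : fixSub φ) :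
    MemLocalIdeal M ((centralChar χ.1 (c₀ : G) - centralChar β.1 c₀) * glX φ χ β) := by
  classical
  have hMp := isPModular_isPrime hM
  set a : IrrCharacter G → ℂ := fun ξ => centralChar ξ.1 (c₀ : G) with ha
  have hab : a * Pi.single χ (1 : ℂ)
      = fun ξ => centralChar χ.1 (c₀ : G) * (Pi.single χ (1 : ℂ) : IrrCharacter G → ℂ) ξ := by
    funext ξ
    by_cases h : ξ = χ
    · subst h; rfl
    · simp [Pi.single_eq_of_ne h]
  have hcoefa : ∀ g : G, coef a g = if IsConj (c₀ : G) g then 1 else 0 :=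
    fun g => coef_centralChar (c₀ : G) g
  have hinva : ∀ s g, coef a (φ s g) = coef a g := by
    intro s g
    rw [hcoefa, hcoefa]
    have hiff : IsConj (c₀ : G) (φ s g) ↔ IsConj (c₀ : G) g := by
      constructor
      · intro h
        have h1 := (φ s⁻¹).toMonoidHom.map_isConj h
        have e1 : (φ s⁻¹).toMonoidHom (c₀ : G) = c₀ := c₀.2 s⁻¹
        have e2 : (φ s⁻¹).toMonoidHom (φ s g) = g := by
          show φ s⁻¹ (φ s g) = g
          rw [← MulAut.mul_apply, ← map_mul, inv_mul_cancel, map_one]; rfl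
        rwa [e1, e2] at h1
      · intro h
        have h1 := (φ s).toMonoidHom.map_isConj h
        have e1 : (φ s).toMonoidHom (c₀ : G) = c₀ := c₀.2 s
        rwa [e1] at h1
    simp only [hiff]
  have hlocala : ∀ g, MemLocalRing M (coef a g) := by
    intro g
    rw [hcoefa]
    split_ifs
    · exact memLocalRing_of_isIntegral hMp.ne_top isIntegral_one
    · exact memLocalRing_of_isIntegral hMp.ne_top isIntegral_zero
  have key : ∀ c : fixSub φ, MemLocalIdeal M (centralChar χ.1 (c₀ : G) * idemFun χ (c : G)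
      - conv (fun x : fixSub φ => coef a (x : G)) (fun x : fixSub φ => idemFun χ (x : G)) c) := by
    intro c
    have h1 := coef_mul_fix hM hA φ a (Pi.single χ (1 : ℂ)) hinva
      (fun s g => by rw [coef_single, coef_single]; exact idemFun_inv φ χ hχ s g)
      hlocala (fun g => by rw [coef_single]; exact idemFun_local hM hpG χ g) c
    rw [hab, coef_const_mul] at h1
    simpa only [coef_single] using h1
  have hres : (fun x : fixSub φ => coef a (x : G))
      = coef (fun β' : IrrCharacter (fixSub φ) => centralChar β'.1 c₀) := by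
    funext x
    rw [hcoefa, coef_centralChar]
    have hiff : IsConj (c₀ : G) (x : G) ↔ IsConj c₀ x :=
      ⟨isConj_fix_of_isConj hA hpG φ c₀ x, fun h => (fixSub φ).subtype.map_isConj h⟩
    simp only [hiff]
  have hcf1 : IsClassFunction (fixSub φ) (fun x : fixSub φ => coef a (x : G)) := by
    intro g h
    show coef a ((h * g * h⁻¹ : fixSub φ) : G) = coef a g
    push_cast
    exact coef_conj a _ _
  have hcf2 := idemFun_res_classFunction φ χ
  have hF : IsClassFunction (fixSub φ) (centralChar χ.1 (c₀ : G) •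
      (fun c : fixSub φ => idemFun χ (c : G))
      - conv (fun x : fixSub φ => coef a (x : G)) (fun x : fixSub φ => idemFun χ (x : G))) := by
    intro g h
    show centralChar χ.1 (c₀ : G) * idemFun χ ((h * g * h⁻¹ : fixSub φ) : G)
        - conv (fun x : fixSub φ => coef a (x : G)) (fun x : fixSub φ => idemFun χ (x : G))
          (h * g * h⁻¹)
      = centralChar χ.1 (c₀ : G) * idemFun χ (g : G)
        - conv (fun x : fixSub φ => coef a (x : G)) (fun x : fixSub φ => idemFun χ (x : G)) g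
    rw [conv_isClassFunction hcf1 hcf2 g h]
    congr 2
    exact hcf2 g h
  have h3 := memLocalIdeal_coord_of_classFunction hMp hF key β
  rw [coord_sub, coord_smul, coord_conv hcf1 hcf2, hres, coord_coef] at h3
  have e : (centralChar χ.1 (c₀ : G) - centralChar β.1 c₀) * glX φ χ β
      = centralChar χ.1 (c₀ : G) * coord (fun c : fixSub φ => idemFun χ (c : G)) β
        - centralChar β.1 c₀ * coord (fun x : fixSub φ => idemFun χ (x : G)) β := by
    unfold glX; ring
  rw [e]
  exact h3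

theorem glX_unique [Finite A] {p : ℕ} [Fact p.Prime] {M : Ideal AlgInt} (hM : IsPModular p M)
    (hA : IsPGroup p A) (hpG : ¬ p ∣ Nat.card G) (χ : IrrCharacter G)
    (hχ : IsInvFun φ χ.1) (β₁ β₂ : IrrCharacter (fixSub φ))
    (h1 : ¬ MemLocalIdeal M (glX φ χ β₁)) (h2 : ¬ MemLocalIdeal M (glX φ χ β₂)) : β₁ = β₂ := by
  classical
  have hMp := isPModular_isPrime hM
  have hsb : SameBlock M β₁.1 β₂.1 := by
    intro c₀
    have e1 := glX_centralChar φ hM hA hpG χ hχ β₁ c₀
    have e2 := glX_centralChar φ hM hA hpG χ hχ β₂ c₀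
    have l1 : MemLocalRing M (centralChar χ.1 (c₀ : G) - centralChar β₁.1 c₀) :=
      memLocalRing_sub hMp (memLocalRing_centralChar hMp χ _) (memLocalRing_centralChar hMp β₁ _)
    have l2 : MemLocalRing M (centralChar χ.1 (c₀ : G) - centralChar β₂.1 c₀) :=
      memLocalRing_sub hMp (memLocalRing_centralChar hMp χ _) (memLocalRing_centralChar hMp β₂ _)
    have f1 := (memLocalIdeal_or_of_mul hMp l1 (glX_local φ hM hpG χ β₁) e1).resolve_right h1
    have f2 := (memLocalIdeal_or_of_mul hMp l2 (glX_local φ hM hpG χ β₂) e2).resolve_right h2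
    have f3 := memLocalIdeal_sub hMp f2 f1
    have e : centralChar β₁.1 c₀ - centralChar β₂.1 c₀
        = (centralChar χ.1 (c₀ : G) - centralChar β₂.1 c₀)
          - (centralChar χ.1 (c₀ : G) - centralChar β₁.1 c₀) := by ring
    rw [e]; exact f3
  by_contra hne
  have hpC : ¬ p ∣ Nat.card (fixSub φ) :=
    fun h => hpG (h.trans (Subgroup.card_subgroup_dvd_card _))
  have hos : (Pi.single β₁ (1 : ℂ) : IrrCharacter (fixSub φ) → ℂ)
      ∈ osimaRing (fixSub φ) M hMp := by
    rw [mem_osimaRing]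
    intro g
    rw [coef_single]
    exact idemFun_local hM hpC β₁ g
  have h5 := memLocalIdeal_coord_sub hMp hos hsb
  rw [Pi.single_eq_same, Pi.single_eq_of_ne (Ne.symm hne), sub_zero] at h5
  exact not_memLocalIdeal_one hMp h5

theorem glX_eq (χ : IrrCharacter G) (β : IrrCharacter (fixSub φ)) (m : ℕ)
    (hm : classInner (fun c : fixSub φ => χ.1 c) β.1 = m) :
    glX φ χ β = (Nat.card G : ℂ)⁻¹ * χ.1 1 * (Nat.card (fixSub φ) : ℂ) * (m : ℂ) / β.1 1 := by
  unfold glX coord idemFun
  have h1 : ∑ c : fixSub φ, conj (χ.1 c) * β.1 c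
      = (Nat.card (fixSub φ) : ℂ) * conj (classInner (fun c : fixSub φ => χ.1 c) β.1) :=
    classInner_conj_eq _ _
  rw [hm, Complex.conj_natCast] at h1
  have h2 : ∑ c : fixSub φ, (Nat.card G : ℂ)⁻¹ * (χ.1 1 * conj (χ.1 c)) * β.1 c
      = (Nat.card G : ℂ)⁻¹ * χ.1 1 * ∑ c : fixSub φ, conj (χ.1 c) * β.1 c := by
    rw [Finset.mul_sum]
    apply Finset.sum_congr rfl
    intro c _; ring
  rw [h2, h1]
  ring

theorem glX_mem_iff {p : ℕ} {M : Ideal AlgInt} (hM : IsPModular p M) (hpG : ¬ p ∣ Nat.card G)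
    (χ : IrrCharacter G) (β : IrrCharacter (fixSub φ)) (m : ℕ)
    (hm : classInner (fun c : fixSub φ => χ.1 c) β.1 = m) :
    MemLocalIdeal M (glX φ χ β) ↔ p ∣ m := by
  have hMp := isPModular_isPrime hM
  obtain ⟨d, hd, hdG⟩ := irr_degree_dvd_card χ
  obtain ⟨e, he, heC⟩ := irr_degree_dvd_card β
  have hCG : Nat.card (fixSub φ) ∣ Nat.card G := Subgroup.card_subgroup_dvd_card _
  have hpd : ¬ p ∣ d := fun h => hpG (h.trans hdG)
  have hpC : ¬ p ∣ Nat.card (fixSub φ) := fun h => hpG (h.trans hCG)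
  have hpe : ¬ p ∣ e := fun h => hpC (h.trans heC)
  have he0 : (e : ℂ) ≠ 0 := by
    intro h0
    apply hpe
    have : e = 0 := by exact_mod_cast h0
    rw [this]; exact dvd_zero p
  have hG0 : (Nat.card G : ℂ) ≠ 0 := by
    have : Nat.card G ≠ 0 := Nat.card_pos.ne'
    exact_mod_cast this
  rw [glX_eq φ χ β m hm, hd, he]
  constructor
  · intro h
    have h1 := memLocalIdeal_mul_left hMp (memLocalRing_natCast hMp.ne_top (Nat.card G * e)) h
    have h2 : ((Nat.card G * e : ℕ) : ℂ)
        * ((Nat.card G : ℂ)⁻¹ * d * (Nat.card (fixSub φ)) * m / e)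
        = ((d * Nat.card (fixSub φ) * m : ℕ) : ℂ) := by
      push_cast; field_simp
    rw [h2] at h1
    have h3 := (memLocalIdeal_natCast_iff hM _).1 h1
    rcases (Nat.Prime.dvd_mul hM.1).1 h3 with h4 | h4
    · rcases (Nat.Prime.dvd_mul hM.1).1 h4 with h5 | h5
      · exact absurd h5 hpd
      · exact absurd h5 hpC
    · exact h4
  · intro h
    have h1 := (memLocalIdeal_natCast_iff hM m).2 h
    have e1 : (Nat.card G : ℂ)⁻¹ * d * (Nat.card (fixSub φ)) * m / e
        = ((Nat.card G : ℂ)⁻¹ * d * (Nat.card (fixSub φ)) * ((e : ℕ) : ℂ)⁻¹) * m := by ring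
    rw [e1]
    apply memLocalIdeal_mul_left hMp _ h1
    exact memLocalRing_mul hMp (memLocalRing_mul hMp (memLocalRing_mul hMp
      (memLocalRing_inv_natCast hM _ hpG) (memLocalRing_natCast hMp.ne_top d))
      (memLocalRing_natCast hMp.ne_top _)) (memLocalRing_inv_natCast hM _ hpe)

/-- the action on the non-invariant irreducible characters -/
def actNonInv : MulAction A {χ : IrrCharacter G // ¬ IsInvFun φ χ.1} where
  smul a χ := ⟨⟨χ.1.1 ∘ (φ a⁻¹), isIrrCharacter_comp_equiv (φ a⁻¹) χ.1.2⟩, fun h => χ.2 (by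
    intro b g
    have h1 := h (a * b * a⁻¹) (φ a g)
    have e1 : φ a⁻¹ (φ (a * b * a⁻¹) (φ a g)) = φ b g := by
      rw [← MulAut.mul_apply, ← MulAut.mul_apply, ← map_mul, ← map_mul]
      congr 2; group
    have e2 : φ a⁻¹ (φ a g) = g := by
      rw [← MulAut.mul_apply, ← map_mul, inv_mul_cancel, map_one]; rfl
    have h2 : χ.1.1 (φ a⁻¹ (φ (a * b * a⁻¹) (φ a g))) = χ.1.1 (φ a⁻¹ (φ a g)) := h1
    rwa [e1, e2] at h2)⟩
  one_smul χ := Subtype.ext (Subtype.ext (funext fun g => by
    show χ.1.1 (φ 1⁻¹ g) = χ.1.1 g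
    rw [inv_one, map_one]; rfl))
  mul_smul a b χ := Subtype.ext (Subtype.ext (funext fun g => by
    show χ.1.1 (φ (a * b)⁻¹ g) = χ.1.1 (φ b⁻¹ (φ a⁻¹ g))
    rw [mul_inv_rev, map_mul]; rfl))

theorem exists_glX_not_mem [Finite A] {p : ℕ} {M : Ideal AlgInt} (hM : IsPModular p M)
    (hA : IsPGroup p A) (hpG : ¬ p ∣ Nat.card G) (β : IrrCharacter (fixSub φ)) :
    ∃ χ : IrrCharacter G, IsInvFun φ χ.1 ∧ ¬ MemLocalIdeal M (glX φ χ β) := by
  classical
  have hMp := isPModular_isPrime hM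
  by_contra hcon
  push Not at hcon
  have hnon : ∀ c : fixSub φ, MemLocalIdeal M
      (∑ χ : {χ : IrrCharacter G // ¬ IsInvFun φ χ.1}, idemFun χ.1 (c : G)) := by
    intro c
    let _ := actNonInv φ
    apply memLocalIdeal_sum_of_no_fixed hM hA
      (fun χ : {χ : IrrCharacter G // ¬ IsInvFun φ χ.1} => idemFun χ.1 (c : G))
    · intro a χ
      show (Nat.card G : ℂ)⁻¹ * (χ.1.1 (φ a⁻¹ 1) * conj (χ.1.1 (φ a⁻¹ (c : G))))
        = (Nat.card G : ℂ)⁻¹ * (χ.1.1 1 * conj (χ.1.1 (c : G)))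
      rw [map_one, c.2 a⁻¹]
    · intro χ; exact idemFun_local hM hpG _ _
    · intro χ
      have hχ := χ.2
      unfold IsInvFun at hχ
      push Not at hχ
      obtain ⟨a, g, hag⟩ := hχ
      refine ⟨a⁻¹, fun h => hag ?_⟩
      have h1 := congrArg (fun ξ : {χ : IrrCharacter G // ¬ IsInvFun φ χ.1} => ξ.1.1 g) h
      have h2 : χ.1.1 (φ a⁻¹⁻¹ g) = χ.1.1 g := h1
      rwa [inv_inv] at h2
  have htot : ∀ c : fixSub φ, (∑ χ : {χ : IrrCharacter G // IsInvFun φ χ.1}, idemFun χ.1 (c : G))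
      + ∑ χ : {χ : IrrCharacter G // ¬ IsInvFun φ χ.1}, idemFun χ.1 (c : G)
      = if c = 1 then 1 else 0 := by
    intro c
    rw [Fintype.sum_subtype_add_sum_subtype (fun χ : IrrCharacter G => IsInvFun φ χ.1)
      (fun χ => idemFun χ (c : G)), sum_idemFun]
    have hiff : ((c : G) = 1) ↔ c = 1 := by
      constructor
      · intro h; exact Subtype.ext h
      · intro h; rw [h]; rfl
    simp only [hiff]
  have hE : MemLocalIdeal M (coord (fun c : fixSub φ =>
      ∑ χ : {χ : IrrCharacter G // IsInvFun φ χ.1}, idemFun χ.1 (c : G)) β) := by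
    have e : coord (fun c : fixSub φ =>
        ∑ χ : {χ : IrrCharacter G // IsInvFun φ χ.1}, idemFun χ.1 (c : G)) β
        = ∑ χ : {χ : IrrCharacter G // IsInvFun φ χ.1}, glX φ χ.1 β := by
      unfold glX coord
      rw [← Finset.sum_div]
      congr 1
      rw [Finset.sum_comm]
      apply Finset.sum_congr rfl
      intro c _
      rw [Finset.sum_mul]
    rw [e]
    exact memLocalIdeal_sum hMp _ _ (fun χ _ => hcon χ.1 χ.2)
  have hcfD : IsClassFunction (fixSub φ) ((fun c : fixSub φ =>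
      ∑ χ : {χ : IrrCharacter G // IsInvFun φ χ.1}, idemFun χ.1 (c : G))
      - (fun c : fixSub φ => if c = 1 then (1 : ℂ) else 0)) := by
    intro g h
    show (∑ χ : {χ : IrrCharacter G // IsInvFun φ χ.1}, idemFun χ.1 ((h * g * h⁻¹ : fixSub φ) : G))
        - (if h * g * h⁻¹ = 1 then (1 : ℂ) else 0)
      = (∑ χ : {χ : IrrCharacter G // IsInvFun φ χ.1}, idemFun χ.1 (g : G))
        - (if g = 1 then (1 : ℂ) else 0)
    have h1 : (h * g * h⁻¹ = 1) ↔ g = 1 := conj_eq_one_iff
    simp only [h1]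
    congr 1
    apply Finset.sum_congr rfl
    intro χ _
    exact idemFun_res_classFunction φ χ.1 g h
  have hD : MemLocalIdeal M (coord ((fun c : fixSub φ =>
      ∑ χ : {χ : IrrCharacter G // IsInvFun φ χ.1}, idemFun χ.1 (c : G))
      - (fun c : fixSub φ => if c = 1 then (1 : ℂ) else 0)) β) := by
    apply memLocalIdeal_coord_of_classFunction hMp hcfD
    intro c
    have e : ((fun c : fixSub φ =>
        ∑ χ : {χ : IrrCharacter G // IsInvFun φ χ.1}, idemFun χ.1 (c : G))
        - (fun c : fixSub φ => if c = 1 then (1 : ℂ) else 0)) c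
        = - ∑ χ : {χ : IrrCharacter G // ¬ IsInvFun φ χ.1}, idemFun χ.1 (c : G) := by
      show (∑ χ : {χ : IrrCharacter G // IsInvFun φ χ.1}, idemFun χ.1 (c : G))
        - (if c = 1 then (1 : ℂ) else 0) = _
      rw [← htot c]; ring
    rw [e]
    exact memLocalIdeal_neg (hnon c)
  have hδ : coord (fun c : fixSub φ => if c = 1 then (1 : ℂ) else 0) β = 1 := by
    unfold coord
    rw [Finset.sum_eq_single 1]
    · show (if (1 : fixSub φ) = 1 then (1 : ℂ) else 0) * β.1 1 / β.1 1 = 1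
      rw [if_pos rfl, one_mul, div_self (irr_one_ne_zero β)]
    · intro c _ hc
      show (if c = 1 then (1 : ℂ) else 0) * β.1 c = 0
      rw [if_neg hc, zero_mul]
    · intro h; exact absurd (Finset.mem_univ _) h
  rw [coord_sub, hδ] at hD
  have h5 := memLocalIdeal_sub hMp hE hD
  rw [sub_sub_cancel] at h5
  exact not_memLocalIdeal_one hMp h5

theorem sum_sq_modEq [Finite A] {p : ℕ} {M : Ideal AlgInt} (hM : IsPModular p M)
    (hA : IsPGroup p A) (hpG : ¬ p ∣ Nat.card G) (χ : IrrCharacter G) (hχ : IsInvFun φ χ.1)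
    (m : IrrCharacter (fixSub φ) → ℕ)
    (hm : ∀ β : IrrCharacter (fixSub φ), classInner (fun c : fixSub φ => χ.1 c) β.1 = m β) :
    (∑ β : IrrCharacter (fixSub φ), (m β : ℤ) ^ 2) ≡ 1 [ZMOD p] := by
  classical
  have hMp := isPModular_isPrime hM
  have hG0 : (Nat.card G : ℂ) ≠ 0 := by
    have : Nat.card G ≠ 0 := Nat.card_pos.ne'
    exact_mod_cast this
  have hC0 : (Nat.card (fixSub φ) : ℂ) ≠ 0 := by
    have : Nat.card (fixSub φ) ≠ 0 := Nat.card_pos.ne'
    exact_mod_cast this
  have hpC : ¬ p ∣ Nat.card (fixSub φ) :=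
    fun h => hpG (h.trans (Subgroup.card_subgroup_dvd_card _))
  have h1 : ∑ g : G, χ.1 g * conj (χ.1 g) = (Nat.card G : ℂ) := by
    have h := irr_orthonormal χ χ
    rw [if_pos rfl] at h
    unfold classInner at h
    field_simp at h
    exact h
  have hres := isCharacter_restrict (fixSub φ) (isCharacter_irr χ)
  have hexp : (fun c : fixSub φ => χ.1 c)
      = ∑ β : IrrCharacter (fixSub φ), (m β : ℂ) • β.1 := by
    funext c
    rw [classFunction_expansion_apply (isCharacter_conj_class hres) c, Finset.sum_apply]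
    apply Finset.sum_congr rfl
    intro β _
    rw [hm]; rfl
  have h3 : classInner (fun c : fixSub φ => χ.1 c) (fun c : fixSub φ => χ.1 c)
      = ∑ β : IrrCharacter (fixSub φ), (m β : ℂ) ^ 2 := by
    conv_lhs => rw [hexp]
    rw [classInner_sum_left]
    apply Finset.sum_congr rfl
    intro β _
    rw [classInner_smul_left, ← hexp, classInner_conj_symm, hm, Complex.conj_natCast]
    ring
  have h2 : ∑ c : fixSub φ, χ.1 c * conj (χ.1 c)
      = (Nat.card (fixSub φ) : ℂ) * ∑ β : IrrCharacter (fixSub φ), (m β : ℂ) ^ 2 := by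
    rw [← h3]
    unfold classInner
    field_simp
  have k1 := sum_sub_sum_fix_mem hM hA φ (fun g => χ.1 g * conj (χ.1 g))
    (fun a g => by show χ.1 (φ a g) * conj (χ.1 (φ a g)) = χ.1 g * conj (χ.1 g); rw [hχ])
    (fun g => memLocalRing_of_isIntegral hMp.ne_top
      ((isCharacter_isIntegral (isCharacter_irr χ) g).mul
        (map_isIntegral_int (starRingEnd ℂ) (isCharacter_isIntegral (isCharacter_irr χ) g))))
  have k2 := sum_sub_sum_fix_mem hM hA φ (fun _ => (1 : ℂ)) (fun _ _ => rfl)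
    (fun _ => memLocalRing_of_isIntegral hMp.ne_top isIntegral_one)
  rw [h1, h2] at k1
  simp only [Finset.sum_const, Finset.card_univ, nsmul_eq_mul, mul_one,
    ← Nat.card_eq_fintype_card] at k2
  have k3 := memLocalIdeal_sub hMp k2 k1
  have k4 : MemLocalIdeal M (((Nat.card (fixSub φ) : ℤ)
      * (∑ β : IrrCharacter (fixSub φ), (m β : ℤ) ^ 2 - 1) : ℤ) : ℂ) := by
    have e : (((Nat.card (fixSub φ) : ℤ)
        * (∑ β : IrrCharacter (fixSub φ), (m β : ℤ) ^ 2 - 1) : ℤ) : ℂ)
        = (Nat.card G : ℂ) - (Nat.card (fixSub φ) : ℂ)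
          - ((Nat.card G : ℂ) - (Nat.card (fixSub φ) : ℂ)
            * ∑ β : IrrCharacter (fixSub φ), (m β : ℂ) ^ 2) := by
      push_cast; ring
    rw [e]; exact k3
  have k5 := (memLocalIdeal_intCast_iff hM _).1 k4
  have hp : p.Prime := hM.1
  rcases Int.Prime.dvd_mul' hp k5 with h | h
  · exact absurd (Int.natCast_dvd_natCast.1 h) hpC
  · exact (Int.modEq_iff_dvd.2 h).symm

end glaub2

/-- **Glauberman correspondence for a `p`-group of operators**, abstract form. -/
theorem glauberman_p {G : Type u} [Group G] [Finite G] {A : Type v} [Group A] [Finite A]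
    (p : ℕ) [Fact p.Prime] (hA : IsPGroup p A) (hpG : ¬ p ∣ Nat.card G) (φ : A →* MulAut G)
    [Fintype (fixSub φ)] :
    (∀ χ : IrrCharacter G, IsInvFun φ χ.1 → ∃! β : IrrCharacter (fixSub φ), ∃ m : ℕ,
        classInner (fun c : fixSub φ => χ.1 c) β.1 = m ∧ ¬ p ∣ m) ∧
    (∀ χ : IrrCharacter G, IsInvFun φ χ.1 → ∀ (β : IrrCharacter (fixSub φ)) (m : ℕ),
        classInner (fun c : fixSub φ => χ.1 c) β.1 = m → ¬ p ∣ m →
        ((m : ℤ) ≡ 1 [ZMOD p] ∨ (m : ℤ) ≡ -1 [ZMOD p])) ∧
    (∀ χ χ' : IrrCharacter G, IsInvFun φ χ.1 → IsInvFun φ χ'.1 →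
        ∀ (β : IrrCharacter (fixSub φ)) (m m' : ℕ),
        classInner (fun c : fixSub φ => χ.1 c) β.1 = m → ¬ p ∣ m →
        classInner (fun c : fixSub φ => χ'.1 c) β.1 = m' → ¬ p ∣ m' → χ = χ') ∧
    (∀ β : IrrCharacter (fixSub φ), ∃ χ : IrrCharacter G, IsInvFun φ χ.1 ∧ ∃ m : ℕ,
        classInner (fun c : fixSub φ => χ.1 c) β.1 = m ∧ ¬ p ∣ m) := by
  classical
  have hp : p.Prime := Fact.out
  haveI : Fintype G := Fintype.ofFinite G
  haveI : Fintype (IrrCharacter G) := Fintype.ofFinite _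
  haveI : Fintype (IrrCharacter (fixSub φ)) := Fintype.ofFinite _
  obtain ⟨M, hM⟩ := exists_isPModular p hp
  have hMp := isPModular_isPrime hM
  have hmex : ∀ (χ : IrrCharacter G) (β : IrrCharacter (fixSub φ)), ∃ m : ℕ,
      classInner (fun c : fixSub φ => χ.1 c) β.1 = m :=
    fun χ β => isCharacter_inner_irr_nat (isCharacter_restrict (fixSub φ) (isCharacter_irr χ)) β
  choose mm hmm using hmex
  have hiff : ∀ χ β, MemLocalIdeal M (glX φ χ β) ↔ p ∣ mm χ β :=
    fun χ β => glX_mem_iff φ hM hpG χ β (mm χ β) (hmm χ β)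
  have hmeq : ∀ (χ : IrrCharacter G) (β : IrrCharacter (fixSub φ)) (m : ℕ),
      classInner (fun c : fixSub φ => χ.1 c) β.1 = m → m = mm χ β := by
    intro χ β m hm
    have := hm.symm.trans (hmm χ β)
    exact_mod_cast this
  have huniq : ∀ χ : IrrCharacter G, IsInvFun φ χ.1 → ∀ β₁ β₂ : IrrCharacter (fixSub φ),
      ¬ p ∣ mm χ β₁ → ¬ p ∣ mm χ β₂ → β₁ = β₂ := by
    intro χ hχ β₁ β₂ h1 h2
    exact glX_unique φ hM hA hpG χ hχ β₁ β₂ (fun h => h1 ((hiff χ β₁).1 h))
      (fun h => h2 ((hiff χ β₂).1 h))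
  have hsq : ∀ χ : IrrCharacter G, IsInvFun φ χ.1 →
      (∑ β : IrrCharacter (fixSub φ), (mm χ β : ℤ) ^ 2) ≡ 1 [ZMOD p] :=
    fun χ hχ => sum_sq_modEq φ hM hA hpG χ hχ (mm χ) (hmm χ)
  have hex : ∀ χ : IrrCharacter G, IsInvFun φ χ.1 → ∃ β : IrrCharacter (fixSub φ),
      ¬ p ∣ mm χ β := by
    intro χ hχ
    by_contra hcon
    push Not at hcon
    have h1 : (p : ℤ) ∣ ∑ β : IrrCharacter (fixSub φ), (mm χ β : ℤ) ^ 2 := by
      apply Finset.dvd_sum
      intro β _
      exact Dvd.dvd.pow (Int.natCast_dvd_natCast.2 (hcon β)) (by norm_num)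
    have h2 := (Int.modEq_iff_dvd.1 (hsq χ hχ))
    have h3 : (p : ℤ) ∣ 1 := by
      have := dvd_add h2 h1
      simpa using this
    have h4 : p ∣ 1 := by exact_mod_cast h3
    exact hp.one_lt.ne' (Nat.dvd_one.1 h4)
  refine ⟨?_, ?_, ?_, ?_⟩
  · intro χ hχ
    obtain ⟨β, hβ⟩ := hex χ hχ
    refine ⟨β, ⟨mm χ β, hmm χ β, hβ⟩, ?_⟩
    rintro β' ⟨m', hm', hpm'⟩
    have := hmeq χ β' m' hm'
    rw [this] at hpm'
    exact huniq χ hχ β' β hpm' hβ
  · intro χ hχ β m hm hpm
    have hmm' := hmeq χ β m hm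
    rw [hmm'] at hpm ⊢
    have h1 : (p : ℤ) ∣ ∑ β' ∈ Finset.univ.erase β, (mm χ β' : ℤ) ^ 2 := by
      apply Finset.dvd_sum
      intro β' hβ'
      have hne : β' ≠ β := (Finset.mem_erase.1 hβ').1
      have hd : p ∣ mm χ β' := by
        by_contra hnd
        exact hne (huniq χ hχ β' β hnd hpm)
      exact Dvd.dvd.pow (Int.natCast_dvd_natCast.2 hd) (by norm_num)
    have h2 := Int.modEq_iff_dvd.1 (hsq χ hχ)
    rw [← Finset.add_sum_erase Finset.univ _ (Finset.mem_univ β)] at h2
    have h3 : (p : ℤ) ∣ ((mm χ β : ℤ) - 1) * ((mm χ β : ℤ) + 1) := by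
      have h4 := dvd_add h2 h1
      have e : 1 - ((mm χ β : ℤ) ^ 2 + ∑ β' ∈ Finset.univ.erase β, (mm χ β' : ℤ) ^ 2)
          + ∑ β' ∈ Finset.univ.erase β, (mm χ β' : ℤ) ^ 2
          = -(((mm χ β : ℤ) - 1) * ((mm χ β : ℤ) + 1)) := by ring
      rw [e] at h4
      exact (dvd_neg.1 h4)
    rcases Int.Prime.dvd_mul' hp h3 with h | h
    · left
      exact (Int.modEq_iff_dvd.2 (by simpa using (dvd_neg.2 h))).symm |> fun h' => by
        have : (1 : ℤ) ≡ (mm χ β : ℤ) [ZMOD p] := Int.modEq_iff_dvd.2 h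
        exact this.symm
    · right
      have : (-1 : ℤ) ≡ (mm χ β : ℤ) [ZMOD p] := Int.modEq_iff_dvd.2 (by
        have e : (mm χ β : ℤ) - -1 = (mm χ β : ℤ) + 1 := by ring
        rw [e]; exact h)
      exact this.symm
  · intro χ χ' hχ hχ' β m m' hm hpm hm' hpm'
    by_contra hne
    rw [hmeq χ β m hm] at hpm
    rw [hmeq χ' β m' hm'] at hpm'
    have h1 := glX_mul_of_ne φ hM hA hpG χ χ' hχ hχ' hne β
    rcases memLocalIdeal_or_of_mul hMp (glX_local φ hM hpG χ β) (glX_local φ hM hpG χ' β) h1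
      with h | h
    · exact hpm ((hiff χ β).1 h)
    · exact hpm' ((hiff χ' β).1 h)
  · intro β
    obtain ⟨χ, hχ, hnm⟩ := exists_glX_not_mem φ hM hA hpG β
    exact ⟨χ, hχ, mm χ β, hmm χ β, fun h => hnm ((hiff χ β).2 h)⟩

end Cfsg.Agent.Lib.helper24
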