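import Cfsg.Agent.Lib.helper24.GlaubP

set_option autoImplicit false

namespace Cfsg.Agent.Lib.helper24
open Cfsg
open Cfsg.Agent.Lib.helper23 Cfsg.Agent.Lib.helper5
open scoped ComplexConjugate

universe u v

/-- the trivial-action case of the Glauberman correspondence statement -/
theorem glauberman_trivial {G : Type u} [Group G] [Finite G] {A : Type v} [Group A]
    (p : ℕ) [Fact p.Prime] (φ : A →* MulAut G) (hφ : ∀ a g, φ a g = g)
    [Fintype (fixSub φ)] :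
    (∀ χ : IrrCharacter G, IsInvFun φ χ.1 → ∃! β : IrrCharacter (fixSub φ), ∃ m : ℕ,
        classInner (fun c : fixSub φ => χ.1 c) β.1 = m ∧ ¬ p ∣ m) ∧
    (∀ χ : IrrCharacter G, IsInvFun φ χ.1 → ∀ (β : IrrCharacter (fixSub φ)) (m : ℕ),
        classInner (fun c : fixSub φ => χ.1 c) β.1 = m → ¬ p ∣ m →
        ((m : ℤ) ≡ 1 [ZMOD p] ∨ (m : ℤ) ≡ -1 [ZMOD p])) ∧
    (∀ χ χ' : IrrCharacter G, IsInvFun φ χ.1 → IsInvFun φ χ'.1 →
        ∀ (β : IrrCharacter (fixSub φ)) (m m' : ℕ),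
        classInner (fun c : fixSub φ => χ.1 c) β.1 = m → ¬ p ∣ m →
        classInner (fun c : fixSub φ => χ'.1 c) β.1 = m' → ¬ p ∣ m' → χ = χ') ∧
    (∀ β : IrrCharacter (fixSub φ), ∃ χ : IrrCharacter G, IsInvFun φ χ.1 ∧ ∃ m : ℕ,
        classInner (fun c : fixSub φ => χ.1 c) β.1 = m ∧ ¬ p ∣ m) := by
  classical
  have hp : p.Prime := Fact.out
  haveI : Fintype G := Fintype.ofFinite G
  let e₀ : fixSub φ ≃* G :=
    { toFun := fun x => x.1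
      invFun := fun g => ⟨g, fun a => hφ a g⟩
      left_inv := fun x => rfl
      right_inv := fun g => rfl
      map_mul' := fun x y => rfl }
  have key : ∀ (χ : IrrCharacter G) (β : IrrCharacter (fixSub φ)),
      classInner (fun c : fixSub φ => χ.1 c) β.1
        = if χ.1 = β.1 ∘ e₀.symm then 1 else 0 := by
    intro χ β
    have h1 := classInner_comp_equiv e₀ χ.1 (β.1 ∘ e₀.symm)
    have h2 : (β.1 ∘ e₀.symm) ∘ e₀ = β.1 := by
      funext x; simp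
    rw [h2] at h1
    have h3 : (χ.1 ∘ e₀) = fun c : fixSub φ => χ.1 c := rfl
    rw [h3] at h1
    rw [h1]
    exact classInner_irr_fun χ.2 (isIrrCharacter_comp_equiv e₀.symm β.2)
  have hm01 : ∀ (χ : IrrCharacter G) (β : IrrCharacter (fixSub φ)) (m : ℕ),
      classInner (fun c : fixSub φ => χ.1 c) β.1 = m → ¬ p ∣ m →
      χ.1 = β.1 ∘ e₀.symm ∧ m = 1 := by
    intro χ β m hm hpm
    rw [key] at hm
    by_cases h : χ.1 = β.1 ∘ e₀.symm
    · rw [if_pos h] at hm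
      exact ⟨h, by exact_mod_cast hm.symm⟩
    · rw [if_neg h] at hm
      have : m = 0 := by exact_mod_cast hm.symm
      rw [this] at hpm
      exact absurd (dvd_zero p) hpm
  have hinv : ∀ χ : IrrCharacter G, IsInvFun φ χ.1 := fun χ a g => by rw [hφ]
  have hp1 : ¬ p ∣ 1 := fun h => hp.one_lt.ne' (Nat.dvd_one.1 h)
  refine ⟨?_, ?_, ?_, ?_⟩
  · intro χ _
    refine ⟨⟨χ.1 ∘ e₀, isIrrCharacter_comp_equiv e₀ χ.2⟩, ⟨1, ?_, hp1⟩, ?_⟩
    · rw [key, if_pos]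
      · simp
      · funext g; simp
    · rintro β ⟨m, hm, hpm⟩
      obtain ⟨h1, -⟩ := hm01 χ β m hm hpm
      apply Subtype.ext
      show β.1 = χ.1 ∘ e₀
      rw [h1]
      funext x; simp
  · intro χ _ β m hm hpm
    obtain ⟨-, h1⟩ := hm01 χ β m hm hpm
    left
    rw [h1]; rfl
  · intro χ χ' _ _ β m m' hm hpm hm' hpm'
    obtain ⟨h1, -⟩ := hm01 χ β m hm hpm
    obtain ⟨h2, -⟩ := hm01 χ' β m' hm' hpm'
    exact Subtype.ext (h1.trans h2.symm)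
  · intro β
    refine ⟨⟨β.1 ∘ e₀.symm, isIrrCharacter_comp_equiv e₀.symm β.2⟩, hinv _, 1, ?_, hp1⟩
    rw [key, if_pos rfl]; simp

/-- Glauberman correspondence for a `p`-group of operators of order coprime to `|G|`. -/
theorem glauberman_p_cop {G : Type u} [Group G] [Finite G] {A : Type v} [Group A] [Finite A]
    (p : ℕ) [Fact p.Prime] (hA : IsPGroup p A) (hcop : (Nat.card G).Coprime (Nat.card A))
    (φ : A →* MulAut G) [Fintype (fixSub φ)] :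
    (∀ χ : IrrCharacter G, IsInvFun φ χ.1 → ∃! β : IrrCharacter (fixSub φ), ∃ m : ℕ,
        classInner (fun c : fixSub φ => χ.1 c) β.1 = m ∧ ¬ p ∣ m) ∧
    (∀ χ : IrrCharacter G, IsInvFun φ χ.1 → ∀ (β : IrrCharacter (fixSub φ)) (m : ℕ),
        classInner (fun c : fixSub φ => χ.1 c) β.1 = m → ¬ p ∣ m →
        ((m : ℤ) ≡ 1 [ZMOD p] ∨ (m : ℤ) ≡ -1 [ZMOD p])) ∧
    (∀ χ χ' : IrrCharacter G, IsInvFun φ χ.1 → IsInvFun φ χ'.1 →
        ∀ (β : IrrCharacter (fixSub φ)) (m m' : ℕ),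
        classInner (fun c : fixSub φ => χ.1 c) β.1 = m → ¬ p ∣ m →
        classInner (fun c : fixSub φ => χ'.1 c) β.1 = m' → ¬ p ∣ m' → χ = χ') ∧
    (∀ β : IrrCharacter (fixSub φ), ∃ χ : IrrCharacter G, IsInvFun φ χ.1 ∧ ∃ m : ℕ,
        classInner (fun c : fixSub φ => χ.1 c) β.1 = m ∧ ¬ p ∣ m) := by
  have hp : p.Prime := Fact.out
  rcases hA.card_eq_or_dvd with h1 | hdvd
  · apply glauberman_trivial p φ
    intro a g
    haveI : Subsingleton A := (Nat.card_eq_one_iff_unique.1 h1).1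
    rw [Subsingleton.elim a 1, map_one]; rfl
  · apply glauberman_p p hA _ φ
    intro hpG
    have := Nat.dvd_gcd hpG hdvd
    rw [Nat.Coprime.gcd_eq_one hcop] at this
    exact hp.one_lt.ne' (Nat.dvd_one.1 this)

section subgroups

variable {Γ : Type u} [Group Γ]

/-- conjugation action of a subgroup `S` normalising `G` -/
def conjAct (G S : Subgroup Γ) (hnorm : ∀ s ∈ S, ∀ g ∈ G, s * g * s⁻¹ ∈ G) : S →* MulAut G where
  toFun s :=
    { toFun := fun g => ⟨(s : Γ) * g * (s : Γ)⁻¹, hnorm s s.2 g g.2⟩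
      invFun := fun g => ⟨(s : Γ)⁻¹ * g * (s : Γ), by
        have := hnorm (s : Γ)⁻¹ (S.inv_mem s.2) g g.2
        simpa using this⟩
      left_inv := fun g => Subtype.ext (by simp [mul_assoc])
      right_inv := fun g => Subtype.ext (by simp [mul_assoc])
      map_mul' := fun x y => Subtype.ext (by simp [mul_assoc]) }
  map_one' := MulEquiv.ext fun g => Subtype.ext (by simp)
  map_mul' := fun s t => MulEquiv.ext fun g => Subtype.ext (by simp [mul_assoc])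

theorem conjAct_apply (G S : Subgroup Γ) (hnorm : ∀ s ∈ S, ∀ g ∈ G, s * g * s⁻¹ ∈ G) (s : S)
    (g : G) : ((conjAct G S hnorm s g : G) : Γ) = (s : Γ) * g * (s : Γ)⁻¹ := rfl

theorem isInvFun_conjAct_iff (G S : Subgroup Γ) (hnorm : ∀ s ∈ S, ∀ g ∈ G, s * g * s⁻¹ ∈ G)
    (χ : G → ℂ) : IsInvFun (conjAct G S hnorm) χ ↔
      ∀ s ∈ S, ∀ g g' : G, (g' : Γ) = s * g * s⁻¹ → χ g' = χ g := by
  constructor
  · intro h s hs g g' hg'
    have := h ⟨s, hs⟩ g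
    have e : conjAct G S hnorm ⟨s, hs⟩ g = g' := Subtype.ext (by rw [conjAct_apply, hg'])
    rwa [e] at this
  · intro h s g
    exact h s s.2 g _ (conjAct_apply G S hnorm s g)

/-- the fixed points of the conjugation action, as a subgroup of the ambient group -/
def fixEquiv (G S : Subgroup Γ) (hnorm : ∀ s ∈ S, ∀ g ∈ G, s * g * s⁻¹ ∈ G) (C : Subgroup Γ)
    (hC : C = G ⊓ Subgroup.centralizer (S : Set Γ)) (hCG : C ≤ G) :
    C ≃* fixSub (conjAct G S hnorm) where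
  toFun c := ⟨⟨c, hCG c.2⟩, fun s => Subtype.ext (by
    rw [conjAct_apply]
    have hc : (c : Γ) ∈ Subgroup.centralizer (S : Set Γ) := by
      have h0 : (c : Γ) ∈ G ⊓ Subgroup.centralizer (S : Set Γ) := hC ▸ c.2
      exact h0.2
    have := Subgroup.mem_centralizer_iff.1 hc s s.2
    show (s : Γ) * c * (s : Γ)⁻¹ = c
    rw [this]; group)⟩
  invFun x := ⟨((x : G) : Γ), by
    rw [hC]
    refine ⟨x.1.2, ?_⟩
    show ((x : G) : Γ) ∈ Subgroup.centralizer (S : Set Γ)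
    rw [Subgroup.mem_centralizer_iff]
    intro s hs
    have h1 := congrArg (Subtype.val) (x.2 ⟨s, hs⟩)
    rw [conjAct_apply] at h1
    have h2 : s * ((x : G) : Γ) * s⁻¹ = ((x : G) : Γ) := h1
    calc s * ((x : G) : Γ) = s * ((x : G) : Γ) * s⁻¹ * s := by group
      _ = ((x : G) : Γ) * s := by rw [h2]⟩
  left_inv c := rfl
  right_inv x := rfl
  map_mul' x y := rfl

theorem glauberman_p_subgroups [Fintype Γ] (G S : Subgroup Γ) [Fintype G]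
    (hnorm : ∀ s ∈ S, ∀ g ∈ G, s * g * s⁻¹ ∈ G) (hcop : (Nat.card G).Coprime (Nat.card S))
    (p : ℕ) (hp : p.Prime) (hS : IsPGroup p S) (C : Subgroup Γ) [Fintype C]
    (hC : C = G ⊓ Subgroup.centralizer (S : Set Γ)) (hCG : C ≤ G) :
    (∀ χ : Cfsg.IrrCharacter G, (∀ s ∈ S, ∀ g g' : G, (g' : Γ) = s * g * s⁻¹ → (χ : G → ℂ) g' = (χ : G → ℂ) g) → ∃! β : Cfsg.IrrCharacter C, ∃ m : ℕ, Cfsg.classInner (fun c : C => (χ : G → ℂ) ⟨c, hCG c.2⟩) (β : C → ℂ) = (m : ℂ) ∧ ¬ p ∣ m) ∧ (∀ χ : Cfsg.IrrCharacter G, (∀ s ∈ S, ∀ g g' : G, (g' : Γ) = s * g * s⁻¹ → (χ : G → ℂ) g' = (χ : G → ℂ) g) → ∀ β : Cfsg.IrrCharacter C, ∀ m : ℕ, Cfsg.classInner (fun c : C => (χ : G → ℂ) ⟨c, hCG c.2⟩) (β : C → ℂ) = (m : ℂ) → ¬ p ∣ m → ((m : ℤ) ≡ 1 [ZMOD p] ∨ (m : ℤ) ≡ -1 [ZMOD p])) ∧ (∀ χ χ' : Cfsg.IrrCharacter G, (∀ s ∈ S, ∀ g g' : G, (g' : Γ) = s * g * s⁻¹ → (χ : G → ℂ) g' = (χ : G → ℂ) g) → (∀ s ∈ S, ∀ g g'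 : G, (g' : Γ) = s * g * s⁻¹ → (χ' : G → ℂ) g' = (χ' : G → ℂ) g) → ∀ β : Cfsg.IrrCharacter C, ∀ m m' : ℕ, Cfsg.classInner (fun c : C => (χ : G → ℂ) ⟨c, hCG c.2⟩) (β : C → ℂ) = (m : ℂ) → ¬ p ∣ m → Cfsg.classInner (fun c : C => (χ' : G → ℂ) ⟨c, hCG c.2⟩) (β : C → ℂ) = (m' : ℂ) → ¬ p ∣ m' → χ = χ') ∧ (∀ β : Cfsg.IrrCharacter C, ∃ χ : Cfsg.IrrCharacter G, (∀ s ∈ S, ∀ g g' : G, (g' : Γ) = s * g * s⁻¹ → (χ : G → ℂ) g' = (χ : G → ℂ) g) ∧ ∃ m : ℕ, Cfsg.classInner (fun c : C => (χ : G → ℂ) ⟨c, hCG c.2⟩) (β : C → ℂ) = (m : ℂ) ∧ ¬ p ∣ m) := by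
  classical
  haveI : Fact p.Prime := ⟨hp⟩
  set φ := conjAct G S hnorm with hφ
  haveI : Fintype (fixSub φ) := Fintype.ofFinite _
  let e := fixEquiv G S hnorm C hC hCG
  let T : IrrCharacter C → IrrCharacter (fixSub φ) :=
    fun β => ⟨β.1 ∘ e.symm, isIrrCharacter_comp_equiv e.symm β.2⟩
  let T' : IrrCharacter (fixSub φ) → IrrCharacter C :=
    fun β => ⟨β.1 ∘ e, isIrrCharacter_comp_equiv e β.2⟩
  have hTT' : ∀ β, T (T' β) = β := fun β => Subtype.ext (by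
    funext x
    show β.1 (e (e.symm x)) = β.1 x
    rw [MulEquiv.apply_symm_apply])
  have hT'T : ∀ β, T' (T β) = β := fun β => Subtype.ext (by
    funext x
    show β.1 (e.symm (e x)) = β.1 x
    rw [MulEquiv.symm_apply_apply])
  have key : ∀ (χ : IrrCharacter G) (β : IrrCharacter C),
      classInner (fun c : C => χ.1 ⟨c, hCG c.2⟩) β.1
        = classInner (fun x : fixSub φ => χ.1 x) (T β).1 := by
    intro χ β
    have h1 := classInner_comp_equiv e (fun x : fixSub φ => χ.1 x) (T β).1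
    rw [← h1]
    congr 1
  have hinv : ∀ χ : IrrCharacter G, IsInvFun φ χ.1 ↔
      ∀ s ∈ S, ∀ g g' : G, (g' : Γ) = s * g * s⁻¹ → χ.1 g' = χ.1 g :=
    fun χ => isInvFun_conjAct_iff G S hnorm χ.1
  obtain ⟨a1, a2, a3, a4⟩ := glauberman_p_cop p hS hcop φ
  refine ⟨?_, ?_, ?_, ?_⟩
  · intro χ hχ
    obtain ⟨β', ⟨m, hm, hpm⟩, huniq⟩ := a1 χ ((hinv χ).2 hχ)
    refine ⟨T' β', ⟨m, by rw [key, hTT']; exact hm, hpm⟩, ?_⟩
    rintro β₂ ⟨m₂, hm₂, hpm₂⟩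
    have := huniq (T β₂) ⟨m₂, by rw [← key]; exact hm₂, hpm₂⟩
    rw [← this, hT'T]
  · intro χ hχ β m hm hpm
    exact a2 χ ((hinv χ).2 hχ) (T β) m (by rw [← key]; exact hm) hpm
  · intro χ χ' hχ hχ' β m m' hm hpm hm' hpm'
    exact a3 χ χ' ((hinv χ).2 hχ) ((hinv χ').2 hχ') (T β) m m' (by rw [← key]; exact hm) hpm
      (by rw [← key]; exact hm') hpm'
  · intro β
    obtain ⟨χ, hχ, m, hm, hpm⟩ := a4 (T β)
    exact ⟨χ, (hinv χ).1 hχ, m, by rw [key]; exact hm, hpm⟩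

end subgroups

end Cfsg.Agent.Lib.helper24
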