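import Cfsg.Agent.Lib.helper24.GlaubLin
import Cfsg.Agent.Lib.helper24.CharProj
import Cfsg.Agent.Lib.helper24.CharGallagher
import Cfsg.Agent.Lib.helper24.CharGallagher2
import Cfsg.Agent.Lib.helper24.CharEquiv
import Cfsg.Agent.Lib.helper23.CharInt

set_option autoImplicit false

namespace Cfsg.Agent.Lib.helper24
open Cfsg
open Cfsg.Agent.Lib.helper23 Cfsg.Agent.Lib.helper5
open scoped ComplexConjugate

universe u v

/-- a representation with irreducible character is irreducible -/
theorem isIrreducible_of_character {G : Type u} [Group G] [Finite G] {n : ℕ}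
    (ρ : Representation ℂ G (Fin n → ℂ)) (h : IsIrrCharacter G ρ.character) : ρ.IsIrreducible := by
  obtain ⟨n', ρ', hirr', hch⟩ := h
  haveI := hirr'
  obtain ⟨φ⟩ := equiv_of_character_eq ρ' ρ hch
  exact isIrreducible_of_equiv φ

set_option maxHeartbeats 1600000 in
/-- **Invariant constituents over an invariant character when the two layers have coprime
indices** (S4450). -/
theorem inv_over_of_index_coprime {Γ : Type u} [Group Γ] [Fintype Γ] (G N : Subgroup Γ)
    [hG : G.Normal] [hN : N.Normal] [Fintype G] [Fintype N] (hNG : N ≤ G)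
    (hcop : (G.index).Coprime (N.relIndex G))
    (hsolv : Group.IsSolvable (Γ ⧸ G) ∨ Group.IsSolvable (G ⧸ N.subgroupOf G))
    (θ : IrrCharacter N)
    (hinv : ∀ (x : Γ) (n : N), θ.1 ⟨x * n * x⁻¹, hN.conj_mem n n.2 x⟩ = θ.1 n) :
    ∃ χ : IrrCharacter G, classInner (fun n : N => χ.1 ⟨n, hNG n.2⟩) θ.1 ≠ 0 ∧
      ∀ (x : Γ) (g : G), χ.1 ⟨x * g * x⁻¹, hG.conj_mem g g.2 x⟩ = χ.1 g := by
  classical
  obtain ⟨d, Y, hY, hYθ⟩ := θ.2
  haveI := hY
  have hinv' : ∀ (g : Γ) (n : N), Y.character (MulAut.conjNormal g n) = Y.character n := by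
    intro g n
    rw [hYθ]
    have h2 : MulAut.conjNormal g n = ⟨g * n * g⁻¹, hN.conj_mem (n : Γ) n.2 g⟩ := by
      apply Subtype.ext
      simp
    rw [h2]
    exact hinv g n
  haveI hfin : Finite (projGroup N Y) := projGroup_finite N Y hinv'
  haveI : Fintype (projGroup N Y) := Fintype.ofFinite _
  have hπ : Function.Surjective (projHom N Y) := projHom_surjective N Y hinv'
  haveI hGs : (G.comap (projHom N Y)).Normal := Subgroup.Normal.comap hG _
  haveI hNs : (N.comap (projHom N Y)).Normal := Subgroup.Normal.comap hN _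
  have hNGs : N.comap (projHom N Y) ≤ G.comap (projHom N Y) := Subgroup.comap_mono hNG
  haveI : Fintype (G.comap (projHom N Y)) := Fintype.ofFinite _
  haveI : Fintype (N.comap (projHom N Y)) := Fintype.ofFinite _
  have hidxG : (G.comap (projHom N Y)).index = G.index := Subgroup.index_comap_of_surjective G hπ
  have hrel : (N.comap (projHom N Y)).relIndex (G.comap (projHom N Y)) = N.relIndex G := by
    rw [Subgroup.relIndex_comap, Subgroup.map_comap_eq_self_of_surjective hπ]
  have hcop' : ((G.comap (projHom N Y)).index).Coprime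
      ((N.comap (projHom N Y)).relIndex (G.comap (projHom N Y))) := by
    rw [hidxG, hrel]; exact hcop
  let πG : G.comap (projHom N Y) →* G :=
    { toFun := fun γ => ⟨projHom N Y γ, γ.2⟩
      map_one' := Subtype.ext (map_one _)
      map_mul' := fun a b => Subtype.ext (map_mul _ _ _) }
  have hπG : Function.Surjective πG := by
    intro g
    obtain ⟨γ, hγ⟩ := hπ (g : Γ)
    exact ⟨⟨γ, by show projHom N Y γ ∈ G; rw [hγ]; exact g.2⟩, Subtype.ext hγ⟩
  have hsolv' : Group.IsSolvable (projGroup N Y ⧸ G.comap (projHom N Y)) ∨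
      Group.IsSolvable (G.comap (projHom N Y) ⧸
        (N.comap (projHom N Y)).subgroupOf (G.comap (projHom N Y))) := by
    rcases hsolv with h | h
    · left
      let f : projGroup N Y ⧸ G.comap (projHom N Y) →* Γ ⧸ G :=
        QuotientGroup.map (G.comap (projHom N Y)) G (projHom N Y) (fun x hx => hx)
      have hf : Function.Injective f := by
        rw [injective_iff_map_eq_one]
        intro q hq
        induction q using QuotientGroup.induction_on with
        | H γ =>
          have h1 : f (QuotientGroup.mk γ) = QuotientGroup.mk (projHom N Y γ) := rfl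
          rw [h1, QuotientGroup.eq_one_iff] at hq
          exact (QuotientGroup.eq_one_iff γ).2 hq
      exact solvable_of_solvable_injective hf
    · right
      let f : G.comap (projHom N Y) ⧸ (N.comap (projHom N Y)).subgroupOf (G.comap (projHom N Y))
          →* G ⧸ N.subgroupOf G :=
        QuotientGroup.map _ (N.subgroupOf G) πG (fun x hx => hx)
      have hf : Function.Injective f := by
        rw [injective_iff_map_eq_one]
        intro q hq
        induction q using QuotientGroup.induction_on with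
        | H γ =>
          have h1 : f (QuotientGroup.mk γ) = QuotientGroup.mk (πG γ) := rfl
          rw [h1, QuotientGroup.eq_one_iff] at hq
          exact (QuotientGroup.eq_one_iff γ).2 hq
      exact solvable_of_solvable_injective hf
  have hlam_spec := projScalar_spec N Y N le_rfl Y (fun n => rfl)
  have hlam_inv : projScalar N Y N le_rfl Y (fun n => rfl) ∈ invHoms (N.comap (projHom N Y)) := by
    intro γ n
    apply projScalar_eq_of
    have hn := projScalar_spec N Y N le_rfl Y (fun n => rfl) n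
    have hγ := γ.2.2 ⟨n.1.1.1, projHom_mem n.2⟩
    have hYeq : Y (MulAut.conjNormal γ.1.1 ⟨n.1.1.1, projHom_mem n.2⟩)
        = Y ⟨(γ * n * γ⁻¹ : projGroup N Y).1.1,
          projHom_mem (hNs.conj_mem (n : projGroup N Y) n.2 γ)⟩ := by
      congr 1
    show ((γ.1.2 * n.1.1.2 * γ.1.2⁻¹ : (Module.End ℂ (Fin d → ℂ))ˣ) : Module.End ℂ (Fin d → ℂ))
      = _
    rw [Units.val_mul, Units.val_mul, hn, mul_smul_comm, smul_mul_assoc, hγ, mul_assoc,
      Units.mul_inv, mul_one, hYeq]
  have hlaminv_inv : (projScalar N Y N le_rfl Y (fun n => rfl))⁻¹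
      ∈ invHoms (N.comap (projHom N Y)) := Subgroup.inv_mem _ hlam_inv
  obtain ⟨ψ, hψ1, hψ2⟩ := linear_inv_over (G.comap (projHom N Y)) (N.comap (projHom N Y)) hNGs
    hcop' hsolv' _ hlaminv_inv
  set lam := projScalar N Y N le_rfl Y (fun n => rfl) with hlamdef
  -- the tautological representation
  let R : Representation ℂ (projGroup N Y) (Fin d → ℂ) :=
    { toFun := fun γ => ((γ.1.2 : (Module.End ℂ (Fin d → ℂ))ˣ) : Module.End ℂ (Fin d → ℂ))
      map_one' := rfl
      map_mul' := fun a b => rfl }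
  have hτchar : IsCharacter (projGroup N Y) R.character := ⟨d, R, rfl⟩
  have hτcf : IsClassFunction (projGroup N Y) R.character := isCharacter_conj_class hτchar
  have hτN : ∀ x : N.comap (projHom N Y), R.character x
      = ((lam x : ℂˣ) : ℂ) * θ.1 ⟨x.1.1.1, projHom_mem x.2⟩ := by
    intro x
    show LinearMap.trace ℂ _
      ((x.1.1.2 : (Module.End ℂ (Fin d → ℂ))ˣ) : Module.End ℂ (Fin d → ℂ)) = _
    rw [hlam_spec x, map_smul, smul_eq_mul, ← hYθ]
    rfl
  have hlamcancel : ∀ x : N.comap (projHom N Y),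
      (((lam⁻¹) x : ℂˣ) : ℂ) * ((lam x : ℂˣ) : ℂ) = 1 := by
    intro x
    rw [← Units.val_mul]
    show (((lam x)⁻¹ * lam x : ℂˣ) : ℂ) = 1
    rw [inv_mul_cancel, Units.val_one]
  let πN : N.comap (projHom N Y) →* N :=
    { toFun := fun γ => ⟨projHom N Y γ, γ.2⟩
      map_one' := Subtype.ext (map_one _)
      map_mul' := fun a b => Subtype.ext (map_mul _ _ _) }
  have hπN : Function.Surjective πN := by
    intro n
    obtain ⟨γ, hγ⟩ := hπ (n : Γ)
    exact ⟨⟨γ, by show projHom N Y γ ∈ N; rw [hγ]; exact n.2⟩, Subtype.ext hγ⟩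
  have hθπ : IsIrrCharacter (N.comap (projHom N Y)) (θ.1 ∘ πN) :=
    isIrrCharacter_comp_surjective πN hπN θ.2
  let RG : Representation ℂ (G.comap (projHom N Y)) (Fin d → ℂ) := R.comp (Subgroup.subtype _)
  let RN : Representation ℂ (N.comap (projHom N Y)) (Fin d → ℂ) :=
    RG.comp (Subgroup.inclusion hNGs)
  have hRNchar : RN.character
      = fun x : N.comap (projHom N Y) => ((lam x : ℂˣ) : ℂ) * (θ.1 ∘ πN) x := by
    funext x
    exact hτN x
  have hRN : RN.IsIrreducible := by
    apply isIrreducible_of_character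
    rw [hRNchar]
    exact isIrrCharacter_hom_mul lam hθπ
  have hRG : RG.IsIrreducible := isIrreducible_of_comp RG (Subgroup.inclusion hNGs) hRN
  have hτG : IsIrrCharacter (G.comap (projHom N Y))
      (fun g : G.comap (projHom N Y) => R.character g) := ⟨d, RG, hRG, rfl⟩
  -- Gallagher
  haveI hN₁ : ((N.comap (projHom N Y)).subgroupOf (G.comap (projHom N Y))).Normal :=
    inferInstance
  haveI : Fintype ((N.comap (projHom N Y)).subgroupOf (G.comap (projHom N Y))) :=
    Fintype.ofFinite _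
  let e : (N.comap (projHom N Y)).subgroupOf (G.comap (projHom N Y)) ≃* N.comap (projHom N Y) :=
    Subgroup.subgroupOfEquivOfLe hNGs
  let φ : (N.comap (projHom N Y)).subgroupOf (G.comap (projHom N Y)) → ℂ :=
    fun n => (((lam⁻¹) (e n) : ℂˣ) : ℂ)
  let ϑ : (N.comap (projHom N Y)).subgroupOf (G.comap (projHom N Y)) → ℂ :=
    fun n => R.character ((n : G.comap (projHom N Y)) : projGroup N Y)
  have hφ : IsIrrCharacter _ φ := isIrrCharacter_of_hom ((lam⁻¹).comp e.toMonoidHom)
  have hφinv : ∀ (g : G.comap (projHom N Y))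
      (n : (N.comap (projHom N Y)).subgroupOf (G.comap (projHom N Y))),
      φ ⟨g * n * g⁻¹, hN₁.conj_mem (n : G.comap (projHom N Y)) n.2 g⟩ = φ n := by
    intro g n
    show (((lam⁻¹) (e _) : ℂˣ) : ℂ) = (((lam⁻¹) (e n) : ℂˣ) : ℂ)
    have e1 : e ⟨g * n * g⁻¹, hN₁.conj_mem (n : G.comap (projHom N Y)) n.2 g⟩
        = ⟨(g : projGroup N Y) * (e n : projGroup N Y) * (g : projGroup N Y)⁻¹,
            hNs.conj_mem _ (e n).2 g⟩ := Subtype.ext rfl
    rw [e1, hlaminv_inv (g : projGroup N Y) (e n)]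
  have hϑinv : ∀ (g : G.comap (projHom N Y))
      (n : (N.comap (projHom N Y)).subgroupOf (G.comap (projHom N Y))),
      ϑ ⟨g * n * g⁻¹, hN₁.conj_mem (n : G.comap (projHom N Y)) n.2 g⟩ = ϑ n := by
    intro g n
    exact hτcf ((n : G.comap (projHom N Y)) : projGroup N Y) (g : projGroup N Y)
  have hprod : IsIrrCharacter _ (φ * ϑ) := by
    have h1 : φ * ϑ = (θ.1 ∘ πN) ∘ e := by
      funext n
      show (((lam⁻¹) (e n) : ℂˣ) : ℂ)
        * R.character ((n : G.comap (projHom N Y)) : projGroup N Y) = θ.1 (πN (e n))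
      have h3 : R.character ((n : G.comap (projHom N Y)) : projGroup N Y)
          = ((lam (e n) : ℂˣ) : ℂ) * θ.1 (πN (e n)) := hτN (e n)
      rw [h3, ← mul_assoc, hlamcancel, one_mul]
    rw [h1]
    exact isIrrCharacter_comp_equiv e hθπ
  have hgal := gallagher_bijOn ((N.comap (projHom N Y)).subgroupOf (G.comap (projHom N Y)))
    φ ϑ hφ hφinv hϑinv hprod (fun g : G.comap (projHom N Y) => R.character g) hτG (fun n => rfl)
  have hψmem : ψ.1 ∈ {β : G.comap (projHom N Y) → ℂ | IsIrrCharacter _ β ∧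
      classInner (indFun ((N.comap (projHom N Y)).subgroupOf (G.comap (projHom N Y))) φ) β
        ≠ 0} := by
    refine ⟨ψ.2, ?_⟩
    rw [frobenius_reciprocity _ φ (isClassFunction_irr ψ)]
    have h1 : (fun n : (N.comap (projHom N Y)).subgroupOf (G.comap (projHom N Y)) => ψ.1 n)
        = ψ.1 1 • φ := by
      funext n
      exact hψ1 (e n)
    rw [h1, classInner_smul_right, irr_inner_self ⟨φ, hφ⟩, mul_one]
    exact (map_ne_zero _).2 (irr_one_ne_zero ψ)
  have hχs := (hgal.mapsTo hψmem).1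
  -- descend to G
  have hχs_apply : ∀ γ : G.comap (projHom N Y),
      (ψ.1 * fun g : G.comap (projHom N Y) => R.character g) γ = ψ.1 γ * R.character γ :=
    fun γ => rfl
  have hker : ∀ z ∈ πG.ker, (ψ.1 * fun g : G.comap (projHom N Y) => R.character g) z
      = (ψ.1 * fun g : G.comap (projHom N Y) => R.character g) 1 := by
    intro z hz
    have hz1 : projHom N Y z = 1 := congrArg Subtype.val (MonoidHom.mem_ker.1 hz)
    have hzN : (z : projGroup N Y) ∈ N.comap (projHom N Y) := by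
      show projHom N Y z ∈ N
      rw [hz1]; exact N.one_mem
    have e1 : (⟨(z : projGroup N Y).1.1, projHom_mem hzN⟩ : N) = 1 := Subtype.ext hz1
    have h1' : ψ.1 z = ψ.1 1 * (((lam⁻¹) ⟨z, hzN⟩ : ℂˣ) : ℂ) := hψ1 ⟨z, hzN⟩
    have h2' : R.character (z : projGroup N Y) = ((lam ⟨z, hzN⟩ : ℂˣ) : ℂ) * θ.1 1 := by
      rw [← e1]; exact hτN ⟨z, hzN⟩
    have h3' : R.character ((1 : G.comap (projHom N Y)) : projGroup N Y) = θ.1 1 := by
      have h3 : R.character (1 : projGroup N Y)
          = ((lam 1 : ℂˣ) : ℂ) * θ.1 1 := hτN 1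
      rw [map_one, Units.val_one, one_mul] at h3
      exact h3
    rw [hχs_apply, hχs_apply, h1', h2', h3']
    linear_combination (ψ.1 1 * θ.1 1) * hlamcancel ⟨z, hzN⟩
  obtain ⟨χ', hχ'irr, hχ'⟩ := isIrrCharacter_deflate πG.ker hχs hker
  let E : G.comap (projHom N Y) ⧸ πG.ker ≃* G :=
    QuotientGroup.quotientKerEquivOfSurjective πG hπG
  have hχirr : IsIrrCharacter G (χ' ∘ E.symm) := isIrrCharacter_comp_equiv E.symm hχ'irr
  have hkey : ∀ γ : G.comap (projHom N Y),
      (χ' ∘ E.symm) (πG γ) = ψ.1 γ * R.character γ := by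
    intro γ
    show χ' (E.symm (πG γ)) = _
    have h1 : E.symm (πG γ) = QuotientGroup.mk γ := by
      rw [MulEquiv.symm_apply_eq]; rfl
    rw [h1, hχ']
    rfl
  refine ⟨⟨χ' ∘ E.symm, hχirr⟩, ?_, ?_⟩
  · have h1 : (fun n : N => (χ' ∘ E.symm) ⟨n, hNG n.2⟩) = ψ.1 1 • θ.1 := by
      funext n
      obtain ⟨γ, hγ⟩ := hπN n
      have e1 : (⟨n, hNG n.2⟩ : G) = πG ⟨γ, hNGs γ.2⟩ :=
        Subtype.ext (congrArg Subtype.val hγ).symm
      rw [e1, hkey]
      have h2 : ψ.1 ⟨γ, hNGs γ.2⟩ = ψ.1 1 * (((lam⁻¹) γ : ℂˣ) : ℂ) := hψ1 γ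
      have h3 : R.character (γ : projGroup N Y) = ((lam γ : ℂˣ) : ℂ) * θ.1 n := by
        rw [← hγ]; exact hτN γ
      rw [h2, h3]
      show _ = ψ.1 1 * θ.1 n
      linear_combination (ψ.1 1 * θ.1 n) * hlamcancel γ
    show classInner (fun n : N => (χ' ∘ E.symm) ⟨n, hNG n.2⟩) θ.1 ≠ 0
    rw [h1, classInner_smul_left, irr_inner_self θ, mul_one]
    exact irr_one_ne_zero ψ
  · intro x g
    obtain ⟨ξ, hξ⟩ := hπ x
    obtain ⟨γ, hγ⟩ := hπG g
    have hγ' : projHom N Y γ = g := congrArg Subtype.val hγ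
    have e1 : (⟨x * g * x⁻¹, hG.conj_mem g g.2 x⟩ : G)
        = πG ⟨ξ * γ * ξ⁻¹, hGs.conj_mem γ γ.2 ξ⟩ := by
      apply Subtype.ext
      show x * g * x⁻¹ = projHom N Y (ξ * γ * ξ⁻¹)
      rw [map_mul, map_mul, map_inv, hξ, hγ']
    show (χ' ∘ E.symm) _ = (χ' ∘ E.symm) g
    rw [e1, hkey, ← hγ, hkey, hψ2 ξ γ]
    congr 1
    exact hτcf (γ : projGroup N Y) ξ

end Cfsg.Agent.Lib.helper24
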