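import Cfsg.Agent.Lib.helper24.CharExtraspecial
import Cfsg.Agent.Lib.helper24.CharPPow
import Cfsg.Agent.Lib.helper24.CycTI4
import Cfsg.Agent.Lib.helper23.Ito

set_option autoImplicit false

namespace Cfsg.Agent.Lib.helper24
open Cfsg
open scoped ComplexConjugate
open scoped commutatorElement

universe u

/-- linear characters separate elements outside the commutator subgroup -/
theorem exists_hom_ne_one_of_not_mem_commutator {G : Type u} [Group G] [Finite G] (x : G)
    (hx : x ∉ commutator G) : ∃ lam : G →* ℂˣ, lam x ≠ 1 := by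
  have h1 : (Abelianization.of x : Abelianization G) ≠ 1 := by
    intro h
    apply hx
    rw [← Abelianization.ker_of]
    exact MonoidHom.mem_ker.mpr h
  obtain ⟨ω, hω⟩ := exists_hom_ne_one (Abelianization.of x : Abelianization G) h1
  exact ⟨ω.comp Abelianization.of, hω⟩

/-- a nonlinear irreducible character of an extraspecial `p`-group `P` has `p χ(1)² = |P|` -/
theorem extraspecial_nonlinear_sq {P : Type u} [Group P] [Finite P] (p : ℕ) [hp : Fact p.Prime]
    (hP : IsExtraspecial p P) (χ : IrrCharacter P) (hχ : χ.1 1 ≠ 1) :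
    p * charDegree χ.1 ^ 2 = Nat.card P := by
  classical
  haveI : Fintype P := Fintype.ofFinite P
  obtain ⟨⟨-, -, hcomm⟩, hZ⟩ := hP
  have h1 : ∃ a ∈ commutator P, χ.1 a ≠ χ.1 1 := by
    by_contra hcon
    push_neg at hcon
    exact hχ (irr_linear_of_commutator_le_ker χ.2 hcon)
  obtain ⟨a, ha, hane⟩ := h1
  rw [hcomm] at ha
  obtain ⟨c, hc, -⟩ := Cfsg.Agent.Lib.helper23.isIrrCharacter_central χ.2 a ha
  have hc1 : c ≠ 1 := by
    intro h
    apply hane
    have := hc 1
    rwa [mul_one, h, one_mul] at this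
  have hvan : ∀ x : P, x ∉ Subgroup.center P → χ.1 x = 0 := by
    intro x hx
    refine vanish_off_center_of_twist hp.out hcomm hZ χ.1
      (isCharacter_conj_class (isCharacter_of_isIrrCharacter χ.2)) a ha c hc1 ?_ x hx
    intro y
    rw [← hc y, Subgroup.mem_center_iff.1 ha y]
  have hd : (charDegree χ.1 : ℂ) = χ.1 1 := charDegree_cast χ
  have hsum : ∑ g : P, χ.1 g * conj (χ.1 g)
      = (Nat.card (Subgroup.center P) : ℂ) * ((charDegree χ.1 : ℂ) ^ 2) := by
    apply sum_eq_card_mul_of_support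
    · intro g hg
      rw [hvan g hg, zero_mul]
    · intro g hg
      rw [Complex.mul_conj, Complex.normSq_eq_norm_sq, norm_irr_central χ g hg, ← hd]
      simp
  have hinner := irr_inner_self χ
  unfold classInner at hinner
  rw [hsum, hZ] at hinner
  have h3 : (Nat.card P : ℂ) ≠ 0 := by exact_mod_cast (Nat.card_pos (α := P)).ne'
  have h4 := (inv_mul_eq_one₀ h3).1 hinner
  have h5 : ((p * charDegree χ.1 ^ 2 : ℕ) : ℂ) = ((Nat.card P : ℕ) : ℂ) := by
    push_cast
    rw [h4]
  exact_mod_cast h5

/-- an extraspecial 2-group has exactly one irreducible character of even degree -/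
theorem extraspecial_two_unique {G : Type u} [Group G] [Finite G] (hP : IsExtraspecial 2 G) :
    Nat.card {χ : IrrCharacter G // 2 ∣ charDegree χ.1} = 1 := by
  classical
  haveI : Fact (Nat.Prime 2) := ⟨Nat.prime_two⟩
  have : Fintype G := Fintype.ofFinite G
  have : Fintype (IrrCharacter G) := Fintype.ofFinite _
  have hsq : ∀ χ : IrrCharacter G, χ.1 1 ≠ 1 → 2 * charDegree χ.1 ^ 2 = Nat.card G :=
    fun χ hχ => extraspecial_nonlinear_sq 2 hP χ hχ
  obtain ⟨⟨hpg, -, hcomm⟩, hZ⟩ := hP
  -- the number of linear characters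
  have hidx : 2 * (commutator G).index = Nat.card G := by
    have h1 := Subgroup.card_mul_index (commutator G)
    rw [hcomm, hZ] at h1
    rw [hcomm]
    exact h1
  have hlin : (Finset.univ.filter (fun χ : IrrCharacter G => χ.1 1 = 1)).card =
      (commutator G).index := by
    rw [← card_linear_irr, Nat.card_eq_fintype_card, Fintype.card_subtype]
  -- split the sum of squares
  have hsum := sum_sq_charDegree (G := G)
  rw [← Finset.sum_filter_add_sum_filter_not Finset.univ (fun χ : IrrCharacter G => χ.1 1 = 1)]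
    at hsum
  have h1 : ∑ χ ∈ Finset.univ.filter (fun χ : IrrCharacter G => χ.1 1 = 1), charDegree χ.1 ^ 2 =
      (commutator G).index := by
    rw [← hlin, Finset.card_eq_sum_ones]
    refine Finset.sum_congr rfl fun χ hχ => ?_
    have h2 : (charDegree χ.1 : ℂ) = 1 := by
      rw [charDegree_cast]
      exact (Finset.mem_filter.mp hχ).2
    have h3 : charDegree χ.1 = 1 := by exact_mod_cast h2
    rw [h3]
    rfl
  have h2 : 2 * ∑ χ ∈ Finset.univ.filter (fun χ : IrrCharacter G => ¬ χ.1 1 = 1),
      charDegree χ.1 ^ 2 =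
      (Finset.univ.filter (fun χ : IrrCharacter G => ¬ χ.1 1 = 1)).card * Nat.card G := by
    rw [Finset.mul_sum, Finset.card_eq_sum_ones, Finset.sum_mul]
    refine Finset.sum_congr rfl fun χ hχ => ?_
    rw [hsq χ (Finset.mem_filter.mp hχ).2, one_mul]
  rw [h1] at hsum
  have hGpos : 0 < Nat.card G := Nat.card_pos
  have hk : (Finset.univ.filter (fun χ : IrrCharacter G => ¬ χ.1 1 = 1)).card = 1 := by
    have h3 : (Finset.univ.filter (fun χ : IrrCharacter G => ¬ χ.1 1 = 1)).card * Nat.card G =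
        1 * Nat.card G := by
      rw [← h2]
      omega
    exact Nat.eq_of_mul_eq_mul_right hGpos h3
  -- even degree iff nonlinear
  obtain ⟨m, hm⟩ := (IsPGroup.iff_card).mp hpg
  have hiff : ∀ χ : IrrCharacter G, 2 ∣ charDegree χ.1 ↔ ¬ χ.1 1 = 1 := by
    intro χ
    constructor
    · intro h2d h1'
      have h2 : (charDegree χ.1 : ℂ) = 1 := by rw [charDegree_cast]; exact h1'
      have h3 : charDegree χ.1 = 1 := by exact_mod_cast h2
      rw [h3] at h2d
      omega
    · intro hnl
      have h4 := hsq χ hnl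
      rw [hm] at h4
      have hdvd : charDegree χ.1 ∣ 2 ^ m := by
        rw [← h4]
        exact Dvd.intro (2 * charDegree χ.1) (by ring)
      obtain ⟨j, -, hj⟩ := (Nat.dvd_prime_pow Nat.prime_two).mp hdvd
      have hj0 : j ≠ 0 := by
        rintro rfl
        apply hnl
        rw [← charDegree_cast, hj]
        simp
      rw [hj]
      exact dvd_pow_self 2 hj0
  rw [Nat.card_congr (Equiv.subtypeEquivRight hiff), Nat.card_eq_fintype_card,
    Fintype.card_subtype]
  exact hk

/-- a normal subgroup of order 2 is central -/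
theorem normal_card_two_le_center {G : Type u} [Group G] (N : Subgroup G) [hN : N.Normal]
    (hN2 : Nat.card N = 2) : N ≤ Subgroup.center G := by
  intro a ha
  rw [Subgroup.mem_center_iff]
  intro g
  by_cases ha1 : a = 1
  · rw [ha1, mul_one, one_mul]
  have hconj : g * a * g⁻¹ ∈ N := hN.conj_mem a ha g
  have hne : g * a * g⁻¹ ≠ 1 := by
    intro h
    apply ha1
    have h2 : a = g⁻¹ * (g * a * g⁻¹) * g := by group
    rw [h2, h]
    group
  obtain ⟨b, -, hbu⟩ := (Nat.card_eq_two_iff' (1 : N)).mp hN2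
  have e1 : (⟨a, ha⟩ : N) = b :=
    hbu _ (fun h => ha1 (congrArg (Subtype.val : ↥N → G) h))
  have e2 : (⟨g * a * g⁻¹, hconj⟩ : N) = b :=
    hbu _ (fun h => hne (congrArg (Subtype.val : ↥N → G) h))
  have e3 : g * a * g⁻¹ = a := congrArg (Subtype.val : ↥N → G) (e2.trans e1.symm)
  calc g * a = g * a * g⁻¹ * g := by group
    _ = a * g := by rw [e3]

theorem commutatorElement_mul_central_left {G : Type u} [Group G] (g h z : G)
    (hz : ∀ x : G, x * z = z * x) : ⁅g * z, h⁆ = ⁅g, h⁆ := by
  rw [commutatorElement_def, commutatorElement_def, mul_inv_rev]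
  have h1 : z * h = h * z := (hz h).symm
  calc g * z * h * (z⁻¹ * g⁻¹) * h⁻¹ = g * (z * h) * z⁻¹ * g⁻¹ * h⁻¹ := by group
    _ = g * (h * z) * z⁻¹ * g⁻¹ * h⁻¹ := by rw [h1]
    _ = g * h * g⁻¹ * h⁻¹ := by group

theorem commutatorElement_mul_central_right {G : Type u} [Group G] (g h z : G)
    (hz : ∀ x : G, x * z = z * x) : ⁅g, h * z⁆ = ⁅g, h⁆ := by
  rw [commutatorElement_def, commutatorElement_def, mul_inv_rev]
  have h1 : z * g⁻¹ = g⁻¹ * z := (hz g⁻¹).symm
  calc g * (h * z) * g⁻¹ * (z⁻¹ * h⁻¹) = g * h * (z * g⁻¹) * z⁻¹ * h⁻¹ := by group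
    _ = g * h * (g⁻¹ * z) * z⁻¹ * h⁻¹ := by rw [h1]
    _ = g * h * g⁻¹ * h⁻¹ := by group

/-- a coatom not containing a central subgroup containing the commutator: impossible -/
theorem central_le_coatom_of_commutator_le {G : Type u} [Group G] (Z M : Subgroup G)
    (hZ : Z ≤ Subgroup.center G) (hc : commutator G ≤ Z) (hcZ : Z ≤ commutator G)
    (hM : IsCoatom M) : Z ≤ M := by
  by_contra hnot
  have hZn : Z.Normal := by
    constructor
    intro z hz g
    have h1 := Subgroup.mem_center_iff.mp (hZ hz) g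
    have h2 : g * z * g⁻¹ = z := by rw [h1]; group
    rw [h2]; exact hz
  have hsup : M ⊔ Z = ⊤ :=
    hM.2 _ (lt_of_le_of_ne le_sup_left (fun h => hnot (le_sup_right.trans_eq h.symm)))
  have hcM : commutator G ≤ M := by
    rw [commutator_def, Subgroup.commutator_le]
    intro g₁ _ g₂ _
    have hg₁ : g₁ ∈ M ⊔ Z := by rw [hsup]; exact Subgroup.mem_top _
    have hg₂ : g₂ ∈ M ⊔ Z := by rw [hsup]; exact Subgroup.mem_top _
    obtain ⟨m₁, hm₁, z₁, hz₁, rfl⟩ := Subgroup.mem_sup_of_normal_right.mp hg₁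
    obtain ⟨m₂, hm₂, z₂, hz₂, rfl⟩ := Subgroup.mem_sup_of_normal_right.mp hg₂
    rw [commutatorElement_mul_central_left _ _ _ (Subgroup.mem_center_iff.mp (hZ hz₁)),
      commutatorElement_mul_central_right _ _ _ (Subgroup.mem_center_iff.mp (hZ hz₂))]
    rw [commutatorElement_def]
    exact M.mul_mem (M.mul_mem (M.mul_mem hm₁ hm₂) (M.inv_mem hm₁)) (M.inv_mem hm₂)
  exact hnot (hcZ.trans hcM)

/-- in a group with `G' = Z(G)` of order 2, squares are central -/
theorem sq_mem_center_of_commutator_two {G : Type u} [Group G]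
    (hcZ : commutator G = Subgroup.center G) (hZ2 : Nat.card (Subgroup.center G) = 2) (g : G) :
    g * g ∈ Subgroup.center G := by
  rw [Subgroup.mem_center_iff]
  intro h
  -- c = ⁅g, h⁆ is central with c * c = 1
  have hc : ⁅g, h⁆ ∈ Subgroup.center G := by
    rw [← hcZ, commutator_def]
    exact Subgroup.commutator_mem_commutator (Subgroup.mem_top g) (Subgroup.mem_top h)
  have hc2 : ⁅g, h⁆ * ⁅g, h⁆ = 1 := by
    have h1 : (⟨⁅g, h⁆, hc⟩ : Subgroup.center G) ^ 2 = 1 := by
      rw [← hZ2]
      exact pow_card_eq_one'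
    have h2 := congrArg (Subtype.val : ↥(Subgroup.center G) → G) h1
    rw [pow_two] at h2
    exact h2
  have hcc := Subgroup.mem_center_iff.mp hc
  have hgh : g * h = ⁅g, h⁆ * (h * g) := by
    rw [commutatorElement_def]; group
  calc h * (g * g) = 1 * (h * g * g) := by group
    _ = ⁅g, h⁆ * ⁅g, h⁆ * (h * g * g) := by rw [hc2]
    _ = ⁅g, h⁆ * (⁅g, h⁆ * (h * g)) * g := by group
    _ = ⁅g, h⁆ * (g * h) * g := by rw [← hgh]
    _ = (⁅g, h⁆ * g) * h * g := by group
    _ = (g * ⁅g, h⁆) * h * g := by rw [hcc g]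
    _ = g * (⁅g, h⁆ * (h * g)) := by group
    _ = g * (g * h) := by rw [← hgh]
    _ = g * g * h := by group

/-- in a group with `G' = Z(G)` of order 2, the Frattini subgroup is `Z(G)` -/
theorem frattini_eq_center_of_commutator_two {G : Type u} [Group G] [Finite G]
    (hcZ : commutator G = Subgroup.center G) (hZ2 : Nat.card (Subgroup.center G) = 2) :
    frattini G = Subgroup.center G := by
  apply le_antisymm
  · intro x hx
    by_contra hxZ
    rw [← hcZ] at hxZ
    obtain ⟨lam, hlam⟩ := exists_hom_ne_one_of_not_mem_commutator x hxZ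
    have hsq : ∀ g : G, ((lam g : ℂˣ) : ℂ) * ((lam g : ℂˣ) : ℂ) = 1 := by
      intro g
      have h1 : g * g ∈ lam.ker := by
        apply Abelianization.commutator_subset_ker lam
        rw [hcZ]
        exact sq_mem_center_of_commutator_two hcZ hZ2 g
      have h2 : lam (g * g) = 1 := MonoidHom.mem_ker.mp h1
      rw [map_mul] at h2
      have h3 := congrArg (Units.val : ℂˣ → ℂ) h2
      rw [Units.val_mul, Units.val_one] at h3
      exact h3
    have hpm : ∀ g : G, lam g ≠ 1 → ((lam g : ℂˣ) : ℂ) = -1 := by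
      intro g hg
      rcases mul_self_eq_one_iff.mp (hsq g) with h | h
      · exact absurd (Units.ext (by rw [h, Units.val_one])) hg
      · exact h
    have hco : IsCoatom lam.ker := by
      constructor
      · intro htop
        apply hlam
        have : x ∈ lam.ker := by rw [htop]; exact Subgroup.mem_top x
        exact MonoidHom.mem_ker.mp this
      · intro K hK
        obtain ⟨g, hgK, hgk⟩ := SetLike.exists_of_lt hK
        have hg1 : lam g ≠ 1 := fun h => hgk (MonoidHom.mem_ker.mpr h)
        rw [eq_top_iff]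
        intro y _
        by_cases hy : lam y = 1
        · exact hK.le (MonoidHom.mem_ker.mpr hy)
        · have h1 : y * g⁻¹ ∈ lam.ker := by
            rw [MonoidHom.mem_ker]
            apply Units.ext
            rw [map_mul, map_inv, Units.val_mul, Units.val_one, Units.val_inv_eq_inv_val,
              hpm y hy, hpm g hg1]
            norm_num
          have h2 : y = y * g⁻¹ * g := by group
          rw [h2]
          exact K.mul_mem (hK.le h1) hgK
    have h3 := frattini_le_coatom hco hx
    exact hlam (MonoidHom.mem_ker.mp h3)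
  · unfold frattini Order.radical
    refine le_iInf₂ fun M hM => ?_
    exact central_le_coatom_of_commutator_le (Subgroup.center G) M le_rfl hcZ.le hcZ.ge hM

theorem irr_degree_facts3 {G : Type u} [Group G] [Finite G] (χ : IrrCharacter G) :
    charDegree χ.1 ∣ Nat.card G ∧ charDegree χ.1 ≠ 0 ∧ χ.1 1 = (charDegree χ.1 : ℂ) :=
  ⟨(dvd_mul_left _ _).trans (card_irrKer_mul_degree_dvd χ), (charDegree_pos χ).ne',
    (charDegree_cast χ).symm⟩

/-- arithmetic core: `c * i = i + d ^ 2` with `c`, `d` powers of `p`, `d ≠ 1` forces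
`p = 2`, `c = 2` and `i = d ^ 2` -/
theorem unique_nl_arith (p : ℕ) (hp : p.Prime) (c i d k j : ℕ) (hc : c = p ^ k)
    (hd : d = p ^ j) (h : c * i = i + d ^ 2) : p = 2 ∧ c = 2 ∧ i = d ^ 2 := by
  have hd0 : d ≠ 0 := by rw [hd]; exact (pow_pos hp.pos j).ne'
  have hc0 : 0 < c := by rw [hc]; exact pow_pos hp.pos k
  have hk0 : k ≠ 0 := by
    rintro rfl
    rw [pow_zero] at hc
    rw [hc, one_mul] at h
    have : d ^ 2 = 0 := by omega
    exact hd0 (pow_eq_zero_iff (two_ne_zero) |>.mp this)
  have hpc : p ∣ c := by rw [hc]; exact dvd_pow_self p hk0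
  obtain ⟨c', rfl⟩ : ∃ c', c = c' + 1 := ⟨c - 1, by omega⟩
  have h1 : c' * i = d ^ 2 := by
    have : (c' + 1) * i = c' * i + i := by ring
    omega
  have h2 : c' ∣ p ^ (j * 2) := by
    rw [pow_mul, ← hd, ← h1]
    exact dvd_mul_right _ _
  obtain ⟨m, -, hm⟩ := (Nat.dvd_prime_pow hp).mp h2
  have hm0 : m = 0 := by
    by_contra hm0
    have hpc' : p ∣ c' := by rw [hm]; exact dvd_pow_self p hm0
    have : p ∣ 1 := (Nat.dvd_add_right hpc').mp hpc
    exact hp.one_lt.ne' (Nat.dvd_one.mp this)
  rw [hm0, pow_zero] at hm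
  subst hm
  refine ⟨?_, rfl, ?_⟩
  · exact (Nat.prime_dvd_prime_iff_eq hp Nat.prime_two).mp hpc
  · rw [one_mul] at h1
    exact h1

/-- a `p`-group with a unique irreducible character of degree divisible by `p` is an
extraspecial 2-group -/
theorem pgroup_unique_extraspecial {G : Type u} [Group G] [Finite G] (p : ℕ) [hp : Fact p.Prime]
    (hG : IsPGroup p G) (h : Nat.card {χ : IrrCharacter G // p ∣ charDegree χ.1} = 1) :
    p = 2 ∧ IsExtraspecial 2 G := by
  classical
  have : Fintype G := Fintype.ofFinite G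
  have : Fintype (IrrCharacter G) := Fintype.ofFinite _
  obtain ⟨n, hn⟩ := (IsPGroup.iff_card).mp hG
  have hdpow : ∀ χ : IrrCharacter G, ∃ j, charDegree χ.1 = p ^ j := by
    intro χ
    obtain ⟨hdvd, -, -⟩ := irr_degree_facts3 χ
    rw [hn] at hdvd
    obtain ⟨j, -, hj⟩ := (Nat.dvd_prime_pow hp.out).mp hdvd
    exact ⟨j, hj⟩
  have hiff : ∀ χ : IrrCharacter G, p ∣ charDegree χ.1 ↔ ¬ χ.1 1 = 1 := by
    intro χ
    obtain ⟨-, -, hcast⟩ := irr_degree_facts3 χ
    constructor
    · intro hpd h1
      have h2 : (charDegree χ.1 : ℂ) = 1 := by rw [← hcast]; exact h1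
      have h3 : charDegree χ.1 = 1 := by exact_mod_cast h2
      rw [h3] at hpd
      exact hp.out.one_lt.ne' (Nat.dvd_one.mp hpd)
    · intro hnl
      obtain ⟨j, hj⟩ := hdpow χ
      have hj0 : j ≠ 0 := by
        rintro rfl
        apply hnl
        rw [hcast, hj]
        simp
      rw [hj]
      exact dvd_pow_self p hj0
  have hk : (Finset.univ.filter (fun χ : IrrCharacter G => ¬ χ.1 1 = 1)).card = 1 := by
    rw [Nat.card_congr (Equiv.subtypeEquivRight hiff), Nat.card_eq_fintype_card,
      Fintype.card_subtype] at h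
    exact h
  obtain ⟨χ₀, hχ₀⟩ := Finset.card_eq_one.mp hk
  have hlin : (Finset.univ.filter (fun χ : IrrCharacter G => χ.1 1 = 1)).card =
      (commutator G).index := by
    rw [← card_linear_irr, Nat.card_eq_fintype_card, Fintype.card_subtype]
  have hsum := sum_sq_charDegree (G := G)
  rw [← Finset.sum_filter_add_sum_filter_not Finset.univ (fun χ : IrrCharacter G => χ.1 1 = 1)]
    at hsum
  have h1 : ∑ χ ∈ Finset.univ.filter (fun χ : IrrCharacter G => χ.1 1 = 1), charDegree χ.1 ^ 2 =
      (commutator G).index := by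
    rw [← hlin, Finset.card_eq_sum_ones]
    refine Finset.sum_congr rfl fun χ hχ => ?_
    have h2 : (charDegree χ.1 : ℂ) = 1 := by
      rw [charDegree_cast]
      exact (Finset.mem_filter.mp hχ).2
    have h3 : charDegree χ.1 = 1 := by exact_mod_cast h2
    rw [h3]
    rfl
  rw [h1, hχ₀, Finset.sum_singleton] at hsum
  have hci := Subgroup.card_mul_index (commutator G)
  rw [← hsum] at hci
  obtain ⟨k, hk'⟩ := (IsPGroup.iff_card).mp (hG.to_subgroup (commutator G))
  obtain ⟨j, hj⟩ := hdpow χ₀
  obtain ⟨hp2, hc2, hidx⟩ := unique_nl_arith p hp.out _ _ _ k j hk' hj hci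
  subst hp2
  have hcardG : Nat.card G = 2 * charDegree χ₀.1 ^ 2 := by
    rw [← hsum, hidx]; ring
  have hd0 : charDegree χ₀.1 ≠ 0 := (irr_degree_facts3 χ₀).2.1
  -- the commutator subgroup is central
  have hcomZ : commutator G ≤ Subgroup.center G := normal_card_two_le_center _ hc2
  -- the centre has order at most 2
  have hnormsum : ∑ g : G, ‖χ₀.1 g‖ ^ 2 = (Nat.card G : ℝ) := by
    have hinner := irr_inner_self χ₀
    unfold classInner at hinner
    have h3 : (Nat.card G : ℂ) ≠ 0 := by exact_mod_cast (Nat.card_pos (α := G)).ne'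
    have h4 := (inv_mul_eq_one₀ h3).1 hinner
    have h5 : ((∑ g : G, ‖χ₀.1 g‖ ^ 2 : ℝ) : ℂ) = ((Nat.card G : ℝ) : ℂ) := by
      push_cast
      rw [h4]
      refine Finset.sum_congr rfl fun g _ => ?_
      rw [Complex.mul_conj, Complex.normSq_eq_norm_sq]
      push_cast
      rfl
    exact_mod_cast h5
  have hZle : Nat.card (Subgroup.center G) * charDegree χ₀.1 ^ 2 ≤ Nat.card G := by
    have h6 : ((Nat.card (Subgroup.center G) * charDegree χ₀.1 ^ 2 : ℕ) : ℝ) ≤
        (Nat.card G : ℝ) := by
      rw [← hnormsum]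
      have h7 : ∑ g ∈ Finset.univ.filter (fun g : G => g ∈ Subgroup.center G), ‖χ₀.1 g‖ ^ 2 =
          ((Nat.card (Subgroup.center G) * charDegree χ₀.1 ^ 2 : ℕ) : ℝ) := by
        have h8 : ∀ g ∈ Finset.univ.filter (fun g : G => g ∈ Subgroup.center G),
            ‖χ₀.1 g‖ ^ 2 = (charDegree χ₀.1 : ℝ) ^ 2 := by
          intro g hg
          rw [norm_irr_central χ₀ g (Finset.mem_filter.mp hg).2, ← charDegree_cast,
            Complex.norm_natCast]
        rw [Finset.sum_congr rfl h8, Finset.sum_const, nsmul_eq_mul]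
        have h9 : (Finset.univ.filter (fun g : G => g ∈ Subgroup.center G)).card =
            Nat.card (Subgroup.center G) := by
          rw [Nat.card_eq_fintype_card]
          exact (Fintype.card_of_subtype _ (fun x => by simp)).symm
        rw [h9]
        push_cast
        rfl
      rw [← h7]
      exact Finset.sum_le_sum_of_subset_of_nonneg (Finset.filter_subset _ _)
        (fun _ _ _ => by positivity)
    exact_mod_cast h6
  have hZ2' : Nat.card (Subgroup.center G) ≤ 2 := by
    rw [hcardG] at hZle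
    exact Nat.le_of_mul_le_mul_right hZle (pow_pos (Nat.pos_of_ne_zero hd0) 2)
  have hcZ : commutator G = Subgroup.center G :=
    Subgroup.eq_of_le_of_card_ge hcomZ (by rw [hc2]; exact hZ2')
  have hZ2 : Nat.card (Subgroup.center G) = 2 := by rw [← hcZ]; exact hc2
  exact ⟨rfl, ⟨hG, frattini_eq_center_of_commutator_two hcZ hZ2, hcZ⟩, hZ2⟩

/-- a finite nilpotent group has a normal `p`-complement -/
theorem nilpotent_exists_normal_compl {G : Type u} [Group G] [Finite G] [Group.IsNilpotent G]
    (p : ℕ) [hp : Fact p.Prime] (P : Sylow p G) (hpG : p ∣ Nat.card G) :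
    ∃ N : Subgroup G, N.Normal ∧ N.index = Nat.card (P : Subgroup G) := by
  classical
  have hpmem : p ∈ (Nat.card G).primeFactors :=
    Nat.mem_primeFactors.mpr ⟨hp.out, hpG, Nat.card_pos.ne'⟩
  let e := Sylow.directProductOfNormal (G := G) (fun {q} [Fact q.Prime] Q => inferInstance)
  let π : G →* ↥(P : Subgroup G) :=
    ((Pi.evalMonoidHom (fun Q : Sylow p G => ↥(Q : Subgroup G)) P).comp
      (Pi.evalMonoidHom (fun q : (Nat.card G).primeFactors =>
        ∀ Q : Sylow (q : ℕ) G, ↥(Q : Subgroup G)) ⟨p, hpmem⟩)).comp e.symm.toMonoidHom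
  have hπ : Function.Surjective π := by
    intro x
    refine ⟨e (Pi.mulSingle (⟨p, hpmem⟩ : (Nat.card G).primeFactors) (Pi.mulSingle P x)), ?_⟩
    show (e.symm (e _)) ⟨p, hpmem⟩ P = x
    rw [MulEquiv.symm_apply_apply, Pi.mulSingle_eq_same, Pi.mulSingle_eq_same]
  refine ⟨π.ker, inferInstance, ?_⟩
  rw [Subgroup.index_ker, MonoidHom.range_eq_top.mpr hπ, Subgroup.card_top]

/-- a nilpotent group with a unique irreducible character of degree divisible by `p` is a
`p`-group -/
theorem nilpotent_unique_isPGroup {G : Type u} [Group G] [Finite G] [Group.IsNilpotent G]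
    (p : ℕ) [hp : Fact p.Prime]
    (h : Nat.card {χ : IrrCharacter G // p ∣ charDegree χ.1} = 1) : IsPGroup p G := by
  classical
  have : Fintype G := Fintype.ofFinite G
  obtain ⟨hsub, ⟨⟨χ₀, hχ₀⟩⟩⟩ := Nat.card_eq_one_iff_unique.mp h
  have huniq : ∀ χ : IrrCharacter G, p ∣ charDegree χ.1 → χ = χ₀ := by
    intro χ hχ
    have h1 := hsub.elim ⟨χ, hχ⟩ ⟨χ₀, hχ₀⟩
    exact congrArg Subtype.val h1
  obtain ⟨hdvd, hd0, hcast⟩ := irr_degree_facts3 χ₀
  have hpG : p ∣ Nat.card G := hχ₀.trans hdvd
  let P : Sylow p G := default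
  obtain ⟨N, hNn, hNidx⟩ := nilpotent_exists_normal_compl p P hpG
  have hPcard : Nat.card (P : Subgroup G) = p ^ (Nat.card G).factorization p :=
    Sylow.card_eq_multiplicity P
  have hNcard : Nat.card N * Nat.card (P : Subgroup G) = Nat.card G := by
    rw [← hNidx]; exact Subgroup.card_mul_index N
  have hidxP : (P : Subgroup G).index = Nat.card N := by
    have h1 := Subgroup.card_mul_index (P : Subgroup G)
    rw [← hNcard, mul_comm] at h1
    exact Nat.eq_of_mul_eq_mul_right Nat.card_pos h1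
  have hcopN : Nat.Coprime (Nat.card (P : Subgroup G)) (Nat.card N) := by
    rw [hPcard]
    apply Nat.Coprime.pow_left
    rw [Nat.Prime.coprime_iff_not_dvd hp.out, ← hidxP]
    exact P.not_dvd_index
  by_cases hall : ∀ β : IrrCharacter (G ⧸ N), β.1 1 = 1
  · exfalso
    have hcomm := comm_of_all_linear hall
    have hinf : (P : Subgroup G) ⊓ N = ⊥ := Subgroup.inf_eq_bot_of_coprime hcopN
    have hab : ∀ a ∈ (P : Subgroup G), ∀ b ∈ (P : Subgroup G), a * b = b * a := by
      intro a ha b hb
      have h1 : a * b * a⁻¹ * b⁻¹ ∈ (P : Subgroup G) ⊓ N := by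
        refine ⟨(P : Subgroup G).mul_mem ((P : Subgroup G).mul_mem
          ((P : Subgroup G).mul_mem ha hb) ((P : Subgroup G).inv_mem ha))
          ((P : Subgroup G).inv_mem hb), ?_⟩
        show a * b * a⁻¹ * b⁻¹ ∈ N
        rw [← QuotientGroup.eq_one_iff]
        have h2 := hcomm (a : G ⧸ N) (b : G ⧸ N)
        rw [QuotientGroup.mk_mul, QuotientGroup.mk_mul, QuotientGroup.mk_mul,
          QuotientGroup.mk_inv, QuotientGroup.mk_inv, h2]
        group
      rw [hinf, Subgroup.mem_bot] at h1
      calc a * b = (a * b * a⁻¹ * b⁻¹) * (b * a) := by group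
        _ = b * a := by rw [h1, one_mul]
    obtain ⟨n, ρ, hρ, hχ⟩ := χ₀.2
    haveI := hρ
    have h1 := Cfsg.Agent.Lib.helper23.ito_degree_dvd_index ρ (P : Subgroup G) hab
    rw [Module.finrank_fin_fun] at h1
    have h2 : charDegree χ₀.1 = n := by
      rw [← hχ]; exact Cfsg.Agent.Lib.helper23.charDegree_rep n ρ
    rw [h2] at hχ₀
    exact P.not_dvd_index (hχ₀.trans h1)
  · push_neg at hall
    obtain ⟨β, hβ⟩ := hall
    have hGN : IsPGroup p (G ⧸ N) :=
      IsPGroup.of_card (n := (Nat.card G).factorization p) (by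
        show N.index = _
        rw [hNidx, hPcard])
    obtain ⟨m, hm⟩ := (IsPGroup.iff_card).mp hGN
    obtain ⟨hdvdβ, hβ0, hcastβ⟩ := irr_degree_facts3 β
    have hpβ : p ∣ charDegree β.1 := by
      rw [hm] at hdvdβ
      obtain ⟨j, -, hj⟩ := (Nat.dvd_prime_pow hp.out).mp hdvdβ
      have hj0 : j ≠ 0 := by
        rintro rfl
        apply hβ
        rw [hcastβ, hj]
        simp
      rw [hj]
      exact dvd_pow_self p hj0
    let χ' : IrrCharacter G := ⟨fun g => β.1 (g : G ⧸ N), isIrrCharacter_inflate N β.2⟩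
    have hχ'deg : charDegree χ'.1 = charDegree β.1 := rfl
    have hχ'eq : χ' = χ₀ := huniq χ' (by rw [hχ'deg]; exact hpβ)
    have hχ₀N : ∀ b ∈ N, χ₀.1 b = χ₀.1 1 := by
      intro b hb
      rw [← hχ'eq]
      show β.1 (b : G ⧸ N) = β.1 ((1 : G) : G ⧸ N)
      rw [(QuotientGroup.eq_one_iff b).mpr hb, QuotientGroup.mk_one]
    have hN1 : Nat.card N = 1 := by
      by_contra hN1
      haveI : Nontrivial (G ⧸ (P : Subgroup G)) := by
        rw [← Finite.one_lt_card_iff_nontrivial]
        show 1 < (P : Subgroup G).index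
        rw [hidxP]
        have := Nat.card_pos (α := N)
        omega
      have hlt := Group.IsSolvable.commutator_lt_top_of_nontrivial (G ⧸ (P : Subgroup G))
      obtain ⟨y, -, hy⟩ := SetLike.exists_of_lt hlt
      obtain ⟨μ, hμ⟩ := exists_hom_ne_one_of_not_mem_commutator y hy
      obtain ⟨g, rfl⟩ := QuotientGroup.mk_surjective y
      let lam : G →* ℂˣ := μ.comp (QuotientGroup.mk' (P : Subgroup G))
      have hlamP : ∀ a ∈ (P : Subgroup G), lam a = 1 := by
        intro a ha
        show μ (a : G ⧸ (P : Subgroup G)) = 1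
        rw [(QuotientGroup.eq_one_iff a).mpr ha, map_one]
      have hsup : (P : Subgroup G) ⊔ N = ⊤ :=
        (Subgroup.isComplement'_of_coprime (by rw [mul_comm]; exact hNcard) hcopN).sup_eq_top
      have hg : g ∈ (P : Subgroup G) ⊔ N := by rw [hsup]; exact Subgroup.mem_top g
      obtain ⟨a, ha, b, hb, rfl⟩ := Subgroup.mem_sup_of_normal_right.mp hg
      have hlamb : lam b ≠ 1 := by
        intro hb1
        apply hμ
        show lam (a * b) = 1
        rw [map_mul, hlamP a ha, hb1, one_mul]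
      let χ'' : IrrCharacter G :=
        ⟨fun g => (lam g : ℂ) * χ₀.1 g, isIrrCharacter_hom_mul lam χ₀.2⟩
      have hdeg'' : charDegree χ''.1 = charDegree χ₀.1 := by
        unfold charDegree
        show ⌊((lam 1 : ℂ) * χ₀.1 1).re⌋₊ = _
        rw [map_one, Units.val_one, one_mul]
      have heq'' : χ'' = χ₀ := huniq χ'' (by rw [hdeg'']; exact hχ₀)
      have h3 : (lam b : ℂ) * χ₀.1 b = χ₀.1 b := congrFun (congrArg Subtype.val heq'') b
      have h4 : χ₀.1 b = 0 := by
        have h5 : ((lam b : ℂ) - 1) * χ₀.1 b = 0 := by rw [sub_mul, h3, one_mul, sub_self]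
        rcases mul_eq_zero.mp h5 with h6 | h6
        · exfalso
          apply hlamb
          apply Units.ext
          rw [Units.val_one]
          exact sub_eq_zero.mp h6
        · exact h6
      rw [hχ₀N b hb, hcast] at h4
      exact hd0 (by exact_mod_cast h4)
    have hGP : Nat.card G = Nat.card (P : Subgroup G) := by
      rw [← hNcard, hN1, one_mul]
    exact IsPGroup.of_card (n := (Nat.card G).factorization p) (hGP.trans hPcard)

/-- **S4762** -/
theorem nilpotent_unique_iff {G : Type u} [Group G] [Finite G] [Group.IsNilpotent G] (p : ℕ)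
    [Fact p.Prime] :
    Nat.card {χ : IrrCharacter G // p ∣ charDegree χ.1} = 1 ↔ (p = 2 ∧ IsExtraspecial 2 G) := by
  constructor
  · intro h
    exact pgroup_unique_extraspecial p (nilpotent_unique_isPGroup p h) h
  · rintro ⟨rfl, hE⟩
    exact extraspecial_two_unique hE

end Cfsg.Agent.Lib.helper24
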