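import Mathlib
import Cfsg.Agent.Lib.helper24.CharKer
import Cfsg.Agent.Lib.helper24.CharVanish
import Cfsg.Agent.Lib.helper24.CharReg
import Cfsg.Agent.Lib.helper24.CharCodeg4
import Cfsg.Agent.Lib.helper24.CharMisc
import Cfsg.Agent.Lib.helper24.CharPPow
import Cfsg.Agent.Lib.helper24.UniqueNL
import Cfsg.Agent.Lib.helper24.CharChief
import Cfsg.Agent.Lib.helper24.CharComplete
import Cfsg.Agent.Lib.helper24.CharOdd
import Cfsg.Agent.Lib.helper24.CharDet
import Cfsg.Agent.Lib.helper9.Generation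
import Cfsg.Agent.S0065

set_option autoImplicit false
open Cfsg
open scoped ComplexConjugate
open scoped commutatorElement
universe u

namespace Cfsg.Agent.Lib.helper24
namespace SameDeg

variable {G : Type u} [Group G]

/-- The hypothesis of S4845. -/
def GalProp (P : Type u) [Group P] : Prop :=
  ∀ χ ψ : IrrCharacter P, charDegree (χ : P → ℂ) ≠ 1 →
    charDegree (χ : P → ℂ) = charDegree (ψ : P → ℂ) →
    ∃ k : ℕ, Nat.Coprime k (Nat.card P) ∧ ∀ g : P, (ψ : P → ℂ) g = (χ : P → ℂ) (g ^ k)

theorem irrKer_eq_of_galProp [Finite G] (h : GalProp G) (χ ψ : IrrCharacter G)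
    (h1 : charDegree χ.1 ≠ 1) (h2 : charDegree χ.1 = charDegree ψ.1) : irrKer ψ = irrKer χ := by
  obtain ⟨k, hk, hkψ⟩ := h χ ψ h1 h2
  ext g
  rw [mem_irrKer, mem_irrKer, hkψ g, hkψ 1, one_pow, ← mem_irrKer, ← mem_irrKer]
  constructor
  · intro hg
    obtain ⟨j, hj⟩ := exists_pow_eq_self_of_coprime
      (Nat.Coprime.coprime_dvd_right (orderOf_dvd_natCard g) hk)
    rw [← hj]; exact pow_mem hg j
  · intro hg; exact pow_mem hg k

theorem central_mul [Finite G] (χ : IrrCharacter G) {t : G} (hcen : t ∈ Subgroup.center G)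
    (g : G) : χ.1 (t * g) = (χ.1 1)⁻¹ * χ.1 t * χ.1 g := by
  classical
  haveI : Fintype G := Fintype.ofFinite G
  have hcen' : ∀ x : G, x * t = t * x := fun x => Subgroup.mem_center_iff.mp hcen x
  have hf : IsClassFunction G (fun x : G => if x = t then (1 : ℂ) else 0) := by
    intro x h
    have e : h * x * h⁻¹ = t ↔ x = t := by
      constructor
      · intro e
        have e1 : x = h⁻¹ * (h * x * h⁻¹) * h := by group
        rw [e1, e, hcen' h⁻¹]
        group
      · intro e
        rw [e, hcen' h]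
        group
    simp only [e]
  have h := irr_classFn_convolution χ hf g
  simp only [ite_mul, one_mul, zero_mul, Finset.sum_ite_eq', Finset.mem_univ, if_true] at h
  exact h

theorem central_pow [Finite G] (χ : IrrCharacter G) {t : G} (hcen : t ∈ Subgroup.center G)
    (k : ℕ) : χ.1 (t ^ k) = χ.1 1 * (χ.1 t / χ.1 1) ^ k := by
  have h1 := irr_one_ne_zero χ
  induction k with
  | zero => simp
  | succ k ih =>
    rw [pow_succ', central_mul χ hcen, ih, pow_succ]
    field_simp

theorem vanish_of_central_comm [Finite G] (χ : IrrCharacter G) (g x : G)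
    (hc : ⁅x, g⁆ ∈ Subgroup.center G) (hne : χ.1 ⁅x, g⁆ ≠ χ.1 1) : χ.1 g = 0 := by
  have h1 := irr_one_ne_zero χ
  have hcl := isClassFunction_irr χ
  have e : x * g * x⁻¹ = ⁅x, g⁆ * g := by rw [commutatorElement_def]; group
  have h2 : χ.1 g = (χ.1 1)⁻¹ * χ.1 ⁅x, g⁆ * χ.1 g := by
    rw [← central_mul χ hc g, ← e]; exact (hcl g x).symm
  by_contra h0
  apply hne
  have h3 : (1 : ℂ) * χ.1 g = ((χ.1 1)⁻¹ * χ.1 ⁅x, g⁆) * χ.1 g := by rw [one_mul]; exact h2
  have h4 := mul_right_cancel₀ h0 h3
  field_simp at h4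
  exact h4.symm

theorem card_eq_of_vanish_off [Finite G] (χ : IrrCharacter G) (Z : Subgroup G)
    (hZ : Z ≤ Subgroup.center G) (hv : ∀ g : G, g ∉ Z → χ.1 g = 0) :
    Nat.card G = Nat.card Z * charDegree χ.1 ^ 2 := by
  classical
  haveI : Fintype G := Fintype.ofFinite G
  have hone := irr_orthonormal χ χ
  simp only [if_true] at hone
  unfold classInner at hone
  have hG0 : (Nat.card G : ℂ) ≠ 0 := by exact_mod_cast (Nat.card_pos (α := G)).ne'
  have hsum : ∑ g : G, χ.1 g * conj (χ.1 g) = Nat.card G := by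
    field_simp at hone; exact hone
  have hterm : ∀ g : G, χ.1 g * conj (χ.1 g) =
      if g ∈ Z then (charDegree χ.1 : ℂ) ^ 2 else 0 := by
    intro g
    split_ifs with hg
    · have hn := norm_irr_central χ g (hZ hg)
      rw [Complex.mul_conj, Complex.normSq_eq_norm_sq, hn, ← charDegree_cast]
      simp
    · rw [hv g hg]; simp
  rw [Finset.sum_congr rfl (fun g _ => hterm g), Finset.sum_ite, Finset.sum_const_zero, add_zero,
    Finset.sum_const, nsmul_eq_mul] at hsum
  have hcard : (Finset.univ.filter (fun g : G => g ∈ Z)).card = Nat.card Z := by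
    rw [Nat.card_eq_fintype_card, Fintype.card_subtype]
  rw [hcard] at hsum
  exact_mod_cast hsum.symm

theorem le_of_prime_card_of_mem [Finite G] {H K : Subgroup G} {p : ℕ} (hp : p.Prime)
    (hH : Nat.card H = p) {c : G} (hcH : c ∈ H) (hcK : c ∈ K) (hc1 : c ≠ 1) : H ≤ K := by
  have h1 : Subgroup.zpowers c ≤ H := (Subgroup.zpowers_le).mpr hcH
  have h2 : Nat.card (Subgroup.zpowers c) = p := by
    have hd : Nat.card (Subgroup.zpowers c) ∣ p := hH ▸ Subgroup.card_dvd_of_le h1
    rcases (Nat.dvd_prime hp).mp hd with h | h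
    · exfalso; apply hc1; rw [Nat.card_zpowers] at h; exact orderOf_eq_one_iff.mp h
    · exact h
  have h3 : Subgroup.zpowers c = H := Subgroup.eq_of_le_of_card_ge h1 (by rw [h2, hH])
  rw [← h3]; exact (Subgroup.zpowers_le).mpr hcK

theorem exists_nonlinear [Finite G] (hna : ¬ IsMulCommutative G) :
    ∃ χ : IrrCharacter G, charDegree χ.1 ≠ 1 := by
  by_contra hcon
  push Not at hcon
  apply hna
  have h := comm_of_all_linear (G := G) (fun χ => by rw [← charDegree_cast, hcon χ]; simp)
  exact ⟨⟨h⟩⟩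

theorem linear_of_commutator_le [Finite G] (χ : IrrCharacter G) (h : commutator G ≤ irrKer χ) :
    charDegree χ.1 = 1 := by
  haveI : Fintype G := Fintype.ofFinite G
  have h1 := irr_linear_of_commutator_le_ker χ.2 (fun k hk => (mem_irrKer χ k).mp (h hk))
  have h2 := charDegree_cast χ
  rw [h1] at h2
  exact_mod_cast h2

theorem commutator_le_of_linear [Finite G] (χ : IrrCharacter G) (h : charDegree χ.1 = 1) :
    commutator G ≤ irrKer χ := by
  have h1 : χ.1 1 = 1 := by rw [← charDegree_cast, h]; simp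
  obtain ⟨lam, hlam⟩ := exists_hom_of_linear (isCharacter_of_isIrrCharacter χ.2) h1
  intro g hg
  rw [mem_irrKer, hlam, hlam, map_one]
  have := Abelianization.commutator_subset_ker lam hg
  rw [MonoidHom.mem_ker] at this
  rw [this]

theorem exists_irr_not_mem_ker [Finite G] (z : G) (hz : z ≠ 1) :
    ∃ χ : IrrCharacter G, z ∉ irrKer χ := by
  classical
  haveI : Fintype G := Fintype.ofFinite G
  haveI : Fintype (IrrCharacter G) := Fintype.ofFinite _
  by_contra hcon
  push Not at hcon
  have h1 := sum_degree_mul_of_ne_one (G := G) hz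
  have h2 := sum_degree_mul_one (G := G)
  have e : ∑ χ : IrrCharacter G, χ.1 1 * χ.1 z = ∑ χ : IrrCharacter G, χ.1 1 * χ.1 1 :=
    Finset.sum_congr rfl (fun χ _ => by rw [(mem_irrKer χ z).mp (hcon χ)])
  rw [e, h2] at h1
  exact (Nat.card_pos (α := G)).ne' (by exact_mod_cast h1)

end SameDeg
end Cfsg.Agent.Lib.helper24
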