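import Mathlib
import Cfsg.Agent.Lib.helper24.SameDeg1

set_option autoImplicit false
open Cfsg
open scoped ComplexConjugate
open scoped commutatorElement
universe u

namespace Cfsg.Agent.Lib.helper24
namespace SameDeg

variable {G : Type u} [Group G]

theorem central_mem_commutator [Finite G] {p : ℕ} (hp : p.Prime) (hna : ¬ IsMulCommutative G)
    (h : GalProp G) (z : G) (hz : z ∈ Subgroup.center G) (hzp : z ^ p = 1) :
    z ∈ commutator G := by
  haveI : Fact p.Prime := ⟨hp⟩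
  haveI : Fintype G := Fintype.ofFinite G
  by_contra hzc
  obtain ⟨μ, hμ⟩ := exists_hom_ne_one_of_not_mem_commutator z hzc
  obtain ⟨χ₀, hχ₀⟩ := exists_nonlinear hna
  have h1 := irr_one_ne_zero χ₀
  set ζ : ℂ := (μ z : ℂ) with hζ
  have hζp : ζ ^ p = 1 := by
    rw [hζ, ← Units.val_pow_eq_pow_val, ← map_pow, hzp, map_one]; rfl
  have hζ1 : ζ ≠ 1 := fun h => hμ (Units.ext h)
  have hprim : IsPrimitiveRoot ζ p := by
    have h2 := IsPrimitiveRoot.orderOf ζ
    rwa [orderOf_eq_prime hζp hζ1] at h2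
  set ω : ℂ := χ₀.1 z / χ₀.1 1 with hω
  have hωp : ω ^ p = 1 := by
    have h2 := central_pow χ₀ hz p
    rw [hzp] at h2
    have h3 : χ₀.1 1 * 1 = χ₀.1 1 * ω ^ p := by rw [mul_one]; exact h2
    exact (mul_left_cancel₀ h1 h3).symm
  haveI : NeZero p := ⟨hp.ne_zero⟩
  obtain ⟨j, hj, hjω⟩ := hprim.eq_pow_of_pow_eq_one (ξ := ω⁻¹) (by rw [inv_pow, hωp, inv_one])
  have hω0 : ω ≠ 0 := by
    intro h0; rw [h0, zero_pow hp.ne_zero] at hωp; exact zero_ne_one hωp
  have hχ₂ : IsIrrCharacter G (fun g => ((μ ^ j) g : ℂ) * χ₀.1 g) :=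
    isIrrCharacter_hom_mul (μ ^ j) χ₀.2
  have hχ₁ : IsIrrCharacter G (fun g => ((μ ^ (j + 1)) g : ℂ) * χ₀.1 g) :=
    isIrrCharacter_hom_mul (μ ^ (j + 1)) χ₀.2
  have hd2 : charDegree (fun g => ((μ ^ j) g : ℂ) * χ₀.1 g) = charDegree χ₀.1 := by
    unfold charDegree; simp
  have hd1 : charDegree (fun g => ((μ ^ (j + 1)) g : ℂ) * χ₀.1 g) = charDegree χ₀.1 := by
    unfold charDegree; simp
  have hker := irrKer_eq_of_galProp h ⟨_, hχ₂⟩ ⟨_, hχ₁⟩ (by rw [hd2]; exact hχ₀)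
    (hd2.trans hd1.symm)
  have e2 : χ₀.1 z = ω * χ₀.1 1 := by rw [hω]; field_simp
  have hz2 : z ∈ irrKer (⟨_, hχ₂⟩ : IrrCharacter G) := by
    rw [mem_irrKer]
    show ((μ ^ j) z : ℂ) * χ₀.1 z = ((μ ^ j) 1 : ℂ) * χ₀.1 1
    have e1 : ((μ ^ j) z : ℂ) = ζ ^ j := by simp [hζ]
    rw [e1, hjω, e2, map_one]
    simp only [Units.val_one, one_mul]
    rw [← mul_assoc, inv_mul_cancel₀ hω0, one_mul]
  have hz1 : z ∉ irrKer (⟨_, hχ₁⟩ : IrrCharacter G) := by
    rw [mem_irrKer]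
    show ¬ (((μ ^ (j + 1)) z : ℂ) * χ₀.1 z = ((μ ^ (j + 1)) 1 : ℂ) * χ₀.1 1)
    have e1 : ((μ ^ (j + 1)) z : ℂ) = ζ ^ (j + 1) := by simp [hζ]
    rw [e1, pow_succ, hjω, e2, map_one]
    simp only [Units.val_one, one_mul]
    intro h3
    have h4 : ζ * χ₀.1 1 = 1 * χ₀.1 1 := by
      rw [one_mul]
      have h5 : ω⁻¹ * ζ * (ω * χ₀.1 1) = ζ * χ₀.1 1 := by field_simp
      rw [← h5]; exact h3
    exact hζ1 (mul_right_cancel₀ h1 h4)
  exact hz1 (hker ▸ hz2)

theorem galProp_quotient [Finite G] (N : Subgroup G) [N.Normal] (h : GalProp G) :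
    GalProp (G ⧸ N) := by
  intro χ ψ h1 h2
  have e : ∀ φ : IrrCharacter (G ⧸ N), charDegree (irrInfl N φ).1 = charDegree φ.1 := by
    intro φ; unfold charDegree; rw [irrInfl_apply]; rfl
  obtain ⟨k, hk, hkψ⟩ := h (irrInfl N χ) (irrInfl N ψ) (by rw [e]; exact h1)
    (by rw [e, e]; exact h2)
  refine ⟨k, Nat.Coprime.coprime_dvd_right ?_ hk, ?_⟩
  · exact ⟨Nat.card N, Subgroup.card_eq_card_quotient_mul_card_subgroup N⟩
  · intro q
    obtain ⟨g, rfl⟩ := QuotientGroup.mk_surjective q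
    have h3 := hkψ g
    rw [irrInfl_apply, irrInfl_apply] at h3
    exact h3

theorem center_cyclic [Finite G] {p : ℕ} (hp : p.Prime) (hP : IsPGroup p G)
    (hna : ¬ IsMulCommutative G) (h : GalProp G) (hc : Nat.card (commutator G) = p) :
    IsCyclic (Subgroup.center G) := by
  by_contra hcyc
  letI : CommGroup (Subgroup.center G) :=
    { (inferInstance : Group (Subgroup.center G)) with
      mul_comm := fun a b => Subtype.ext (Subgroup.mem_center_iff.mp b.2 a) }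
  obtain ⟨r, hr, q₁, q₂, h1, h2, h3, h4⟩ := helper9.exists_rank_two_of_not_cyclic (Q := Subgroup.center G) hcyc
  have hrp : r = p := by
    haveI := Fact.mk hr
    have ho : orderOf q₁ = r := orderOf_eq_prime h1 h3
    obtain ⟨k, hk⟩ := (hP.to_subgroup (Subgroup.center G)) q₁
    have h5 : r ∣ p ^ k := ho ▸ orderOf_dvd_of_pow_eq_one hk
    exact (Nat.prime_dvd_prime_iff_eq hr hp).mp (hr.dvd_of_dvd_pow h5)
  subst hrp
  have m1 : (q₁ : G) ∈ commutator G :=
    central_mem_commutator hr hna h q₁ q₁.2 (by exact_mod_cast congrArg Subtype.val h1)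
  have m2 : (q₂ : G) ∈ commutator G :=
    central_mem_commutator hr hna h q₂ q₂.2 (by exact_mod_cast congrArg Subtype.val h2)
  have hle := le_of_prime_card_of_mem hr hc m1 (Subgroup.mem_zpowers (q₁ : G))
    (by intro e; apply h3; exact Subtype.ext e)
  have h6 : (q₂ : G) ∈ Subgroup.zpowers (q₁ : G) := hle m2
  apply h4
  obtain ⟨i, hi⟩ := Subgroup.mem_zpowers_iff.mp h6
  exact Subgroup.mem_zpowers_iff.mpr ⟨i, Subtype.ext (by simpa using hi)⟩

/-- Nonlinear characters vanish off the centre when the derived subgroup is central of prime order. -/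
theorem vanish_off_center [Finite G] {p : ℕ} (hp : p.Prime) (hc : Nat.card (commutator G) = p)
    (hcz : commutator G ≤ Subgroup.center G) (χ : IrrCharacter G) (hnl : charDegree χ.1 ≠ 1)
    (g : G) (hg : g ∉ Subgroup.center G) : χ.1 g = 0 := by
  rw [Subgroup.mem_center_iff] at hg; push Not at hg
  obtain ⟨x, hx⟩ := hg
  have hcm : ⁅x, g⁆ ∈ commutator G :=
    Subgroup.commutator_mem_commutator (Subgroup.mem_top x) (Subgroup.mem_top g)
  have hne1 : ⁅x, g⁆ ≠ 1 := by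
    intro h; apply hx; exact commutatorElement_eq_one_iff_mul_comm.mp h
  apply vanish_of_central_comm χ g x (hcz hcm)
  intro hk
  apply hnl
  have hmem : ⁅x, g⁆ ∈ irrKer χ := (mem_irrKer χ _).mpr hk
  exact linear_of_commutator_le χ (le_of_prime_card_of_mem hp hc hcm hmem hne1)

theorem degree_sq_of_commutator_prime [Finite G] {p : ℕ} (hp : p.Prime)
    (hc : Nat.card (commutator G) = p) (hcz : commutator G ≤ Subgroup.center G)
    (χ : IrrCharacter G) (hnl : charDegree χ.1 ≠ 1) :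
    Nat.card G = Nat.card (Subgroup.center G) * charDegree χ.1 ^ 2 :=
  card_eq_of_vanish_off χ _ le_rfl (vanish_off_center hp hc hcz χ hnl)

end SameDeg
end Cfsg.Agent.Lib.helper24
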