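import Mathlib
import Cfsg.Agent.Lib.helper24.SameDeg2

set_option autoImplicit false
open Cfsg
open scoped ComplexConjugate
open scoped commutatorElement
universe u

namespace Cfsg.Agent.Lib.helper24
namespace SameDeg

variable {G : Type u} [Group G]

theorem normal_of_le_center' {H : Subgroup G} (h : H ≤ Subgroup.center G) : H.Normal :=
  ⟨fun n hn g => by
    have h1 := Subgroup.mem_center_iff.mp (h hn) g
    rw [h1, mul_inv_cancel_right]; exact hn⟩

theorem normal_prime_le_center [Finite G] {p : ℕ} (hp : p.Prime) (hP : IsPGroup p G)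
    (H : Subgroup G) [H.Normal] (hH : Nat.card H = p) : H ≤ Subgroup.center G := by
  haveI : Fact p.Prime := ⟨hp⟩
  haveI : Group.IsNilpotent G := hP.isNilpotent
  have hne : H ≠ ⊥ := by
    intro h; rw [h, Subgroup.card_bot] at hH; exact hp.one_lt.ne hH
  have h1 := Cfsg.Agent.S0065.normal_inf_center_ne_bot H hne
  obtain ⟨⟨c, hc⟩, hc1⟩ := (Subgroup.ne_bot_iff_exists_ne_one).mp h1
  exact le_of_prime_card_of_mem hp hH hc.1 hc.2 (fun e => hc1 (Subtype.ext e))

theorem exists_central_prime_in_commutator [Finite G] {p : ℕ} (hp : p.Prime) (hP : IsPGroup p G)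
    (hna : ¬ IsMulCommutative G) :
    ∃ z : G, z ∈ Subgroup.center G ∧ z ∈ commutator G ∧ z ≠ 1 ∧ z ^ p = 1 := by
  haveI : Fact p.Prime := ⟨hp⟩
  haveI : Group.IsNilpotent G := hP.isNilpotent
  have hne : commutator G ≠ ⊥ := by
    intro h
    apply hna
    have h1 := (commutator_eq_bot_iff_center_eq_top G).mp h
    exact ⟨⟨fun a b => Subgroup.mem_center_iff.mp (h1 ▸ Subgroup.mem_top b) a⟩⟩
  have h1 := Cfsg.Agent.S0065.normal_inf_center_ne_bot (commutator G) hne
  obtain ⟨⟨w, hw⟩, hw1⟩ := (Subgroup.ne_bot_iff_exists_ne_one).mp h1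
  have hw1' : w ≠ 1 := fun e => hw1 (Subtype.ext e)
  obtain ⟨k, hk⟩ := (IsPGroup.iff_orderOf.mp hP) w
  have hk0 : k ≠ 0 := by
    rintro rfl
    rw [pow_zero, orderOf_eq_one_iff] at hk; exact hw1' hk
  refine ⟨w ^ p ^ (k - 1), pow_mem hw.2 _, pow_mem hw.1 _, ?_, ?_⟩
  · intro h2
    have h3 := orderOf_dvd_of_pow_eq_one h2
    rw [hk] at h3
    have h4 := (Nat.pow_dvd_pow_iff_le_right hp.one_lt).mp h3
    omega
  · rw [← pow_mul, ← pow_succ, show k - 1 + 1 = k by omega, ← hk]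
    exact pow_orderOf_eq_one w

theorem center_le_comap (N : Subgroup G) [N.Normal] :
    Subgroup.center G ≤ (Subgroup.center (G ⧸ N)).comap (QuotientGroup.mk' N) := by
  intro g hg
  rw [Subgroup.mem_comap, Subgroup.mem_center_iff]
  intro q
  obtain ⟨x, rfl⟩ := QuotientGroup.mk_surjective q
  show (x : G ⧸ N) * (g : G ⧸ N) = (g : G ⧸ N) * (x : G ⧸ N)
  rw [← QuotientGroup.mk_mul, ← QuotientGroup.mk_mul, Subgroup.mem_center_iff.mp hg x]

theorem comm_mem_of_mk_central (N : Subgroup G) [N.Normal] (x v : G)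
    (hv : (v : G ⧸ N) ∈ Subgroup.center (G ⧸ N)) : ⁅x, v⁆ ∈ N := by
  rw [← QuotientGroup.eq_one_iff, commutatorElement_def]
  have hc := Subgroup.mem_center_iff.mp hv (x : G ⧸ N)
  simp only [QuotientGroup.mk_mul, QuotientGroup.mk_inv]
  rw [hc]; group

theorem mk_mem_commutator (N : Subgroup G) [N.Normal] (v : G) (hv : v ∈ commutator G) :
    (v : G ⧸ N) ∈ commutator (G ⧸ N) := by
  have h1 : (QuotientGroup.mk' N) v ∈ (commutator G).map (QuotientGroup.mk' N) :=
    Subgroup.mem_map_of_mem _ hv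
  rw [commutator_def, Subgroup.map_commutator] at h1
  exact Subgroup.commutator_mono le_top le_top h1

theorem card_comap_center [Finite G] {p : ℕ} (hp : p.Prime) (hP : IsPGroup p G) (N : Subgroup G)
    [N.Normal] (hNc : N ≤ Subgroup.center G) (hNcard : Nat.card N = p)
    (hcyc : IsCyclic (Subgroup.center (G ⧸ N))) :
    Nat.card ((Subgroup.center (G ⧸ N)).comap (QuotientGroup.mk' N)) =
        Nat.card (Subgroup.center G) ∨
      Nat.card ((Subgroup.center (G ⧸ N)).comap (QuotientGroup.mk' N)) =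
        p * Nat.card (Subgroup.center G) := by
  classical
  haveI : Fact p.Prime := ⟨hp⟩
  set Z₁ := (Subgroup.center (G ⧸ N)).comap (QuotientGroup.mk' N) with hZ₁
  have hle : Subgroup.center G ≤ Z₁ := center_le_comap N
  obtain ⟨⟨zq, hzq⟩, hgen⟩ := hcyc.exists_generator
  obtain ⟨z₀, rfl⟩ := QuotientGroup.mk_surjective zq
  have hz₀p : z₀ ^ p ∈ Subgroup.center G := by
    rw [Subgroup.mem_center_iff]
    intro x
    have hcN : ⁅x, z₀⁆ ∈ N := comm_mem_of_mk_central N x z₀ hzq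
    have hcc := hNc hcN
    have hcp : ⁅x, z₀⁆ ^ p = 1 := by
      have h1 := pow_card_eq_one' (G := N) (x := ⟨⁅x, z₀⁆, hcN⟩)
      rw [hNcard] at h1
      exact congrArg Subtype.val h1
    have e : x * z₀ * x⁻¹ = ⁅x, z₀⁆ * z₀ := by rw [commutatorElement_def]; group
    have hcomm : Commute ⁅x, z₀⁆ z₀ := (Subgroup.mem_center_iff.mp hcc z₀).symm
    have e2 : x * z₀ ^ p * x⁻¹ = z₀ ^ p := by
      rw [← conj_pow, e, hcomm.mul_pow, hcp, one_mul]
    calc x * z₀ ^ p = (x * z₀ ^ p * x⁻¹) * x := by group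
      _ = z₀ ^ p * x := by rw [e2]
  let f : Fin p × Subgroup.center G → G := fun a => z₀ ^ (a.1 : ℕ) * (a.2 : G)
  have hpos : (0 : ℤ) < p := by exact_mod_cast hp.pos
  have hsub : (Z₁ : Set G) ⊆ Set.range f := by
    intro w hw
    have hw' : (w : G ⧸ N) ∈ Subgroup.center (G ⧸ N) := hw
    obtain ⟨i, hi⟩ := Subgroup.mem_zpowers_iff.mp (hgen ⟨_, hw'⟩)
    have hi' : ((z₀ ^ i : G) : G ⧸ N) = (w : G ⧸ N) := by
      have h1 := congrArg Subtype.val hi
      simpa using h1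
    have hn : (z₀ ^ i)⁻¹ * w ∈ N := QuotientGroup.eq.mp hi'
    have hlt : (i % (p : ℤ)).toNat < p := by
      have h1 := Int.emod_lt_of_pos i hpos
      have h2 := Int.emod_nonneg i hpos.ne'
      omega
    refine ⟨(⟨(i % (p : ℤ)).toNat, hlt⟩,
      ⟨(z₀ ^ p) ^ (i / (p : ℤ)) * ((z₀ ^ i)⁻¹ * w), mul_mem (zpow_mem hz₀p _) (hNc hn)⟩), ?_⟩
    show z₀ ^ ((i % (p : ℤ)).toNat) * ((z₀ ^ p) ^ (i / (p : ℤ)) * ((z₀ ^ i)⁻¹ * w)) = w
    have e1 : z₀ ^ ((i % (p : ℤ)).toNat) = z₀ ^ (i % (p : ℤ)) := by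
      rw [← zpow_natCast, Int.toNat_of_nonneg (Int.emod_nonneg i hpos.ne')]
    have e3 : z₀ ^ (i % (p : ℤ)) * (z₀ ^ p) ^ (i / (p : ℤ)) = z₀ ^ i := by
      rw [← zpow_natCast z₀ p, ← zpow_mul, ← zpow_add, Int.emod_add_mul_ediv]
    rw [e1, ← mul_assoc, e3]
    group
  have hcardle : Nat.card Z₁ ≤ p * Nat.card (Subgroup.center G) := by
    calc Nat.card Z₁ = (Z₁ : Set G).ncard := rfl
      _ ≤ (Set.range f).ncard := Set.ncard_le_ncard hsub (Set.toFinite _)
      _ ≤ Nat.card (Fin p × Subgroup.center G) := by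
          rw [← Set.image_univ]
          exact (Set.ncard_image_le (Set.toFinite _)).trans (by rw [Set.ncard_univ])
      _ = p * Nat.card (Subgroup.center G) := by rw [Nat.card_prod, Nat.card_fin]
  obtain ⟨k, hk⟩ := Subgroup.card_dvd_of_le hle
  obtain ⟨m, hm⟩ := (IsPGroup.iff_card).mp hP
  have hZpos : 0 < Nat.card (Subgroup.center G) := Nat.card_pos
  have hkdvd : k ∣ p ^ m := by
    rw [← hm]
    exact (Dvd.intro_left _ hk.symm).trans (Subgroup.card_subgroup_dvd_card Z₁)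
  obtain ⟨j, -, hj⟩ := (Nat.dvd_prime_pow hp).mp hkdvd
  have hkle : k ≤ p := by
    rw [hk] at hcardle
    have h1 : Nat.card (Subgroup.center G) * k ≤ Nat.card (Subgroup.center G) * p := by
      rw [mul_comm _ p]; exact hcardle
    exact Nat.le_of_mul_le_mul_left h1 hZpos
  rcases Nat.lt_or_ge j 2 with h2 | h2
  · interval_cases j
    · left; rw [hk, hj]; simp
    · right; rw [hk, hj]; ring
  · exfalso
    have h3 : p ^ 2 ≤ p ^ j := Nat.pow_le_pow_right hp.pos h2
    have h4 : p < p ^ 2 := by have := hp.one_lt; nlinarith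
    omega

theorem card_eq_comap_center_mul [Finite G] {p : ℕ} (hp : p.Prime) (hP : IsPGroup p G)
    (N : Subgroup G) [N.Normal] (hQc : Nat.card (commutator (G ⧸ N)) = p) (χ : IrrCharacter G)
    (hN : N ≤ irrKer χ) (hnl : charDegree χ.1 ≠ 1) :
    Nat.card G = Nat.card ((Subgroup.center (G ⧸ N)).comap (QuotientGroup.mk' N)) *
      charDegree χ.1 ^ 2 := by
  haveI : Fact p.Prime := ⟨hp⟩
  obtain ⟨ψ, rfl⟩ := (irrInfl_range' N χ).mpr hN
  have e : charDegree (irrInfl N ψ).1 = charDegree ψ.1 := by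
    unfold charDegree; rw [irrInfl_apply]; rfl
  rw [e] at hnl ⊢
  have hQP : IsPGroup p (G ⧸ N) := hP.to_quotient N
  have hcz : commutator (G ⧸ N) ≤ Subgroup.center (G ⧸ N) :=
    normal_prime_le_center hp hQP _ hQc
  have h1 := degree_sq_of_commutator_prime hp hQc hcz ψ hnl
  have h2 : ((Subgroup.center (G ⧸ N)).comap (QuotientGroup.mk' N)).index =
      (Subgroup.center (G ⧸ N)).index :=
    Subgroup.index_comap_of_surjective _ (QuotientGroup.mk'_surjective N)
  have h3 := Subgroup.card_mul_index ((Subgroup.center (G ⧸ N)).comap (QuotientGroup.mk' N))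
  have h4 := Subgroup.card_mul_index (Subgroup.center (G ⧸ N))
  have h5 : (Subgroup.center (G ⧸ N)).index = charDegree ψ.1 ^ 2 := by
    have hpos : 0 < Nat.card (Subgroup.center (G ⧸ N)) := Nat.card_pos
    rw [h1] at h4
    exact Nat.eq_of_mul_eq_mul_left hpos h4
  rw [← h3, h2, h5]

end SameDeg
end Cfsg.Agent.Lib.helper24
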