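import Mathlib
import Cfsg.Agent.Lib.helper24.SameDeg3

set_option autoImplicit false
open Cfsg
open scoped ComplexConjugate
open scoped commutatorElement
universe u

namespace Cfsg.Agent.Lib.helper24
namespace SameDeg

variable {G : Type u} [Group G]

/-- Basic facts on the quotient by a central subgroup of order `p` inside the derived subgroup. -/
theorem quot_basic [Finite G] {p : ℕ} (hp : p.Prime) (hP : IsPGroup p G)
    (ih : ∀ (Q : Type u) [Group Q] [Finite Q], Nat.card Q < Nat.card G → IsPGroup p Q →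
      ¬ IsMulCommutative Q → GalProp Q →
      IsCyclic (Subgroup.center Q) ∧ Nat.card (commutator Q) = p)
    (hgal : GalProp G) (N : Subgroup G) [N.Normal] (hNcard : Nat.card N = p)
    (hNle : N ≤ commutator G) (hne : commutator G ≠ N) :
    ¬ IsMulCommutative (G ⧸ N) ∧ IsCyclic (Subgroup.center (G ⧸ N)) ∧
      Nat.card (commutator (G ⧸ N)) = p ∧ Nat.card (commutator G) = p ^ 2 := by
  haveI : Fact p.Prime := ⟨hp⟩
  have hQna : ¬ IsMulCommutative (G ⧸ N) := by
    intro hab
    apply hne
    refine le_antisymm ?_ hNle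
    rw [commutator_def, Subgroup.commutator_le]
    intro a _ b _
    rw [← QuotientGroup.eq_one_iff, commutatorElement_def]
    simp only [QuotientGroup.mk_mul, QuotientGroup.mk_inv]
    have hc : (a : G ⧸ N) * (b : G ⧸ N) = (b : G ⧸ N) * (a : G ⧸ N) := hab.is_comm.comm _ _
    rw [hc]; group
  have hcardQ : Nat.card G = Nat.card (G ⧸ N) * p := by
    rw [← hNcard]; exact Subgroup.card_eq_card_quotient_mul_card_subgroup N
  have hlt : Nat.card (G ⧸ N) < Nat.card G := by
    rw [hcardQ]
    have h1 : 0 < Nat.card (G ⧸ N) := Nat.card_pos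
    have h2 := hp.one_lt
    nlinarith
  obtain ⟨hcyc, hQc⟩ := ih (G ⧸ N) hlt (hP.to_quotient N) hQna (galProp_quotient N hgal)
  refine ⟨hQna, hcyc, hQc, ?_⟩
  have hmap : (commutator G).map (QuotientGroup.mk' N) = commutator (G ⧸ N) := by
    rw [commutator_def, Subgroup.map_commutator,
      Subgroup.map_top_of_surjective _ (QuotientGroup.mk'_surjective N), commutator_def]
  have hidx : ((commutator G).map (QuotientGroup.mk' N)).index = (commutator G).index := by
    rw [Subgroup.index_map, QuotientGroup.ker_mk', sup_eq_left.mpr hNle,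
      MonoidHom.range_eq_top_of_surjective _ (QuotientGroup.mk'_surjective N), Subgroup.index_top,
      mul_one]
  have h3 := Subgroup.card_mul_index (commutator G)
  have h4 := Subgroup.card_mul_index ((commutator G).map (QuotientGroup.mk' N))
  rw [hidx, hmap, hQc] at h4
  rw [hcardQ, ← h4] at h3
  have hipos : 0 < (commutator G).index := Nat.pos_of_ne_zero (Subgroup.index_ne_zero_of_finite)
  have h5 : Nat.card (commutator G) * (commutator G).index = p ^ 2 * (commutator G).index := by
    rw [h3]; ring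
  exact Nat.eq_of_mul_eq_mul_right hipos h5

/-- Non-class-2 case: a subgroup of index at most `p` with commutators in `N`. -/
theorem exists_index_le_p [Finite G] {p : ℕ} (hp : p.Prime) (hP : IsPGroup p G) (N : Subgroup G)
    [N.Normal] (hNc : N ≤ Subgroup.center G) (hNcard : Nat.card N = p)
    (hNle : N ≤ commutator G) (hP'card : Nat.card (commutator G) = p ^ 2)
    (hQc : Nat.card (commutator (G ⧸ N)) = p) (u : G) (hu : u ∈ commutator G)
    (huZ : u ∉ Subgroup.center G) :
    ∃ C : Subgroup G, C.index ≤ p ∧ ∀ a ∈ C, ∀ b ∈ C, ⁅a, b⁆ ∈ N := by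
  classical
  haveI : Fact p.Prime := ⟨hp⟩
  have hQP : IsPGroup p (G ⧸ N) := hP.to_quotient N
  have hcz : commutator (G ⧸ N) ≤ Subgroup.center (G ⧸ N) :=
    normal_prime_le_center hp hQP _ hQc
  have hcomm : ∀ v ∈ commutator G, ∀ g : G, ⁅g, v⁆ ∈ N := fun v hv g =>
    comm_mem_of_mk_central N g v (hcz (mk_mem_commutator N v hv))
  -- the homomorphism g ↦ ⁅g, u⁆
  let φ : G →* N := MonoidHom.mk' (fun g => ⟨⁅g, u⁆, hcomm u hu g⟩) (by
    intro a b
    apply Subtype.ext
    show ⁅a * b, u⁆ = ⁅a, u⁆ * ⁅b, u⁆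
    have hc : ∀ x : G, x * ⁅b, u⁆ = ⁅b, u⁆ * x :=
      fun x => Subgroup.mem_center_iff.mp (hNc (hcomm u hu b)) x
    have e1 : ⁅a * b, u⁆ = a * ⁅b, u⁆ * u * a⁻¹ * u⁻¹ := by
      simp only [commutatorElement_def]; group
    rw [e1, hc a]
    have e2 : ⁅b, u⁆ * a * u * a⁻¹ * u⁻¹ = ⁅b, u⁆ * ⁅a, u⁆ := by
      simp only [commutatorElement_def]; group
    rw [e2, hc ⁅a, u⁆])
  have hker : ∀ a : G, a ∈ φ.ker ↔ a * u = u * a := by
    intro a
    rw [MonoidHom.mem_ker]
    constructor
    · intro h
      have h1 : ⁅a, u⁆ = 1 := congrArg Subtype.val h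
      exact commutatorElement_eq_one_iff_mul_comm.mp h1
    · intro h
      exact Subtype.ext (commutatorElement_eq_one_iff_mul_comm.mpr h)
  refine ⟨φ.ker, ?_, ?_⟩
  · rw [Subgroup.index_ker, ← hNcard]
    exact Subgroup.card_le_card_group (H := φ.range)
  -- P' = N ⊔ ⟨u⟩
  have huN : u ∉ N := fun h => huZ (hNc h)
  have hT : commutator G ≤ N ⊔ Subgroup.zpowers u := by
    have hle : N ⊔ Subgroup.zpowers u ≤ commutator G :=
      sup_le hNle ((Subgroup.zpowers_le).mpr hu)
    have hdvd : Nat.card ↥(N ⊔ Subgroup.zpowers u) ∣ p ^ 2 :=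
      hP'card ▸ Subgroup.card_dvd_of_le hle
    obtain ⟨j, hj2, hj⟩ := (Nat.dvd_prime_pow hp).mp hdvd
    have hNT : N ≤ N ⊔ Subgroup.zpowers u := le_sup_left
    have hj1 : j ≠ 0 := by
      rintro rfl
      have h1 := Subgroup.card_dvd_of_le hNT
      rw [hj, hNcard, pow_zero] at h1
      exact hp.one_lt.ne' (Nat.dvd_one.mp h1)
    have hj2' : j ≠ 1 := by
      rintro rfl
      have h1 : N = N ⊔ Subgroup.zpowers u :=
        Subgroup.eq_of_le_of_card_ge hNT (by rw [hj, hNcard, pow_one])
      apply huN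
      rw [h1]
      exact (le_sup_right : Subgroup.zpowers u ≤ N ⊔ Subgroup.zpowers u) (Subgroup.mem_zpowers u)
    have hj3 : j = 2 := by omega
    subst hj3
    exact (Subgroup.eq_of_le_of_card_ge hle (by rw [hj, hP'card])).ge
  -- elements of ker commute with P'
  have hcen : ∀ a ∈ φ.ker, ∀ v ∈ commutator G, v * a = a * v := by
    intro a ha v hv
    have h1 : N ⊔ Subgroup.zpowers u ≤ Subgroup.centralizer ({a} : Set G) := by
      refine sup_le (hNc.trans (Subgroup.center_le_centralizer _)) ?_
      rw [Subgroup.zpowers_le, Subgroup.mem_centralizer_iff]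
      intro h hh
      rw [Set.mem_singleton_iff] at hh
      rw [hh]; exact (hker a).mp ha
    have h2 := h1 (hT hv)
    rw [Subgroup.mem_centralizer_iff] at h2
    exact (h2 a (Set.mem_singleton a)).symm
  -- three subgroups lemma
  have hCP : commutator G ≤ Subgroup.centralizer (φ.ker : Set G) := by
    intro v hv
    rw [Subgroup.mem_centralizer_iff]
    intro a ha
    exact (hcen a ha v hv).symm
  have h1 : ⁅⁅φ.ker, (⊤ : Subgroup G)⁆, φ.ker⁆ = ⊥ := by
    rw [Subgroup.commutator_eq_bot_iff_le_centralizer]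
    exact (Subgroup.commutator_mono le_top le_rfl).trans (by rw [← commutator_def]; exact hCP)
  have h2 : ⁅⁅(⊤ : Subgroup G), φ.ker⁆, φ.ker⁆ = ⊥ := by
    rw [Subgroup.commutator_eq_bot_iff_le_centralizer]
    exact (Subgroup.commutator_mono le_rfl le_top).trans (by rw [← commutator_def]; exact hCP)
  have h3 := Subgroup.commutator_commutator_eq_bot_of_rotate h1 h2
  rw [Subgroup.commutator_eq_bot_iff_le_centralizer, Subgroup.coe_top,
    Subgroup.centralizer_univ] at h3
  -- Z ⊓ P' = N
  have hM : Subgroup.center G ⊓ commutator G ≤ N := by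
    have hNM : N ≤ Subgroup.center G ⊓ commutator G := le_inf hNc hNle
    have hMle : Subgroup.center G ⊓ commutator G ≤ commutator G := inf_le_right
    have hdvd : Nat.card ↥(Subgroup.center G ⊓ commutator G) ∣ p ^ 2 :=
      hP'card ▸ Subgroup.card_dvd_of_le hMle
    obtain ⟨j, hj2, hj⟩ := (Nat.dvd_prime_pow hp).mp hdvd
    have hj3 : j ≠ 2 := by
      rintro rfl
      have h4 : Subgroup.center G ⊓ commutator G = commutator G :=
        Subgroup.eq_of_le_of_card_ge hMle (by rw [hj, hP'card])
      apply huZ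
      have h5 : u ∈ Subgroup.center G ⊓ commutator G := by rw [h4]; exact hu
      exact h5.1
    have hjle : Nat.card ↥(Subgroup.center G ⊓ commutator G) ≤ Nat.card N := by
      rw [hj, hNcard]
      calc p ^ j ≤ p ^ 1 := Nat.pow_le_pow_right hp.pos (by omega)
        _ = p := pow_one p
    exact (Subgroup.eq_of_le_of_card_ge hNM hjle).ge
  intro a ha b hb
  apply hM
  exact ⟨h3 (Subgroup.commutator_mem_commutator ha hb),
    Subgroup.commutator_mem_commutator (Subgroup.mem_top a) (Subgroup.mem_top b)⟩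

end SameDeg
end Cfsg.Agent.Lib.helper24
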