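import Mathlib
import Cfsg.Agent.Lib.helper24.SameDeg4

set_option autoImplicit false
open Cfsg
open scoped ComplexConjugate
open scoped commutatorElement
universe u

namespace Cfsg.Agent.Lib.helper24
namespace SameDeg

variable {G : Type u} [Group G]

theorem degree_pow [Finite G] {p : ℕ} (hp : p.Prime) (hP : IsPGroup p G) (χ : IrrCharacter G) :
    ∃ s : ℕ, charDegree χ.1 = p ^ s := by
  haveI : Fact p.Prime := ⟨hp⟩
  obtain ⟨m, hm⟩ := (IsPGroup.iff_card).mp hP
  obtain ⟨d, hd, hdvd⟩ := irr_degree_dvd_card χ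
  have h1 : charDegree χ.1 = d := by
    have h2 := charDegree_cast χ
    rw [hd] at h2; exact_mod_cast h2
  rw [hm] at hdvd
  obtain ⟨s, -, hs⟩ := (Nat.dvd_prime_pow hp).mp hdvd
  exact ⟨s, h1.trans hs⟩

theorem parity_aux {p : ℕ} (hp : p.Prime) {T Zc A₁ A₂ s r : ℕ} (hZ : 0 < Zc)
    (h1 : A₁ = Zc ∨ A₁ = p * Zc) (h2 : A₂ = Zc ∨ A₂ = p * Zc)
    (e1 : T = A₁ * (p ^ s) ^ 2) (e2 : T = A₂ * (p ^ r) ^ 2) : s = r := by
  have hinj := Nat.pow_right_injective hp.two_le
  rcases h1 with h1 | h1 <;> rcases h2 with h2 | h2 <;> rw [h1] at e1 <;> rw [h2] at e2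
  · have h3 := Nat.eq_of_mul_eq_mul_left hZ (e1.symm.trans e2)
    rw [← pow_mul, ← pow_mul] at h3
    have h4 := hinj h3; omega
  · have h3 : Zc * (p ^ s) ^ 2 = Zc * (p * (p ^ r) ^ 2) := by rw [← e1, e2]; ring
    have h4 := Nat.eq_of_mul_eq_mul_left hZ h3
    rw [← pow_mul, ← pow_mul, ← pow_succ'] at h4
    have h5 := hinj h4; omega
  · have h3 : Zc * (p * (p ^ s) ^ 2) = Zc * (p ^ r) ^ 2 := by rw [← e2, e1]; ring
    have h4 := Nat.eq_of_mul_eq_mul_left hZ h3
    rw [← pow_mul, ← pow_mul, ← pow_succ'] at h4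
    have h5 := hinj h4; omega
  · have h3 : (p * Zc) * (p ^ s) ^ 2 = (p * Zc) * (p ^ r) ^ 2 := by rw [← e1, e2]
    have h4 := Nat.eq_of_mul_eq_mul_left (Nat.mul_pos hp.pos hZ) h3
    rw [← pow_mul, ← pow_mul] at h4
    have h5 := hinj h4; omega

theorem forward (p : ℕ) (hp : p.Prime) : ∀ (n : ℕ) (P : Type u) [Group P] [Finite P],
    Nat.card P = n → IsPGroup p P → ¬ IsMulCommutative P → GalProp P →
    IsCyclic (Subgroup.center P) ∧ Nat.card (commutator P) = p := by
  intro n
  induction n using Nat.strong_induction_on with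
  | _ n ih =>
  intro P _ _ hn hP hna hgal
  haveI : Fact p.Prime := ⟨hp⟩
  suffices hc : Nat.card (commutator P) = p from ⟨center_cyclic hp hP hna hgal hc, hc⟩
  have ih' : ∀ (Q : Type u) [Group Q] [Finite Q], Nat.card Q < Nat.card P → IsPGroup p Q →
      ¬ IsMulCommutative Q → GalProp Q →
      IsCyclic (Subgroup.center Q) ∧ Nat.card (commutator Q) = p :=
    fun Q _ _ hlt hQ hQna hQg => ih (Nat.card Q) (hn ▸ hlt) Q rfl hQ hQna hQg
  obtain ⟨z, hzc, hzP', hz1, hzp⟩ := exists_central_prime_in_commutator hp hP hna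
  set N : Subgroup P := Subgroup.zpowers z with hN
  have hNcard : Nat.card N = p := by
    rw [hN, Nat.card_zpowers]; exact orderOf_eq_prime hzp hz1
  have hNcen : N ≤ Subgroup.center P := (Subgroup.zpowers_le).mpr hzc
  have hNle : N ≤ commutator P := (Subgroup.zpowers_le).mpr hzP'
  haveI hNn : N.Normal := normal_of_le_center' hNcen
  by_contra hcne
  have hneN : commutator P ≠ N := fun h => hcne (h ▸ hNcard)
  obtain ⟨hQna, hQcycN, hQcN, hP'card⟩ := quot_basic hp hP ih' hgal N hNcard hNle hneN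
  have hA_N := card_comap_center hp hP N hNcen hNcard hQcycN
  obtain ⟨θ', hθ'⟩ := exists_nonlinear hQna
  have hθN : N ≤ irrKer (irrInfl N θ') := (irrInfl_range' N _).mp ⟨θ', rfl⟩
  have eθ : charDegree (irrInfl N θ').1 = charDegree θ'.1 := by
    unfold charDegree; rw [irrInfl_apply]; rfl
  have hθnl : charDegree (irrInfl N θ').1 ≠ 1 := by rw [eθ]; exact hθ'
  have hθcard := card_eq_comap_center_mul hp hP N hQcN (irrInfl N θ') hθN hθnl
  obtain ⟨χ, hχz⟩ := exists_irr_not_mem_ker z hz1
  have hχnl : charDegree χ.1 ≠ 1 := fun h => hχz (commutator_le_of_linear χ h hzP')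
  suffices hdeg : charDegree χ.1 = charDegree (irrInfl N θ').1 by
    have hk := irrKer_eq_of_galProp hgal χ (irrInfl N θ') hχnl hdeg
    exact hχz (hk ▸ hθN (Subgroup.mem_zpowers z))
  obtain ⟨s, hs⟩ := degree_pow hp hP χ
  obtain ⟨r, hr⟩ := degree_pow hp hP (irrInfl N θ')
  have hZpos : 0 < Nat.card (Subgroup.center P) := Nat.card_pos
  rw [hs, hr]
  congr 1
  rw [hr] at hθcard
  by_cases hcl : commutator P ≤ Subgroup.center P
  · by_cases hK : irrKer χ ⊓ commutator P = ⊥
    · have hχcard : Nat.card P = Nat.card (Subgroup.center P) * charDegree χ.1 ^ 2 := by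
        apply card_eq_of_vanish_off χ _ le_rfl
        intro g hg
        rw [Subgroup.mem_center_iff] at hg; push Not at hg
        obtain ⟨x, hx⟩ := hg
        have hcm : ⁅x, g⁆ ∈ commutator P :=
          Subgroup.commutator_mem_commutator (Subgroup.mem_top x) (Subgroup.mem_top g)
        have hne1 : ⁅x, g⁆ ≠ 1 := fun h => hx (commutatorElement_eq_one_iff_mul_comm.mp h)
        apply vanish_of_central_comm χ g x (hcl hcm)
        intro hk
        apply hne1
        have h5 : ⁅x, g⁆ ∈ irrKer χ ⊓ commutator P := ⟨(mem_irrKer χ _).mpr hk, hcm⟩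
        rw [hK] at h5; exact Subgroup.mem_bot.mp h5
      rw [hs] at hχcard
      exact parity_aux hp hZpos (Or.inl rfl) hA_N hχcard hθcard
    · have hKle : irrKer χ ⊓ commutator P ≤ commutator P := inf_le_right
      have hKcen : irrKer χ ⊓ commutator P ≤ Subgroup.center P := hKle.trans hcl
      haveI : (irrKer χ ⊓ commutator P).Normal := normal_of_le_center' hKcen
      have hKne : commutator P ≠ irrKer χ ⊓ commutator P := by
        intro h
        apply hχz
        have h5 : z ∈ irrKer χ ⊓ commutator P := by rw [← h]; exact hzP'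
        exact h5.1
      have hKcard : Nat.card ↥(irrKer χ ⊓ commutator P) = p := by
        have hdvd : Nat.card ↥(irrKer χ ⊓ commutator P) ∣ p ^ 2 :=
          hP'card ▸ Subgroup.card_dvd_of_le hKle
        obtain ⟨j, hj2, hj⟩ := (Nat.dvd_prime_pow hp).mp hdvd
        have hj0 : j ≠ 0 := by
          rintro rfl
          rw [pow_zero] at hj
          exact hK (Subgroup.eq_bot_of_card_eq _ hj)
        have hj2' : j ≠ 2 := by
          rintro rfl
          exact hKne (Subgroup.eq_of_le_of_card_ge hKle (by rw [hj, hP'card])).symm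
        have hj1 : j = 1 := by omega
        rw [hj, hj1, pow_one]
      obtain ⟨-, hQcycK, hQcK, -⟩ := quot_basic hp hP ih' hgal _ hKcard hKle hKne
      have hA_K := card_comap_center hp hP _ hKcen hKcard hQcycK
      have hχcard := card_eq_comap_center_mul hp hP _ hQcK χ inf_le_left hχnl
      rw [hs] at hχcard
      exact parity_aux hp hZpos hA_K hA_N hχcard hθcard
  · obtain ⟨u, hu, huZ⟩ := SetLike.not_le_iff_exists.mp hcl
    have hA : Nat.card ((Subgroup.center (P ⧸ N)).comap (QuotientGroup.mk' N)) =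
        p * Nat.card (Subgroup.center P) := by
      rcases hA_N with h | h
      · exfalso
        have heq := Subgroup.eq_of_le_of_card_ge (center_le_comap N) (le_of_eq h)
        apply huZ
        rw [heq]
        have hcz : commutator (P ⧸ N) ≤ Subgroup.center (P ⧸ N) :=
          normal_prime_le_center hp (hP.to_quotient N) _ hQcN
        exact hcz (mk_mem_commutator N u hu)
      · exact h
    rw [hA] at hθcard
    obtain ⟨C, hCidx, hCcomm⟩ :=
      exists_index_le_p hp hP N hNcen hNcard hNle hP'card hQcN u hu huZ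
    have hθle : p ^ r ≤ p := by
      rw [← hr, eθ]
      have hAb : ∀ a ∈ C.map (QuotientGroup.mk' N), ∀ b ∈ C.map (QuotientGroup.mk' N),
          a * b = b * a := by
        rintro _ ⟨a, ha, rfl⟩ _ ⟨b, hb, rfl⟩
        show (a : P ⧸ N) * (b : P ⧸ N) = (b : P ⧸ N) * (a : P ⧸ N)
        rw [← QuotientGroup.mk_mul, ← QuotientGroup.mk_mul, QuotientGroup.eq]
        have h5 := hCcomm b⁻¹ (inv_mem hb) a⁻¹ (inv_mem ha)
        have e5 : (a * b)⁻¹ * (b * a) = ⁅b⁻¹, a⁻¹⁆ := by rw [commutatorElement_def]; group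
        rw [e5]; exact h5
      have h6 := irr_degree_le_index_of_abelian θ' (C.map (QuotientGroup.mk' N)) hAb
      have h7 : (C.map (QuotientGroup.mk' N)).index ≤ p := by
        have h8 := Subgroup.index_map_dvd (H := C) (QuotientGroup.mk'_surjective N)
        have h9 : C.index ≠ 0 := Subgroup.index_ne_zero_of_finite
        exact (Nat.le_of_dvd (Nat.pos_of_ne_zero h9) h8).trans hCidx
      unfold charDegree
      apply Nat.floor_le_of_le
      exact h6.trans (by exact_mod_cast h7)
    have hχle := card_mul_sq_le_of_central χ (Subgroup.center P) le_rfl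
    have hχ1 : ‖χ.1 1‖ = ((p ^ s : ℕ) : ℝ) := by
      rw [← charDegree_cast, hs]; simp
    rw [hχ1] at hχle
    have hχle' : Nat.card (Subgroup.center P) * (p ^ s) ^ 2 ≤ Nat.card P := by
      exact_mod_cast hχle
    rw [hθcard] at hχle'
    have h10 : (p ^ s) ^ 2 ≤ p * (p ^ r) ^ 2 := by
      have h13 : Nat.card (Subgroup.center P) * (p ^ s) ^ 2 ≤
          Nat.card (Subgroup.center P) * (p * (p ^ r) ^ 2) := by
        calc _ ≤ p * Nat.card (Subgroup.center P) * (p ^ r) ^ 2 := hχle'
          _ = _ := by ring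
      exact Nat.le_of_mul_le_mul_left h13 hZpos
    rw [← pow_mul, ← pow_mul, ← pow_succ'] at h10
    have h11 := (Nat.pow_le_pow_iff_right hp.one_lt).mp h10
    have h12 : r ≤ 1 := by
      have h14 : p ^ r ≤ p ^ 1 := by rw [pow_one]; exact hθle
      exact (Nat.pow_le_pow_iff_right hp.one_lt).mp h14
    have hs0 : s ≠ 0 := by rintro rfl; exact hχnl (by rw [hs, pow_zero])
    have hr0 : r ≠ 0 := by rintro rfl; exact hθnl (by rw [hr, pow_zero])
    omega

end SameDeg
end Cfsg.Agent.Lib.helper24
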