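import Mathlib
import Cfsg.Agent.Lib.helper24.SameDeg5

set_option autoImplicit false
open Cfsg
open scoped ComplexConjugate
open scoped commutatorElement
universe u

namespace Cfsg.Agent.Lib.helper24
namespace SameDeg

variable {G : Type u} [Group G]

theorem backward [Finite G] {p : ℕ} (hp : p.Prime) (hP : IsPGroup p G)
    (hcyc : IsCyclic (Subgroup.center G)) (hc : Nat.card (commutator G) = p) : GalProp G := by
  haveI : Fact p.Prime := ⟨hp⟩
  intro χ ψ hχnl hdeg
  have hψnl : charDegree ψ.1 ≠ 1 := hdeg ▸ hχnl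
  have hcz : commutator G ≤ Subgroup.center G := normal_prime_le_center hp hP _ hc
  obtain ⟨⟨w, hw⟩, hgen⟩ := IsCyclic.exists_monoid_generator (α := Subgroup.center G)
  have hgen' : ∀ g ∈ Subgroup.center G, ∃ i : ℕ, w ^ i = g := by
    intro g hg
    obtain ⟨i, hi⟩ := (Submonoid.mem_powers_iff _ _).mp (hgen ⟨g, hg⟩)
    exact ⟨i, by simpa using congrArg Subtype.val hi⟩
  obtain ⟨c, hcZ⟩ := (IsPGroup.iff_card).mp (hP.to_subgroup (Subgroup.center G))
  have hordw : orderOf w = p ^ c := by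
    have h1 : orderOf (⟨w, hw⟩ : Subgroup.center G) = Nat.card (Subgroup.center G) :=
      orderOf_eq_card_of_forall_mem_zpowers (fun x => by
        obtain ⟨i, hi⟩ := (Submonoid.mem_powers_iff _ _).mp (hgen x)
        exact Subgroup.mem_zpowers_iff.mpr ⟨(i : ℤ), by rw [zpow_natCast]; exact hi⟩)
    rw [← hcZ, ← h1]; exact (Subgroup.orderOf_mk w hw).symm
  have hcne : commutator G ≠ ⊥ := by
    intro h; rw [h, Subgroup.card_bot] at hc; exact hp.one_lt.ne hc
  have hc0 : c ≠ 0 := by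
    rintro rfl
    have h1 : Nat.card (Subgroup.center G) = 1 := by rw [hcZ, pow_zero]
    have hbot : Subgroup.center G = ⊥ := Subgroup.eq_bot_of_card_eq _ h1
    exact hcne (le_bot_iff.mp (hbot ▸ hcz))
  obtain ⟨⟨t, ht⟩, ht1'⟩ := (Subgroup.ne_bot_iff_exists_ne_one).mp hcne
  have ht1 : t ≠ 1 := fun e => ht1' (Subtype.ext e)
  have htp : t ^ p = 1 := by
    have h1 := pow_card_eq_one' (G := commutator G) (x := ⟨t, ht⟩)
    rw [hc] at h1; exact congrArg Subtype.val h1
  have hprim : ∀ φ : IrrCharacter G, charDegree φ.1 ≠ 1 →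
      IsPrimitiveRoot (φ.1 w / φ.1 1) (p ^ c) := by
    intro φ hφnl
    have h1 := irr_one_ne_zero φ
    have hpow : ∀ k : ℕ, φ.1 (w ^ k) = φ.1 1 * (φ.1 w / φ.1 1) ^ k := central_pow φ hw
    have hfin : (φ.1 w / φ.1 1) ^ p ^ c = 1 := by
      have h2 := hpow (p ^ c)
      rw [← hordw, pow_orderOf_eq_one] at h2
      have h3 : φ.1 1 * 1 = φ.1 1 * (φ.1 w / φ.1 1) ^ orderOf w := by rw [mul_one]; exact h2
      rw [← hordw]; exact (mul_left_cancel₀ h1 h3).symm
    have hnot : ¬ (φ.1 w / φ.1 1) ^ p ^ (c - 1) = 1 := by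
      intro h2
      have h3 : w ^ p ^ (c - 1) ∈ irrKer φ := by rw [mem_irrKer, hpow, h2, mul_one]
      obtain ⟨i, hi⟩ := hgen' t (hcz ht)
      have h4 : p ^ c ∣ i * p := by
        rw [← hordw]; apply orderOf_dvd_of_pow_eq_one; rw [pow_mul, hi, htp]
      have h5 : p ^ (c - 1) ∣ i := by
        have e : p ^ c = p ^ (c - 1) * p := by rw [← pow_succ]; congr 1; omega
        rw [e] at h4
        exact Nat.dvd_of_mul_dvd_mul_right hp.pos h4
      obtain ⟨q, hq⟩ := h5
      have h6 : t ∈ irrKer φ := by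
        rw [← hi, hq, pow_mul]; exact pow_mem h3 q
      exact hφnl (linear_of_commutator_le φ (le_of_prime_card_of_mem hp hc ht h6 ht1))
    have hord : orderOf (φ.1 w / φ.1 1) = p ^ (c - 1 + 1) :=
      orderOf_eq_prime_pow hnot (by rw [show c - 1 + 1 = c by omega]; exact hfin)
    rw [show c - 1 + 1 = c by omega] at hord
    rw [← hord]; exact IsPrimitiveRoot.orderOf _
  have hχp := hprim χ hχnl
  have hψp := hprim ψ hψnl
  haveI : NeZero (p ^ c) := ⟨pow_ne_zero _ hp.ne_zero⟩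
  obtain ⟨k, hklt, hk⟩ := hχp.eq_pow_of_pow_eq_one (ξ := ψ.1 w / ψ.1 1) hψp.pow_eq_one
  have hkcop : k.Coprime (p ^ c) := by
    rw [← hk] at hψp
    exact (hχp.pow_iff_coprime (pow_pos hp.pos c) k).mp hψp
  have hkp : k.Coprime p := (Nat.coprime_pow_right_iff (Nat.pos_of_ne_zero hc0) k p).mp hkcop
  obtain ⟨m, hm⟩ := (IsPGroup.iff_card).mp hP
  have hkG : k.Coprime (Nat.card G) := by rw [hm]; exact Nat.Coprime.pow_right m hkp
  refine ⟨k, hkG, ?_⟩
  intro g
  have hd1 : ψ.1 1 = χ.1 1 := by rw [← charDegree_cast, ← charDegree_cast, hdeg]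
  by_cases hg : g ∈ Subgroup.center G
  · obtain ⟨i, rfl⟩ := hgen' g hg
    have e1 : ψ.1 (w ^ i) = ψ.1 1 * (ψ.1 w / ψ.1 1) ^ i := central_pow ψ hw i
    have e2 : χ.1 ((w ^ i) ^ k) = χ.1 1 * (χ.1 w / χ.1 1) ^ (i * k) := by
      rw [← pow_mul]; exact central_pow χ hw (i * k)
    rw [e1, e2, ← hk, hd1, ← pow_mul, mul_comm k i]
  · rw [vanish_off_center hp hc hcz ψ hψnl g hg]
    symm
    apply vanish_off_center hp hc hcz χ hχnl
    intro hgk
    apply hg
    obtain ⟨j, hj⟩ := exists_pow_eq_self_of_coprime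
      (Nat.Coprime.coprime_dvd_right (orderOf_dvd_natCard g) hkG)
    rw [← hj]; exact pow_mem hgk j

theorem same_degree_galois_iff {P : Type u} [Group P] [Finite P] (p : ℕ) [Fact p.Prime]
    (hP : IsPGroup p P) (hna : ¬ IsMulCommutative P) :
    (∀ χ ψ : IrrCharacter P, charDegree (χ : P → ℂ) ≠ 1 →
      charDegree (χ : P → ℂ) = charDegree (ψ : P → ℂ) →
      ∃ k : ℕ, Nat.Coprime k (Nat.card P) ∧ ∀ g : P, (ψ : P → ℂ) g = (χ : P → ℂ) (g ^ k)) ↔
      (IsCyclic (Subgroup.center P) ∧ Nat.card (commutator P) = p) := by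
  have hp : p.Prime := Fact.out
  constructor
  · intro h; exact forward p hp (Nat.card P) P rfl hP hna h
  · rintro ⟨h1, h2⟩; exact backward hp hP h1 h2

end SameDeg
end Cfsg.Agent.Lib.helper24
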